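import Cfsg.Agent.Lib.Spor.LargeJ4.Model
import Cfsg.Agent.Lib.Spor.LargeFi.Setup
import Cfsg.Agent.Lib.ThreeTransp.LargeFitting
import Cfsg.Prelude.Def_JankoFourType

/-!
A group of fourth Janko type gives a coordinate model of the centraliser of the involution.
-/

set_option autoImplicit false

namespace CfsgLib.Spor.LargeFi.J4

open Cfsg CfsgLib.ThreeTransp CfsgLib.Involutions

variable {G : Type*} [Group G] [Finite G] {z : G} {P : Subgroup G}

/-- the 2-core of the centraliser, inside the centraliser -/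
abbrev coreH (z : G) : Subgroup (Subgroup.centralizer ({z} : Set G)) :=
  pCore 2 ↥(Subgroup.centralizer ({z} : Set G))

theorem model_of_type (hJ : IsOfJankoFourTypeWith z P) : Nonempty (Model (coreH z) (zH z)) := by
  classical
  obtain ⟨hz, hEx, hcard, hcent, ⟨N, hEN, hNH, hHN, hNcard, ⟨hNn, ⟨eN⟩⟩, hPN⟩, hP, hfix, hne, -⟩ := hJ
  let C := Subgroup.centralizer ({z} : Set G)
  have hinj : Function.Injective C.subtype := Subtype.val_injective
  have eQ : ↥(coreH z) ≃* ↥(twoCoreOfCentralizer z) := (coreH z).equivMapOfInjective _ hinj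
  have hEQ : IsExtraspecial 2 ↥(coreH z) := extraspecial_equiv eQ.symm hEx
  have hQ : Nat.card ↥(coreH z) = 2 ^ 13 := by rw [Nat.card_congr eQ.toEquiv, hcard]
  have hC : Subgroup.centralizer (coreH z : Set C) ≤ coreH z := by
    intro c hc
    have h1 : (c : G) ∈ twoCoreOfCentralizer z := by
      refine hcent ⟨c.2, Subgroup.mem_centralizer_iff.2 ?_⟩
      rintro _ ⟨q, hq, rfl⟩
      exact congrArg Subtype.val (Subgroup.mem_centralizer_iff.1 hc q hq)
    obtain ⟨q, hq, e⟩ := h1
    exact (Subtype.ext e : q = c) ▸ hq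
  have hzQ : zH z ∈ coreH z := hC (Subgroup.mem_centralizer_iff.2 fun y _ => zH_comm y)
  have hX : XCent (coreH z) (zH z) := by
    refine xCent_mk hEQ hC (mem_centerIn.2 ⟨hzQ, fun q _ => zH_comm q⟩) ?_ ?_
    · intro h
      have h' : z = 1 := congrArg Subtype.val h
      rw [h', orderOf_one] at hz
      norm_num at hz
    · rw [Subgroup.normalizer_eq_top]
      exact le_top
  haveI := hNn
  have hQN : coreH z ≤ N.subgroupOf C := fun q hq =>
    Subgroup.mem_subgroupOf.2 (hEN ⟨q, hq, rfl⟩)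
  have hN : Nat.card ↥(N.subgroupOf C) = 3 * Nat.card ↥(coreH z) := by
    rw [Nat.card_congr (Subgroup.subgroupOfEquivOfLe hNH).toEquiv, hNcard, Nat.card_congr eQ.toEquiv]
  haveI : Fact (Nat.Prime 3) := ⟨by norm_num⟩
  obtain ⟨⟨x, hxP⟩, hx⟩ := exists_prime_orderOf_dvd_card' (G := P) 3 (by rw [hP])
  rw [Subgroup.orderOf_mk] at hx
  have hgen : Subgroup.zpowers x = P :=
    Subgroup.eq_of_le_of_card_ge (Subgroup.zpowers_le.2 hxP) (by rw [hP, Nat.card_zpowers, hx])
  have hxC : x ∈ C := hNH (hPN hxP)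
  refine exists_model hX zH_comm hQ (N.subgroupOf C) hQN hN eN ⟨x, hxC⟩
    (Subgroup.mem_subgroupOf.2 (hPN hxP)) (Subtype.ext (by
      show x ^ 3 = 1
      rw [← hx, pow_orderOf_eq_one])) (fun h => by
      have h' : x = 1 := congrArg Subtype.val h
      rw [h', orderOf_one] at hx
      norm_num at hx) ?_ ?_
  · intro q hq hqx
    have h1 : (q : G) ∈ twoCoreOfCentralizer z ⊓ Subgroup.centralizer (P : Set G) := by
      refine ⟨⟨q, hq, rfl⟩, Subgroup.mem_centralizer_iff.2 fun p hp => ?_⟩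
      rw [← hgen] at hp
      obtain ⟨j, rfl⟩ := Subgroup.mem_zpowers_iff.1 hp
      exact (Commute.zpow_right (congrArg Subtype.val hqx : Commute (q : G) x) j).eq.symm
    rw [hfix, Subgroup.mem_zpowers_iff] at h1
    obtain ⟨j, hj⟩ := h1
    have hz2 : z ^ (2 : ℕ) = 1 := by rw [← hz, pow_orderOf_eq_one]
    rw [zpow_eq_zpow_emod' j hz2] at hj
    have h0 : 0 ≤ j % ((2 : ℕ) : ℤ) := Int.emod_nonneg _ (by norm_num)
    have h1 : j % ((2 : ℕ) : ℤ) < 2 := Int.emod_lt_of_pos _ (by norm_num)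
    interval_cases (j % ((2 : ℕ) : ℤ))
    · exact Or.inl (Subtype.ext (by rw [← hj, zpow_zero]; rfl))
    · exact Or.inr (Subtype.ext (by rw [← hj, zpow_one]; rfl))
  · by_contra hcon
    push Not at hcon
    refine hne (le_antisymm ?_ fun h hh => ⟨hh.1, Subgroup.mem_normalizer_iff.2 ?_⟩)
    · rintro h ⟨hC', hn⟩
      refine ⟨hC', Subgroup.mem_centralizer_iff.2 fun p hp => ?_⟩
      have h1 : h * x * h⁻¹ ∈ P := (Subgroup.mem_normalizer_iff.1 hn x).1 hxP
      rw [← hgen, Subgroup.mem_zpowers_iff] at h1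
      obtain ⟨j, hj⟩ := h1
      have hx3 : x ^ (3 : ℕ) = 1 := by rw [← hx, pow_orderOf_eq_one]
      rw [zpow_eq_zpow_emod' j hx3] at hj
      have h0 : 0 ≤ j % ((3 : ℕ) : ℤ) := Int.emod_nonneg _ (by norm_num)
      have h2 : j % ((3 : ℕ) : ℤ) < 3 := Int.emod_lt_of_pos _ (by norm_num)
      have hcx : h * x * h⁻¹ = x := by
        interval_cases (j % ((3 : ℕ) : ℤ))
        · rw [zpow_zero, eq_comm, mul_inv_eq_one, mul_eq_left] at hj
          rw [hj, orderOf_one] at hx
          norm_num at hx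
        · rw [← hj, zpow_one]
        · refine absurd (Subtype.ext ?_) (hcon ⟨h, hC'⟩)
          show h * x * h⁻¹ = x * x
          rw [← hj, show (2 : ℤ) = ((2 : ℕ) : ℤ) from rfl, zpow_natCast, pow_two]
      rw [← hgen] at hp
      obtain ⟨i, rfl⟩ := Subgroup.mem_zpowers_iff.1 hp
      exact (Commute.zpow_left (mul_inv_eq_iff_eq_mul.1 hcx : Commute h x).symm i).eq
    · intro p
      constructor
      · intro hp
        rw [← Subgroup.mem_centralizer_iff.1 hh.2 p hp, mul_inv_cancel_right]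
        exact hp
      · intro hp
        have h' := Subgroup.mem_centralizer_iff.1 hh.2 _ hp
        rw [inv_mul_cancel_right] at h'
        exact (mul_left_cancel h') ▸ hp

end CfsgLib.Spor.LargeFi.J4
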