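import Cfsg.Agent.Lib.Spor.LargeJ4.NotClosedKit
import Cfsg.Agent.Lib.Spor.LargeJ4.Setup
import Cfsg.Agent.Lib.Involutions.ZStar.Main
import Cfsg.Agent.Lib.Involutions.Isolated

/-!
In a simple group of fourth Janko type the involution is conjugate to another element of the largest
normal 2-subgroup of its centraliser.
-/

set_option autoImplicit false
set_option maxRecDepth 100000
set_option maxHeartbeats 1000000

namespace CfsgLib.Spor.LargeFi.J4

open CfsgLib.Spor.U62 CfsgLib.ThreeTransp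

variable {G : Type*} [Group G]

/-- the centraliser of an element -/
abbrev cz (z : G) : Subgroup G := Subgroup.centralizer ({z} : Set G)

/-- the 2-core of the centraliser, in the group -/
def qIn (z : G) : Subgroup G := (coreH z).map (cz z).subtype

variable {z : G}

theorem mem_qIn {h : cz z} : (h : G) ∈ qIn z ↔ h ∈ coreH z :=
  Subgroup.mem_map_iff_mem (Subgroup.subtype_injective _)

theorem qIn_le {x : G} (hx : x ∈ qIn z) : x ∈ cz z := by
  obtain ⟨q, -, rfl⟩ := hx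
  exact q.2

theorem qIn_comm {x : G} (hx : x ∈ qIn z) : x * z = z * x :=
  Subgroup.mem_centralizer_singleton_iff.1 (qIn_le hx)

theorem qIn_conj {h x : G} (hh : h ∈ cz z) (hx : x ∈ qIn z) : h * x * h⁻¹ ∈ qIn z := by
  obtain ⟨q, hq, rfl⟩ := hx
  exact ⟨(⟨h, hh⟩ : cz z) * q * (⟨h, hh⟩ : cz z)⁻¹,
    (inferInstance : (coreH z).Normal).conj_mem _ hq _, rfl⟩

theorem swap_comm {g : G} (hc : Commute z (g * z * g⁻¹)) : Commute z (g⁻¹ * z * g⁻¹⁻¹) := by
  show z * _ = _ * z
  have h := congrArg (fun t => g⁻¹ * t * g) hc.eq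
  simp only [mul_assoc, inv_mul_cancel_left, inv_mul_cancel, mul_one] at h
  rw [inv_inv]
  simp only [mul_assoc]
  exact h.symm

theorem swap_ne {g : G} (hne : g * z * g⁻¹ ≠ z) : g⁻¹ * z * g⁻¹⁻¹ ≠ z := fun h => hne (by
  rw [inv_inv] at h
  conv_lhs => rw [← h]
  group)

/-- the second involution, inside the centraliser -/
def sH {g : G} (hc : Commute z (g * z * g⁻¹)) : cz z :=
  ⟨g * z * g⁻¹, Subgroup.mem_centralizer_singleton_iff.2 hc.symm.eq⟩

/-- the members of the 2-core commuting with the second involution -/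
def dfix {g : G} (hc : Commute z (g * z * g⁻¹)) : Subgroup (cz z) :=
  coreH z ⊓ Subgroup.centralizer {sH hc}

/-- the common part of the two 2-cores -/
def dcl (z g : G) : Subgroup (cz z) :=
  coreH z ⊓ ((qIn z).map (MulAut.conj g).toMonoidHom).subgroupOf (cz z)

theorem mem_dcl {g : G} {e : cz z} : e ∈ dcl z g ↔ e ∈ coreH z ∧ g⁻¹ * (e : G) * g ∈ qIn z := by
  rw [dcl, Subgroup.mem_inf, Subgroup.mem_subgroupOf, Subgroup.mem_map_equiv, MulAut.conj_symm_apply]

/-- the members of the centraliser fixing the part of the 2-core, transported -/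
def aImg {g : G} (hc : Commute z (g * z * g⁻¹)) : Subgroup (cz z) :=
  (((dfix hc).map (cz z).subtype).map (MulAut.conj g⁻¹).toMonoidHom).subgroupOf (cz z)

theorem mem_aImg {g : G} {hc : Commute z (g * z * g⁻¹)} {a : cz z} :
    a ∈ aImg hc ↔ ∃ d ∈ dfix hc, g⁻¹ * (d : G) * g = a := by
  rw [aImg, Subgroup.mem_subgroupOf, Subgroup.mem_map]
  constructor
  · rintro ⟨_, ⟨d, hd, rfl⟩, e⟩
    exact ⟨d, hd, by rw [← e]; simp⟩
  · rintro ⟨d, hd, e⟩
    exact ⟨d, ⟨d, hd, rfl⟩, by rw [← e]; simp⟩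

theorem mem_dfix {g : G} {hc : Commute z (g * z * g⁻¹)} {d : cz z} :
    d ∈ dfix hc ↔ d ∈ coreH z ∧ Commute (d : G) (g * z * g⁻¹) := by
  rw [dfix, Subgroup.mem_inf, Subgroup.mem_centralizer_singleton_iff]
  exact and_congr_right fun _ => ⟨fun h => congrArg Subtype.val h, fun h => Subtype.ext h.eq⟩

theorem dfix_back {g : G} {hc : Commute z (g * z * g⁻¹)} {d : cz z} (hd : d ∈ dfix hc) :
    g⁻¹ * (d : G) * g ∈ cz z := by
  have h := congrArg (fun t => g⁻¹ * t * g) (mem_dfix.1 hd).2.eq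
  simp only [mul_assoc, inv_mul_cancel_left, inv_mul_cancel, mul_one] at h
  exact Subgroup.mem_centralizer_singleton_iff.2 (by simpa only [mul_assoc] using h)

variable [Finite G] (D : Model (coreH z) (zH z))
  (hw : ∀ x : G, x * z * x⁻¹ ∈ qIn z → x * z * x⁻¹ = z)

section one

variable {g : G} (hc : Commute z (g * z * g⁻¹)) (hne : g * z * g⁻¹ ≠ z)

include hw hne

theorem sH_notMem : sH hc ∉ coreH z := fun h => hne (hw g (mem_qIn.2 h))

theorem z_notMem_dcl : zH z ∉ dcl z g := fun h => by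
  have h1 := hw g⁻¹ (by rw [inv_inv]; exact (mem_dcl.1 h).2)
  exact swap_ne hne h1

omit hne in
include hc in
/-- no displacement other than one is common to both 2-cores -/
theorem eq_one_of_disp {e : cz z} (he : e ∈ dcl z g) {q : cz z} (hq : q ∈ coreH z)
    (h : e = sH hc * q * (sH hc)⁻¹ * q⁻¹) (D : Model (coreH z) (zH z)) : e = 1 := by
  obtain ⟨heQ, heS⟩ := mem_dcl.1 he
  have hzz : z * z = 1 := congrArg Subtype.val D.xc.inv
  have hzi : z⁻¹ = z := inv_eq_of_mul_eq_one_right hzz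
  have hzQ : z ∈ qIn z := mem_qIn (h := zH z).2 D.xc.mem
  have hzh : z * (g⁻¹ * (e : G) * g) ∈ qIn z := mul_mem hzQ heS
  have hval : (e : G) = g * z * g⁻¹ * q * (g * z * g⁻¹)⁻¹ * (q : G)⁻¹ := congrArg Subtype.val h
  have hsinv : (g * z * g⁻¹)⁻¹ = g * z * g⁻¹ := by
    rw [mul_inv_rev, mul_inv_rev, inv_inv, hzi, ← mul_assoc]
  have e1 : z * (g⁻¹ * (e : G) * g) = (g⁻¹ * q * g) * z * (g⁻¹ * q * g)⁻¹ := by
    rw [hval, hsinv]
    simp only [mul_inv_rev, inv_inv, mul_assoc, inv_mul_cancel_left]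
    rw [← mul_assoc z z, hzz, one_mul]
  have h2 := hw _ (e1 ▸ hzh)
  rw [← e1, mul_eq_left] at h2
  refine Subtype.ext ?_
  have h3 := congrArg (fun t => g * t * g⁻¹) h2
  simpa [mul_assoc] using h3

omit hne in
include D hc in
theorem dcl_le_dfix : dcl z g ≤ dfix hc := fun e he => by
  obtain ⟨heQ, heS⟩ := mem_dcl.1 he
  refine mem_dfix.2 ⟨heQ, ?_⟩
  have h := congrArg (fun t => g * t * g⁻¹) (qIn_comm heS)
  simp only [mul_assoc, mul_inv_cancel_left, mul_inv_cancel, mul_one] at h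
  show (e : G) * _ = _ * (e : G)
  simpa only [mul_assoc] using h

include D hc

theorem dcl_central {e d : cz z} (he : e ∈ dcl z g) (hd : d ∈ dfix hc) : e * d = d * e := by
  obtain ⟨heQ, heS⟩ := mem_dcl.1 he
  obtain ⟨hdQ, -⟩ := mem_dfix.1 hd
  rcases D.xc.commEl e heQ d hdQ with h | h
  · exact mul_inv_eq_iff_eq_mul.1 h
  · refine absurd ?_ (z_notMem_dcl hw hne)
    refine mem_dcl.2 ⟨D.xc.mem, ?_⟩
    have hz' : z = (e : G) * d * (e : G)⁻¹ * (d : G)⁻¹ := by
      have h' : (e : G) * d * (e : G)⁻¹ = z * d := congrArg Subtype.val h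
      rw [h', mul_inv_cancel_right]
    show g⁻¹ * z * g ∈ qIn z
    rw [show g⁻¹ * z * g = g⁻¹ * ((e : G) * d * (e : G)⁻¹ * (d : G)⁻¹) * g by rw [← hz'], show g⁻¹ * ((e : G) * d * (e : G)⁻¹ * (d : G)⁻¹) * g = (g⁻¹ * e * g) *
      ((g⁻¹ * d * g) * (g⁻¹ * e * g)⁻¹ * (g⁻¹ * d * g)⁻¹) by group]
    exact mul_mem heS (qIn_conj (dfix_back hd) (inv_mem heS))

omit hc in
theorem dcl_sq {e : cz z} (he : e ∈ dcl z g) : e * e = 1 :=
  (D.xc.sq e (mem_dcl.1 he).1).resolve_right fun h => z_notMem_dcl hw hne (h ▸ mul_mem he he)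

omit hc in
theorem dcl_vec {e : cz z} (he : e ∈ dcl z g) (h0 : D.vec ⟨e, (mem_dcl.1 he).1⟩ = 0) : e = 1 :=
  ((D.vec_eq_zero _).1 h0).resolve_right fun h => z_notMem_dcl hw hne (by
    have h' : e = zH z := h
    exact h' ▸ he)

omit hne in
theorem vec_disp {q : cz z} (hq : q ∈ coreH z)
    (hm : sH hc * q * (sH hc)⁻¹ * q⁻¹ ∈ coreH z) :
    D.vec ⟨_, hm⟩ = D.act (sH hc) (D.vec ⟨q, hq⟩) + D.vec ⟨q, hq⟩ := by
  have hm' : sH hc * q * (sH hc)⁻¹ ∈ coreH z := (inferInstance : (coreH z).Normal).conj_mem _ hq _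
  have hi : D.vec ⟨q, hq⟩⁻¹ = D.vec ⟨q, hq⟩ := by
    have h' := D.vec_mul ⟨q, hq⟩ ⟨q, hq⟩⁻¹
    rw [mul_inv_cancel, (D.vec_zero_iff 1).2 (Or.inl rfl)] at h'
    exact add_left_cancel (h'.symm.trans (v6_two _).symm)
  rw [show (⟨_, hm⟩ : coreH z) = ⟨_, hm'⟩ * ⟨q, hq⟩⁻¹ from rfl, D.vec_mul, hi, ← D.vec_conj]
  rfl

omit hne in
/-- a fixed element moves by the centre only -/
theorem disp_cases {q : coreH z} (hq : q ∈ D.fixP (sH hc)) :
    sH hc * (q : cz z) * (sH hc)⁻¹ * (q : cz z)⁻¹ = 1 ∨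
      sH hc * (q : cz z) * (sH hc)⁻¹ * (q : cz z)⁻¹ = zH z := by
  have hm : sH hc * (q : cz z) * (sH hc)⁻¹ * (q : cz z)⁻¹ ∈ coreH z :=
    mul_mem ((inferInstance : (coreH z).Normal).conj_mem _ q.2 _) (inv_mem q.2)
  refine (D.vec_eq_zero ⟨_, hm⟩).1 ?_
  rw [vec_disp D hw hc q.2 hm]
  exact (congrArg (· + D.vec q) hq).trans (v6_two _)

omit hne in
theorem dfix_le_fixP {d : cz z} (hd : d ∈ dfix hc) :
    (⟨d, (mem_dfix.1 hd).1⟩ : coreH z) ∈ D.fixP (sH hc) := by
  obtain ⟨hdQ, hcm⟩ := mem_dfix.1 hd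
  have hm : sH hc * d * (sH hc)⁻¹ ∈ coreH z := (inferInstance : (coreH z).Normal).conj_mem _ hdQ _
  show D.act (sH hc) (D.vec ⟨d, hdQ⟩) = D.vec ⟨d, hdQ⟩
  rw [← D.vec_conj]
  congr 1
  exact Subtype.ext (mul_inv_eq_iff_eq_mul.2 (Subtype.ext hcm.eq.symm))

/-- a common element which is a displacement is one up to the centre -/
theorem exists_disp {e : cz z} (he : e ∈ dcl z g) (he1 : e ≠ 1)
    (hK : ∃ u, D.act (sH hc) u + u = D.vec ⟨e, (mem_dcl.1 he).1⟩) :
    ∃ q ∈ coreH z, sH hc * q * (sH hc)⁻¹ * q⁻¹ = zH z * e := by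
  obtain ⟨u, hu⟩ := hK
  obtain ⟨⟨q, hq⟩, rfl⟩ := D.vec_surj u
  have hm : sH hc * q * (sH hc)⁻¹ * q⁻¹ ∈ coreH z :=
    mul_mem ((inferInstance : (coreH z).Normal).conj_mem _ hq _) (inv_mem hq)
  rw [← vec_disp D hw hc hq hm] at hu
  refine ⟨q, hq, ?_⟩
  have hd : D.vec (⟨_, hm⟩ * ⟨e, (mem_dcl.1 he).1⟩ : coreH z) = 0 := by
    rw [D.vec_mul, hu, v6_two]
  rcases (D.vec_eq_zero _).1 hd with h | h
  · have h' : sH hc * q * (sH hc)⁻¹ * q⁻¹ * e = 1 := h
    rw [mul_eq_one_iff_eq_inv, inv_eq_of_mul_eq_one_right (dcl_sq D hw hne he)] at h'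
    exact absurd (eq_one_of_disp hw hc he hq h'.symm D) he1
  · have h' : sH hc * q * (sH hc)⁻¹ * q⁻¹ * e = zH z := h
    calc sH hc * q * (sH hc)⁻¹ * q⁻¹ = sH hc * q * (sH hc)⁻¹ * q⁻¹ * (e * e) := by
          rw [dcl_sq D hw hne he, mul_one]
      _ = zH z * e := by rw [← mul_assoc, h']

omit hne in
theorem disp_mul (a b : cz z) : sH hc * (a * b) * (sH hc)⁻¹ * (a * b)⁻¹ =
    sH hc * a * (sH hc)⁻¹ * a⁻¹ * (a * (sH hc * b * (sH hc)⁻¹ * b⁻¹) * a⁻¹) := by group

/-- with an element moved by the centre no common element is a displacement -/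
theorem no_disp_of_moved {e : cz z} (he : e ∈ dcl z g) (he1 : e ≠ 1)
    (hK : ∃ u, D.act (sH hc) u + u = D.vec ⟨e, (mem_dcl.1 he).1⟩) {q0 : cz z} (hq0 : q0 ∈ coreH z)
    (h0 : sH hc * q0 * (sH hc)⁻¹ * q0⁻¹ = zH z) : False := by
  obtain ⟨q, hq, h⟩ := exists_disp D hw hc hne he he1 hK
  refine he1 (eq_one_of_disp hw hc he (mul_mem hq hq0) ?_ D)
  rw [disp_mul D hw hc, h, h0, zH_comm q, mul_inv_cancel_right, mul_assoc, zH_comm e, ← mul_assoc, D.xc.inv, one_mul]

/-- at most four common elements are displacements -/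
theorem card_dcl_le_four
    (hK : ∀ e, (he : e ∈ dcl z g) → ∃ u, D.act (sH hc) u + u = D.vec ⟨e, (mem_dcl.1 he).1⟩) :
    Nat.card (dcl z g) ≤ 4 := by
  classical
  by_contra hlt
  push Not at hlt
  have hex : ∀ l : Finset (cz z), l.card ≤ 4 → ∃ x ∈ dcl z g, x ∉ l := by
    intro l hl
    by_contra hno
    push Not at hno
    have h1 : Nat.card (dcl z g) ≤ l.card := by
      rw [← Nat.card_eq_finsetCard]
      exact Nat.card_le_card_of_injective (fun x => (⟨x.1, hno x.1 x.2⟩ : l))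
        fun a b h => Subtype.ext (congrArg (fun y : l => (y : cz z)) h)
    omega
  obtain ⟨a, ha, ha'⟩ := hex {1} (by simp)
  obtain ⟨b, hb, hb'⟩ := hex {1, a} (le_trans Finset.card_le_two (by norm_num))
  obtain ⟨c, hcm, hc'⟩ := hex {1, a, b, a * b}
    (le_trans (Finset.card_insert_le _ _) (Nat.succ_le_succ Finset.card_le_three))
  simp only [Finset.mem_singleton] at ha'
  simp only [Finset.mem_insert, Finset.mem_singleton, not_or] at hb' hc'
  obtain ⟨qa, hqa, ea⟩ := exists_disp D hw hc hne ha ha' (hK a ha)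
  have move : ∀ x ∈ dcl z g, x ≠ 1 → x ≠ a → qa * x * qa⁻¹ = zH z * x := by
    intro x hx hx1 hxa
    refine (D.xc.commEl qa hqa x (mem_dcl.1 hx).1).resolve_left fun h => ?_
    obtain ⟨qx, hqx, ex⟩ := exists_disp D hw hc hne hx hx1 (hK x hx)
    have h1 : a * x = 1 := eq_one_of_disp hw hc (mul_mem ha hx) (mul_mem hqa hqx) (by
      rw [disp_mul D hw hc, ea, ex, show qa * (zH z * x) * qa⁻¹ = zH z * (qa * x * qa⁻¹) by
          rw [← mul_assoc qa, zH_comm qa]; simp [mul_assoc], h,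
        show zH z * a * (zH z * x) = zH z * zH z * (a * x) by
          rw [mul_assoc (zH z) a, ← mul_assoc a (zH z), zH_comm a]; simp [mul_assoc],
        D.xc.inv, one_mul]) D
    exact hxa (by rw [← one_mul x, ← dcl_sq D hw hne ha, mul_assoc, h1, mul_one])
  have hbc1 : b * c ≠ 1 := fun h => hc'.2.2.1 (by
    rw [← one_mul c, ← dcl_sq D hw hne hb, mul_assoc, h, mul_one])
  have hbca : b * c ≠ a := fun h => hc'.2.2.2 (by
    have hab : a * b = b * a := dcl_central D hw hc hne ha (dcl_le_dfix D hw hc hb)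
    rw [hab, ← h, ← mul_assoc, dcl_sq D hw hne hb, one_mul])
  have m1 := move b hb hb'.1 hb'.2
  have m2 := move c hcm hc'.1 hc'.2.1
  have m3 := move (b * c) (mul_mem hb hcm) hbc1 hbca
  rw [show qa * (b * c) * qa⁻¹ = (qa * b * qa⁻¹) * (qa * c * qa⁻¹) by group, m1, m2] at m3
  have h4 : zH z * b * (zH z * c) = b * c := by
    rw [← zH_comm b, mul_assoc, ← mul_assoc (zH z), D.xc.inv, one_mul]
  rw [h4, right_eq_mul] at m3
  exact D.xc.ne_one m3

/-- the count of fixed elements against common elements -/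
theorem ratio : Nat.card (dcl z g) * (D.fixV (sH hc)).card ≤ 2 * Nat.card (dfix hc) := by
  classical
  have hP := D.card_fixP (sH hc)
  by_cases hall : ∀ q : coreH z, q ∈ D.fixP (sH hc) → (q : cz z) ∈ dfix hc
  · have hK : ∀ e, (he : e ∈ dcl z g) →
        ∃ u, D.act (sH hc) u + u = D.vec ⟨e, (mem_dcl.1 he).1⟩ := by
      intro e he
      refine D.mem_range_of_perp _ fun v hv => ?_
      obtain ⟨q, rfl⟩ := D.vec_surj v
      exact (D.commute_iff_polB q ⟨e, (mem_dcl.1 he).1⟩).1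
        (dcl_central D hw hc hne he (hall q hv)).symm
    have h4 := card_dcl_le_four D hw hc hne hK
    have hle : Nat.card (D.fixP (sH hc)) ≤ Nat.card (dfix hc) :=
      Nat.card_le_card_of_injective (fun q => (⟨(q.1 : cz z), hall q.1 q.2⟩ : dfix hc)) fun a b h =>
        Subtype.ext (Subtype.ext (congrArg (fun x : dfix hc => (x : cz z)) h))
    have := Nat.mul_le_mul_right (D.fixV (sH hc)).card h4
    omega
  · push Not at hall
    obtain ⟨q0, hq0, hq0'⟩ := hall
    have hq0d : sH hc * (q0 : cz z) * (sH hc)⁻¹ * (q0 : cz z)⁻¹ = zH z := by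
      refine (disp_cases D hw hc hq0).resolve_left fun h => hq0' (mem_dfix.2 ⟨q0.2, ?_⟩)
      rw [mul_inv_eq_one, mul_inv_eq_iff_eq_mul] at h
      exact (congrArg Subtype.val h).symm
    have hdich : ∀ q : coreH z, q ∈ D.fixP (sH hc) →
        (q : cz z) ∈ dfix hc ∨ (q0 : cz z)⁻¹ * q ∈ dfix hc := by
      intro q hq
      rcases disp_cases D hw hc hq with h | h
      · rw [mul_inv_eq_one, mul_inv_eq_iff_eq_mul] at h
        exact Or.inl (mem_dfix.2 ⟨q.2, (congrArg Subtype.val h).symm⟩)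
      · refine Or.inr (mem_dfix.2 ⟨mul_mem (inv_mem q0.2) q.2, ?_⟩)
        have e1 : sH hc * q * (sH hc)⁻¹ = zH z * q := mul_inv_eq_iff_eq_mul.1 h
        have e0 : sH hc * (q0 : cz z) * (sH hc)⁻¹ = zH z * q0 := mul_inv_eq_iff_eq_mul.1 hq0d
        have e2 : sH hc * ((q0 : cz z)⁻¹ * q) * (sH hc)⁻¹ = (q0 : cz z)⁻¹ * q := by
          rw [show sH hc * ((q0 : cz z)⁻¹ * q) * (sH hc)⁻¹ =
            (sH hc * q0 * (sH hc)⁻¹)⁻¹ * (sH hc * q * (sH hc)⁻¹) by group, e0, e1, mul_inv_rev,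
            mul_assoc, inv_mul_cancel_left]
        exact (congrArg Subtype.val (mul_inv_eq_iff_eq_mul.1 e2)).symm
    have hcount : Nat.card (D.fixP (sH hc)) ≤ 2 * Nat.card (dfix hc) := by
      let f : D.fixP (sH hc) → Bool × dfix hc := fun q =>
        if h : (q.1 : cz z) ∈ dfix hc then (false, ⟨_, h⟩)
        else (true, ⟨_, (hdich q.1 q.2).resolve_left h⟩)
      refine le_trans (Nat.card_le_card_of_injective f fun a b h => ?_) (by rw [Nat.card_prod]; simp)
      simp only [f] at h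
      split_ifs at h <;> simp only [Prod.mk.injEq, Bool.false_eq_true, Bool.true_eq_false, false_and,
        Subtype.mk.injEq, true_and] at h
      · exact Subtype.ext (Subtype.ext h)
      · exact Subtype.ext (Subtype.ext (mul_left_cancel h))
    have hanti : ∀ e ∈ dcl z g, e ≠ 1 → (q0 : cz z) * e * (q0 : cz z)⁻¹ = zH z * e := by
      intro e he he1
      refine (D.xc.commEl q0 q0.2 e (mem_dcl.1 he).1).resolve_left fun h => ?_
      refine no_disp_of_moved D hw hc hne he he1 (D.mem_range_of_perp _ fun v hv => ?_) q0.2 hq0d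
      obtain ⟨q, rfl⟩ := D.vec_surj v
      refine (D.commute_iff_polB q ⟨e, (mem_dcl.1 he).1⟩).1 ?_
      have h0 : e * (q0 : cz z) = q0 * e := (mul_inv_eq_iff_eq_mul.1 h).symm
      rcases hdich q hv with hd | hd
      · exact (dcl_central D hw hc hne he hd).symm
      · have h1 := dcl_central D hw hc hne he hd
        calc (q : cz z) * e = q0 * (((q0 : cz z)⁻¹ * q) * e) := by group
          _ = q0 * (e * ((q0 : cz z)⁻¹ * q)) := by rw [h1]
          _ = e * q := by rw [← mul_assoc, ← h0, mul_assoc, mul_inv_cancel_left]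
    have h2 : Nat.card (dcl z g) ≤ 2 := by
      by_contra hlt
      push Not at hlt
      have hsub : ∀ a ∈ dcl z g, a ≠ 1 → ∀ b ∈ dcl z g, b ≠ 1 → a = b := by
        intro a ha ha1 b hb hb1
        by_contra hab
        have hab1 : a * b ≠ 1 := fun h => hab (by
          rw [← one_mul b, ← dcl_sq D hw hne ha, mul_assoc, h, mul_one])
        have h3 := hanti (a * b) (mul_mem ha hb) hab1
        rw [show (q0 : cz z) * (a * b) * (q0 : cz z)⁻¹ =
          (q0 * a * (q0 : cz z)⁻¹) * (q0 * b * (q0 : cz z)⁻¹) by group, hanti a ha ha1, hanti b hb hb1,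
          ← zH_comm a, mul_assoc, ← mul_assoc (zH z), D.xc.inv, one_mul, right_eq_mul] at h3
        exact D.xc.ne_one h3
      obtain ⟨a, ha, ha1⟩ : ∃ a ∈ dcl z g, a ≠ 1 := by
        by_contra hno
        push Not at hno
        have : Nat.card (dcl z g) ≤ 1 := by
          rw [Finite.card_le_one_iff_subsingleton]
          exact ⟨fun a b => Subtype.ext ((hno _ a.2).trans (hno _ b.2).symm)⟩
        omega
      have hinj : Nat.card (dcl z g) ≤ Nat.card Bool :=
        Nat.card_le_card_of_injective (fun x => decide (x.1 = 1)) fun x y h => by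
          simp only [decide_eq_decide] at h
          by_cases hx : x.1 = 1
          · exact Subtype.ext (hx.trans (h.1 hx).symm)
          · exact Subtype.ext (hsub _ x.2 hx _ y.2 fun hy => hx (h.2 hy))
      simp at hinj
      omega
    have := Nat.mul_le_mul_right (D.fixV (sH hc)).card h2
    omega

/-- the transported part meets `Q` in no more than the common part -/
theorem card_aImg_inf : Nat.card ↥(aImg hc ⊓ coreH z) ≤ Nat.card (dcl z g) := by
  choose f hf hfe using fun a : ↥(aImg hc ⊓ coreH z) => mem_aImg.1 a.2.1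
  refine Nat.card_le_card_of_injective (fun a => (⟨f a, mem_dcl.2 ⟨(mem_dfix.1 (hf a)).1, ?_⟩⟩ : dcl z g))
    fun a b h => ?_
  · rw [hfe]; exact mem_qIn.2 a.2.2
  · have h' : f a = f b := congrArg Subtype.val h
    exact Subtype.ext (Subtype.ext (by rw [← hfe a, ← hfe b, h']))

omit hne in
theorem card_aImg : Nat.card (aImg hc) = Nat.card (dfix hc) := by
  have hle : ((dfix hc).map (cz z).subtype).map (MulAut.conj g⁻¹).toMonoidHom ≤ cz z := by
    rintro _ ⟨_, ⟨d, hd, rfl⟩, rfl⟩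
    simpa using dfix_back hd
  rw [aImg, Nat.card_congr (Subgroup.subgroupOfEquivOfLe hle).toEquiv,
    Subgroup.card_map_of_injective (MulAut.conj g⁻¹).injective,
    Subgroup.card_map_of_injective (Subgroup.subtype_injective _)]

end one

/-- the codes of the transported part -/
noncomputable def codesA {g : G} (hc : Commute z (g * z * g⁻¹)) : Finset ℕ := by
  classical exact sylL.toFinset.filter fun p => ∃ a ∈ aImg hc, ∀ v, D.act a v = sAct p v

theorem mem_codesA {g : G} {hc : Commute z (g * z * g⁻¹)} {p : ℕ} :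
    p ∈ codesA D hc ↔ p ∈ sylL ∧ ∃ a ∈ aImg hc, ∀ v, D.act a v = sAct p v := by
  classical
  simp [codesA]

section two

variable {g : G} (hc : Commute z (g * z * g⁻¹)) (hne : g * z * g⁻¹ ≠ z)
  (hstd : ∀ a ∈ aImg hc, a ∈ D.std)

include hw hne hstd

theorem dfix_le_mul : Nat.card (dfix hc) ≤ Nat.card (dcl z g) * (codesA D hc).card := by
  rw [← card_aImg D hw hc, Model.card_split (Q := coreH z),
    D.card_image (aImg hc) (codesA D hc) (fun p hp => (mem_codesA D).1 hp |>.1)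
      (fun a ha => by
        obtain ⟨p, hp, e⟩ := hstd a ha
        exact ⟨p, (mem_codesA D).2 ⟨hp, a, ha, e⟩, e⟩)
      fun p hp => ((mem_codesA D).1 hp).2]
  exact Nat.mul_le_mul_right _ (card_aImg_inf D hw hc hne)

theorem fix_le_codes : (D.fixV (sH hc)).card ≤ 2 * (codesA D hc).card := by
  have h1 := ratio D hw hc hne
  have h2 := dfix_le_mul D hw hc hne hstd
  have hpos : 0 < Nat.card (dcl z g) := Nat.card_pos
  refine Nat.le_of_mul_le_mul_left ?_ hpos
  calc _ ≤ _ := h1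
    _ ≤ 2 * (Nat.card (dcl z g) * (codesA D hc).card) := Nat.mul_le_mul_left _ h2
    _ = _ := by ring

omit hw hne hstd in
/-- the code of the image of the first involution -/
theorem exists_h0_code (hstd : ∀ a ∈ aImg hc, a ∈ D.std) :
    ∃ p0 ∈ codesA D hc, (∀ v, D.act (sH (swap_comm hc)) v = sAct p0 v) ∧
      sH (swap_comm hc) ∈ aImg hc := by
  have hd : zH z ∈ dfix hc := mem_dfix.2 ⟨D.xc.mem, hc⟩
  have hA : sH (swap_comm hc) ∈ aImg hc :=
    mem_aImg.2 ⟨zH z, hd, by show g⁻¹ * z * g = g⁻¹ * z * g⁻¹⁻¹; rw [inv_inv]⟩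
  obtain ⟨p, hp, e⟩ := hstd _ hA
  exact ⟨p, (mem_codesA D).2 ⟨hp, _, hA, e⟩, e, hA⟩

omit hw hne in
theorem aImg_sq {a : cz z} (ha : a ∈ aImg hc) : a * a = 1 ∨ a * a = sH (swap_comm hc) := by
  obtain ⟨d, hd, e⟩ := mem_aImg.1 ha
  rcases D.xc.sq d (mem_dfix.1 hd).1 with h | h <;> [left; right] <;> refine Subtype.ext ?_ <;>
    rw [Subgroup.coe_mul, ← e, show g⁻¹ * (d : G) * g * (g⁻¹ * d * g) = g⁻¹ * ((d * d : cz z) : G) * g
      by rw [Subgroup.coe_mul]; group, h]
  · simp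
  · show g⁻¹ * z * g = g⁻¹ * z * g⁻¹⁻¹; rw [inv_inv]

omit hw hne in
theorem aImg_commEl {a b : cz z} (ha : a ∈ aImg hc) (hb : b ∈ aImg hc) :
    a * b * a⁻¹ * b⁻¹ = 1 ∨ a * b * a⁻¹ * b⁻¹ = sH (swap_comm hc) := by
  obtain ⟨c, hc1, ec⟩ := mem_aImg.1 ha
  obtain ⟨d, hd1, ed⟩ := mem_aImg.1 hb
  have key : ((a * b * a⁻¹ * b⁻¹ : cz z) : G) = g⁻¹ * ((c * d * c⁻¹ * d⁻¹ : cz z) : G) * g := by
    simp only [Subgroup.coe_mul, Subgroup.coe_inv, ← ec, ← ed]; group
  rcases D.xc.commEl c (mem_dfix.1 hc1).1 d (mem_dfix.1 hd1).1 with h | h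
  · left; refine Subtype.ext ?_
    rw [key, h, mul_inv_cancel]; simp
  · right; refine Subtype.ext ?_
    rw [key, h, mul_inv_cancel_right]
    show g⁻¹ * z * g = g⁻¹ * z * g⁻¹⁻¹; rw [inv_inv]

omit hne in
theorem codes_sq {p : ℕ} (hp : p ∈ codesA D hc) {p0 : ℕ}
    (e0 : ∀ v, D.act (sH (swap_comm hc)) v = sAct p0 v) (hp0 : p0 ∈ sylL) :
    sMul p p = 2 * oneC ∨ sMul p p = p0 := by
  obtain ⟨hps, a, ha, ea⟩ := (mem_codesA D).1 hp
  have key : ∀ v, sAct (sMul p p) v = D.act (a * a) v := fun v => by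
    rw [sAct_sMul, ← ea, ← ea, D.act_mul_apply]
  rcases aImg_sq D hc hstd ha with h | h
  · refine Or.inl (sylL_act_inj one_mem_sylL (canB_sMul p p) fun v => ?_).symm
    rw [sAct_one, key, h, map_one]; rfl
  · refine Or.inr (sylL_act_inj hp0 (canB_sMul p p) fun v => ?_).symm
    rw [key, h, e0]

/-- the second involution is outer -/
theorem not_mem_M : sH hc ∉ D.M := by
  intro hM
  obtain ⟨p0, hp0, e0, -⟩ := exists_h0_code D hc hstd
  have h1 := fix_le_codes D hw hc hne hstd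
  have hs : sH hc * sH hc = 1 := Subtype.ext (by
    show g * z * g⁻¹ * (g * z * g⁻¹) = 1
    rw [show g * z * g⁻¹ * (g * z * g⁻¹) = g * (z * z) * g⁻¹ by group,
      show z * z = 1 from congrArg Subtype.val D.xc.inv]
    simp)
  rw [(D.fixV_involution hs (sH_notMem hw hc hne)).1 hM] at h1
  have h2 := square_fibre ((mem_codesA D).1 hp0).1 (codesA D hc)
    (fun p hp => ((mem_codesA D).1 hp).1)
    fun p hp => codes_sq D hw hc hstd hp e0 ((mem_codesA D).1 hp0).1
  omega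

/-- with both involutions outer the transported part is elementary -/
theorem codes_big (h0 : sH (swap_comm hc) ∉ D.M) :
    (codesA D hc).card ≤ 32 ∧ (32 ≤ (codesA D hc).card → ∀ p ∈ bigC, p ∈ codesA D hc) := by
  classical
  have hn : D.M.Normal := Subgroup.normal_of_index_eq_two D.M_index
  have hsqM : ∀ a : cz z, a * a ∈ D.M := fun a => Subgroup.mul_self_mem_of_index_two D.M_index a
  have hA : ∀ a ∈ aImg hc, a * a = 1 := fun a ha =>
    (aImg_sq D hc hstd ha).resolve_right fun h => h0 (h ▸ hsqM a)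
  have hC : ∀ a ∈ aImg hc, ∀ b ∈ aImg hc, a * b = b * a := by
    intro a ha b hb
    have h1 : (a * b) * (a * b) = 1 := hA _ (mul_mem ha hb)
    have hi := inv_eq_of_mul_eq_one_right h1
    rw [mul_inv_rev, inv_eq_of_mul_eq_one_right (hA a ha), inv_eq_of_mul_eq_one_right (hA b hb)] at hi
    exact hi.symm
  have hone : 2 * oneC ∈ codesA D hc := (mem_codesA D).2 ⟨one_mem_sylL, 1, one_mem _,
    fun v => by rw [map_one, sAct_one]; rfl⟩
  have hmul : ∀ p ∈ codesA D hc, ∀ q ∈ codesA D hc, sMul p q ∈ codesA D hc := by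
    intro p hp q hq
    obtain ⟨hp', a, ha, ea⟩ := (mem_codesA D).1 hp
    obtain ⟨hq', b, hb, eb⟩ := (mem_codesA D).1 hq
    obtain ⟨r, hr, er⟩ := sylL_mul hp' hq'
    have e := sylL_act_inj hr (canB_sMul p q) fun v => by rw [er, sAct_sMul]
    exact e ▸ (mem_codesA D).2 ⟨hr, a * b, mul_mem ha hb, fun v => by rw [er, D.act_mul_apply, eb, ea]⟩
  have hsq : ∀ p ∈ codesA D hc, sMul p p = 2 * oneC := by
    intro p hp
    obtain ⟨hp', a, ha, ea⟩ := (mem_codesA D).1 hp
    refine (sylL_act_inj one_mem_sylL (canB_sMul p p) fun v => ?_).symm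
    rw [sAct_one, sAct_sMul, ← ea, ← ea, ← D.act_mul_apply, hA a ha, map_one]; rfl
  have hcomm : ∀ p ∈ codesA D hc, ∀ q ∈ codesA D hc, sMul p q = sMul q p := by
    intro p hp q hq
    obtain ⟨-, a, ha, ea⟩ := (mem_codesA D).1 hp
    obtain ⟨-, b, hb, eb⟩ := (mem_codesA D).1 hq
    refine sylL_act_inj ((mem_codesA D).1 (hmul p hp q hq)).1 (canB_sMul q p) fun v => ?_
    rw [sAct_sMul, sAct_sMul, ← eb, ← ea, ← ea, ← eb, ← D.act_mul_apply, ← D.act_mul_apply,
      hC a ha b hb]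
  have h := census_big (codesA D hc) (fun p hp => ((mem_codesA D).1 hp).1) hone hmul hcomm hsq
  refine ⟨?_, fun h32 => (h h32).2⟩
  by_contra hlt
  have := (h (by omega)).1
  omega

/-- the fixed elements commute with the second involution -/
theorem fixed_commute (h0 : sH (swap_comm hc) ∉ D.M) {q : coreH z}
    (hq : q ∈ D.fixP (sH hc)) : (q : cz z) ∈ dfix hc := by
  by_contra hq'
  have hout := not_mem_M D hw hc hne hstd
  have hs : sH hc * sH hc = 1 := Subtype.ext (by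
    show g * z * g⁻¹ * (g * z * g⁻¹) = 1
    rw [show g * z * g⁻¹ * (g * z * g⁻¹) = g * (z * z) * g⁻¹ by group,
      show z * z = 1 from congrArg Subtype.val D.xc.inv]
    simp)
  have hF := (D.fixV_involution hs (sH_notMem hw hc hne)).2 hout
  have hqd : sH hc * (q : cz z) * (sH hc)⁻¹ * (q : cz z)⁻¹ = zH z := by
    refine (disp_cases D hw hc hq).resolve_left fun h => hq' (mem_dfix.2 ⟨q.2, ?_⟩)
    rw [mul_inv_eq_one, mul_inv_eq_iff_eq_mul] at h
    exact (congrArg Subtype.val h).symm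
  have h1 : Nat.card (dcl z g) ≤ 1 := by
    rw [Finite.card_le_one_iff_subsingleton]
    have hone : ∀ e ∈ dcl z g, e = 1 := by
      intro e he
      by_contra he1
      exact no_disp_of_moved D hw hc hne he he1 (D.displacement_of_fixed hs hF
        (dfix_le_fixP D hw hc (dcl_le_dfix D hw hc he))) q.2 hqd
    exact ⟨fun a b => Subtype.ext ((hone _ a.2).trans (hone _ b.2).symm)⟩
  have hcount : Nat.card (D.fixP (sH hc)) ≤ 2 * Nat.card (dfix hc) := by
    have hdich : ∀ p : coreH z, p ∈ D.fixP (sH hc) →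
        (p : cz z) ∈ dfix hc ∨ (q : cz z)⁻¹ * p ∈ dfix hc := by
      intro p hp
      rcases disp_cases D hw hc hp with h | h
      · rw [mul_inv_eq_one, mul_inv_eq_iff_eq_mul] at h
        exact Or.inl (mem_dfix.2 ⟨p.2, (congrArg Subtype.val h).symm⟩)
      · refine Or.inr (mem_dfix.2 ⟨mul_mem (inv_mem q.2) p.2, ?_⟩)
        have e1 : sH hc * p * (sH hc)⁻¹ = zH z * p := mul_inv_eq_iff_eq_mul.1 h
        have e0 : sH hc * (q : cz z) * (sH hc)⁻¹ = zH z * q := mul_inv_eq_iff_eq_mul.1 hqd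
        have e2 : sH hc * ((q : cz z)⁻¹ * p) * (sH hc)⁻¹ = (q : cz z)⁻¹ * p := by
          rw [show sH hc * ((q : cz z)⁻¹ * p) * (sH hc)⁻¹ =
            (sH hc * q * (sH hc)⁻¹)⁻¹ * (sH hc * p * (sH hc)⁻¹) by group, e0, e1, mul_inv_rev,
            mul_assoc, inv_mul_cancel_left]
        exact (congrArg Subtype.val (mul_inv_eq_iff_eq_mul.1 e2)).symm
    classical
    let f : D.fixP (sH hc) → Bool × dfix hc := fun q' =>
      if h : (q'.1 : cz z) ∈ dfix hc then (false, ⟨_, h⟩)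
      else (true, ⟨_, (hdich q'.1 q'.2).resolve_left h⟩)
    refine le_trans (Nat.card_le_card_of_injective f fun a b h => ?_) (by rw [Nat.card_prod]; simp)
    simp only [f] at h
    split_ifs at h <;> simp only [Prod.mk.injEq, Bool.false_eq_true, Bool.true_eq_false, false_and,
      Subtype.mk.injEq, true_and] at h
    · exact Subtype.ext (Subtype.ext h)
    · exact Subtype.ext (Subtype.ext (mul_left_cancel h))
  rw [D.card_fixP, hF] at hcount
  have h2 := le_trans (dfix_le_mul D hw hc hne hstd) (Nat.mul_le_mul_right _ h1)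
  have h3 := (codes_big D hw hc hne hstd h0).1
  omega

/-- there are at most four common elements -/
theorem card_dcl_le (h0 : sH (swap_comm hc) ∉ D.M) : Nat.card (dcl z g) ≤ 4 :=
  card_dcl_le_four D hw hc hne fun e he => D.mem_range_of_perp _ fun v hv => by
    obtain ⟨q, rfl⟩ := D.vec_surj v
    exact (D.commute_iff_polB q ⟨e, (mem_dcl.1 he).1⟩).1
      (dcl_central D hw hc hne he (fixed_commute D hw hc hne hstd h0 hv)).symm

end two

/-- a conjugate of the conjugating element puts the transported part into the standard group -/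
theorem exists_std_form {g : G} (hc : Commute z (g * z * g⁻¹)) :
    ∃ g' : G, ∃ hc' : Commute z (g' * z * g'⁻¹), g' * z * g'⁻¹ = g * z * g⁻¹ ∧
      (∀ a ∈ aImg hc', a ∈ D.std) ∧ ∃ k : cz z, g' = g * (k : G)⁻¹ := by
  have hA : IsPGroup 2 (aImg hc) := by
    have h1 : IsPGroup 2 (dfix hc) :=
      ((IsPGroup.of_card D.card_Q).to_le inf_le_left : IsPGroup 2 (dfix hc))
    have hle : ((dfix hc).map (cz z).subtype).map (MulAut.conj g⁻¹).toMonoidHom ≤ cz z := by
      rintro _ ⟨_, ⟨d, hd, rfl⟩, rfl⟩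
      simpa using dfix_back hd
    exact ((h1.map _).map _).of_equiv (Subgroup.subgroupOfEquivOfLe hle).symm
  obtain ⟨k, hk⟩ := D.exists_conj_le_std _ hA
  have hzk : (k : G)⁻¹ * z * (k : G)⁻¹⁻¹ = z := by
    have h : (k : G)⁻¹ * z = z * (k : G)⁻¹ := Subgroup.mem_centralizer_singleton_iff.1 (k⁻¹).2
    rw [h, inv_inv, inv_mul_cancel_right]
  have hval : g * (k : G)⁻¹ * z * (g * (k : G)⁻¹)⁻¹ = g * z * g⁻¹ := by
    conv_rhs => rw [← hzk]
    group
  have hc' : Commute z (g * (k : G)⁻¹ * z * (g * (k : G)⁻¹)⁻¹) := by rw [hval]; exact hc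
  refine ⟨_, hc', hval, fun a ha => ?_, k, rfl⟩
  obtain ⟨d, hd, e⟩ := mem_aImg.1 ha
  have hd' : d ∈ dfix hc := by
    rw [mem_dfix] at hd ⊢
    rwa [hval] at hd
  have h := hk ⟨g⁻¹ * (d : G) * g, dfix_back hd'⟩ (mem_aImg.2 ⟨d, hd', rfl⟩)
  convert h using 1
  refine Subtype.ext ?_
  rw [← e]
  show _ = (k : G) * (g⁻¹ * d * g) * (k : G)⁻¹
  group

include hw in
theorem not_mem_M_all {g : G} (hc : Commute z (g * z * g⁻¹)) (hne : g * z * g⁻¹ ≠ z) :
    sH hc ∉ D.M := by
  obtain ⟨g', hc', hval, hstd, -⟩ := exists_std_form D hc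
  have e : sH hc = sH hc' := Subtype.ext hval.symm
  rw [e]
  exact not_mem_M D hw hc' (by rw [hval]; exact hne) hstd

include hw in
theorem fixed_commute_all {g : G} (hc : Commute z (g * z * g⁻¹)) (hne : g * z * g⁻¹ ≠ z) {q : coreH z}
    (hq : q ∈ D.fixP (sH hc)) : (q : cz z) ∈ dfix hc := by
  obtain ⟨g', hc', hval, hstd, -⟩ := exists_std_form D hc
  have hne' : g' * z * g'⁻¹ ≠ z := by rw [hval]; exact hne
  have e : sH hc' = sH hc := Subtype.ext hval
  have h := fixed_commute D hw hc' hne' hstd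
    (not_mem_M_all D hw (swap_comm hc') (swap_ne hne')) (q := q) (by rw [e]; exact hq)
  rw [mem_dfix] at h ⊢
  rwa [hval] at h

include D hw in
theorem card_dcl_all {g : G} (hc : Commute z (g * z * g⁻¹)) (hne : g * z * g⁻¹ ≠ z) :
    Nat.card (dcl z g) ≤ 4 :=
  card_dcl_le_four D hw hc hne fun e he => D.mem_range_of_perp _ fun v hv => by
    obtain ⟨q, rfl⟩ := D.vec_surj v
    exact (D.commute_iff_polB q ⟨e, (mem_dcl.1 he).1⟩).1
      (dcl_central D hw hc hne he (fixed_commute_all D hw hc hne hv)).symm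

include D hw in
/-- no second involution commutes with the first -/
theorem no_commuting_conjugate {g : G} (hc0 : Commute z (g * z * g⁻¹)) : g * z * g⁻¹ = z := by
  classical
  by_contra hne0
  obtain ⟨g', hc, hval, hstd, -⟩ := exists_std_form D hc0
  have hne : g' * z * g'⁻¹ ≠ z := by rw [hval]; exact hne0
  clear hval hne0 hc0
  have h0 := not_mem_M_all D hw (swap_comm hc) (swap_ne hne)
  have h1 := fix_le_codes D hw hc hne hstd
  have hs : sH hc * sH hc = 1 := Subtype.ext (by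
    show g' * z * g'⁻¹ * (g' * z * g'⁻¹) = 1
    rw [show g' * z * g'⁻¹ * (g' * z * g'⁻¹) = g' * (z * z) * g'⁻¹ by group,
      show z * z = 1 from congrArg Subtype.val D.xc.inv]
    simp)
  rw [(D.fixV_involution hs (sH_notMem hw hc hne)).2 (not_mem_M_all D hw hc hne)] at h1
  have hbig := (codes_big D hw hc hne hstd h0).2 (by omega)
  obtain ⟨p0, hp0, e0, hh0⟩ := exists_h0_code D hc hstd
  have hflag : flag p0 = true := by
    rw [← Bool.not_eq_false]
    intro hf
    exact h0 ((D.flag_iff ((mem_codesA D).1 hp0).1 e0).1 hf)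
  have hp0big : p0 ∈ bigC := by
    have hcard := (codes_big D hw hc hne hstd h0).1
    have hnd : bigC.toFinset.card = 32 := by
      rw [List.toFinset_card_of_nodup bigC_nodup]
      rfl
    have hsub : bigC.toFinset = codesA D hc := Finset.eq_of_subset_of_card_le
      (fun p hp => hbig p (List.mem_toFinset.1 hp)) (by rw [hnd]; exact hcard)
    exact List.mem_toFinset.1 (hsub ▸ hp0)
  obtain ⟨l, hl, h5⟩ := five_witness hp0big hflag
  let T := dcl z g'⁻¹
  haveI : Fintype T := Fintype.ofFinite _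
  let val : T → ℕ := fun t => vc (D.vec ⟨t.1, (mem_dcl.1 t.2).1⟩)
  have hsub : ((l.map fun e => Nat.xor (sActC e.1 e.2) e.2)).toFinset ⊆ Finset.univ.image val := by
    intro x hx
    rw [List.mem_toFinset, List.mem_map] at hx
    obtain ⟨⟨p, u⟩, hmem, rfl⟩ := hx
    obtain ⟨hpb, hu, hfix⟩ := hl _ hmem
    obtain ⟨-, a, ha, ea⟩ := (mem_codesA D).1 (hbig p hpb)
    obtain ⟨⟨q, hq⟩, hv⟩ := D.vec_surj (vOf u)
    have hqfix : (⟨q, hq⟩ : coreH z) ∈ D.fixP (sH (swap_comm hc)) := by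
      show D.act _ (D.vec ⟨q, hq⟩) = D.vec ⟨q, hq⟩
      rw [hv, e0]
      exact vc_injective (by rw [vc_sAct, vc_vOf hu]; exact hfix)
    have hqd := fixed_commute_all D hw (swap_comm hc) (swap_ne hne) hqfix
    have hm : a * q * a⁻¹ ∈ coreH z := (inferInstance : (coreH z).Normal).conj_mem _ hq _
    have hmem' : a * q * a⁻¹ * q⁻¹ ∈ T := by
      refine mem_dcl.2 ⟨mul_mem hm (inv_mem hq), ?_⟩
      rw [inv_inv]
      obtain ⟨d, hd, ed⟩ := mem_aImg.1 ha
      have hb := dfix_back hqd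
      rw [inv_inv] at hb
      rw [show g' * ((a * q * a⁻¹ * q⁻¹ : cz z) : G) * g'⁻¹ = (d : G) *
        ((g' * q * g'⁻¹) * (d : G)⁻¹ * (g' * q * g'⁻¹)⁻¹) by
          simp only [Subgroup.coe_mul, Subgroup.coe_inv, ← ed]; group]
      exact mul_mem (mem_qIn.2 (mem_dfix.1 hd).1)
        (qIn_conj hb (inv_mem (mem_qIn.2 (mem_dfix.1 hd).1)))
    refine Finset.mem_image.2 ⟨⟨_, hmem'⟩, Finset.mem_univ _, ?_⟩
    show vc (D.vec ⟨a * q * a⁻¹ * q⁻¹, _⟩) = Nat.xor (sActC p u) u
    have hi : D.vec ⟨q, hq⟩⁻¹ = D.vec ⟨q, hq⟩ := by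
      have h' := D.vec_mul ⟨q, hq⟩ ⟨q, hq⟩⁻¹
      rw [mul_inv_cancel, (D.vec_zero_iff 1).2 (Or.inl rfl)] at h'
      exact add_left_cancel (h'.symm.trans (v6_two _).symm)
    rw [show (⟨a * q * a⁻¹ * q⁻¹, (mem_dcl.1 hmem').1⟩ : coreH z) = ⟨_, hm⟩ * ⟨q, hq⟩⁻¹ from rfl,
      D.vec_mul, hi, vc_add]
    have hconj : D.vec ⟨a * q * a⁻¹, hm⟩ = D.act a (D.vec ⟨q, hq⟩) := by rw [← D.vec_conj]; rfl
    rw [hconj, hv, ea, vc_sAct, vc_vOf hu]
  have h4 := card_dcl_all D hw (swap_comm hc) (swap_ne hne)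
  have h6 := le_trans (Finset.card_le_card hsub) Finset.card_image_le
  rw [List.card_toFinset, h5, Finset.card_univ, ← Nat.card_eq_fintype_card] at h6
  exact absurd (le_trans h6 h4) (by norm_num)

include D in
omit hw in
/-- the involution has a second conjugate in the 2-core of its centraliser -/
theorem exists_conj_in_core [IsSimpleGroup G] (hG : ¬ IsMulCommutative G) (hz : orderOf z = 2) :
    ∃ g : G, g * z * g⁻¹ ∈ qIn z ∧ g * z * g⁻¹ ≠ z := by
  by_contra hno
  push Not at hno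
  have hiso : Cfsg.IsIsolatedInvolution z := ⟨hz, fun g hg => no_commuting_conjugate D hno hg⟩
  have hO : Cfsg.oddCore G = ⊥ := by
    rcases (inferInstance : (Cfsg.oddCore G).Normal).eq_bot_or_eq_top with h | h
    · exact h
    · have h1 := CfsgLib.Base.oddCore_eq_top_iff.1 h
      have h2 : orderOf z ∣ Nat.card G := orderOf_dvd_natCard z
      rw [hz] at h2
      exact absurd (even_iff_two_dvd.2 h2) (Nat.not_even_iff_odd.2 h1)
  have hc := CfsgLib.Involutions.ZStar.mem_center_of_oddCore_eq_bot hiso hO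
  rcases (inferInstance : (Subgroup.center G).Normal).eq_bot_or_eq_top with h | h
  · rw [h, Subgroup.mem_bot] at hc
    rw [hc, orderOf_one] at hz
    norm_num at hz
  · exact hG ⟨⟨fun a b => Subgroup.mem_center_iff.1 (h ▸ Subgroup.mem_top b) a⟩⟩

end CfsgLib.Spor.LargeFi.J4
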