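import Cfsg.Agent.Lib.Spor.LargeJ4.ASigns
import Cfsg.Agent.Lib.Spor.LargeJ4.NotClosed

/-!
In a simple group of fourth Janko type the hypothesis of the coordinate lemmas holds, so coordinates
with normalised lifts exist.
-/

set_option autoImplicit false
set_option maxHeartbeats 1000000

namespace CfsgLib.Spor.LargeFi.J4

open Cfsg CfsgLib.ThreeTransp

variable {G : Type*} [Group G] [Finite G] [IsSimpleGroup G] {z : G} {P : Subgroup G}

/-- the involution is fused inside the extraspecial subgroup -/
theorem fused_of_model (hG : ¬ IsMulCommutative G) (hz : orderOf z = 2)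
    (D : Model (coreH z) (zH z)) : Model.ABase.Fused z := by
  obtain ⟨g, hg, hne⟩ := exists_conj_in_core D hG hz
  obtain ⟨q, hq, e⟩ := hg
  exact ⟨g, ⟨q, hq⟩, e.symm, fun h => hne (e.symm.trans h)⟩

/-- coordinates with normalised lifts for a group of fourth Janko type -/
theorem exists_coordinates (hG : ¬ IsMulCommutative G) (hJ : IsOfJankoFourTypeWith z P) :
    ∃ D : Model (coreH z) (zH z), Model.ABase.Fused z ∧ ∃ B : D.ABase, B.Normed := by
  obtain ⟨D⟩ := model_of_type hJ
  have hE := fused_of_model hG hJ.1 D
  exact ⟨D, hE, Model.ABase.exists_normed hE D⟩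

end CfsgLib.Spor.LargeFi.J4
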