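import Cfsg.Agent.Lib.Spor.LargeJ4.Elem
import Cfsg.Agent.Lib.Spor.LargeJ4.Setup
import Cfsg.Prelude.Def_Transfer

/-!
In a group of fourth Janko type every Sylow 2-subgroup lies in the centraliser of a conjugate of the
involution and has exactly one elementary abelian subgroup of order `2^11`.
-/

set_option autoImplicit false
set_option maxHeartbeats 1000000

namespace CfsgLib.Spor.LargeFi.J4

open Cfsg

variable {G : Type*} [Group G] [Finite G] {z : G}

/-- the standard Sylow subgroup inside the whole group -/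
def stdG (D : Model (coreH z) (zH z)) : Subgroup G :=
  D.std.map (Subgroup.centralizer ({z} : Set G)).subtype

/-- the distinguished elementary subgroup inside the whole group -/
def bigG (D : Model (coreH z) (zH z)) : Subgroup G :=
  D.bigA.map (Subgroup.centralizer ({z} : Set G)).subtype

variable (D : Model (coreH z) (zH z))

theorem card_stdG : Nat.card (stdG D) = 2 ^ 21 :=
  (Subgroup.card_map_of_injective (Subgroup.subtype_injective _)).trans D.card_std

theorem bigG_le : bigG D ≤ stdG D := Subgroup.map_mono D.bigA_le_std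

theorem card_bigG : Nat.card (bigG D) = 2 ^ 11 :=
  (Subgroup.card_map_of_injective (Subgroup.subtype_injective _)).trans D.card_bigA

/-- an injective image of an elementary abelian group is elementary abelian -/
theorem elementary_map {A B : Type*} [Group A] [Group B] (f : A →* B) {S : Subgroup A}
    (hS : IsElementaryAbelian 2 S) : IsElementaryAbelian 2 (S.map f) := by
  obtain ⟨⟨hcomm⟩, hexp⟩ := hS
  refine ⟨⟨⟨fun a b => Subtype.ext ?_⟩⟩, fun a ha => ?_⟩
  · obtain ⟨x, hx, ex⟩ := Subgroup.mem_map.1 a.2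
    obtain ⟨y, hy, ey⟩ := Subgroup.mem_map.1 b.2
    show (a : B) * b = b * a
    rw [← ex, ← ey, ← map_mul, ← map_mul]
    exact congrArg f (congrArg Subtype.val (hcomm.comm ⟨x, hx⟩ ⟨y, hy⟩))
  · obtain ⟨x, hx, ex⟩ := Subgroup.mem_map.1 ha
    rw [← ex, ← map_pow, hexp x hx, map_one]

theorem elementary_bigG : IsElementaryAbelian 2 (bigG D) := elementary_map _ D.bigA_elementary

/-- an element commuting with the standard subgroup is trivial or the involution -/
theorem cent_stdG {c : G} (hc : ∀ s ∈ stdG D, s * c = c * s) : c = 1 ∨ c = z := by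
  have hzs : z ∈ stdG D := ⟨zH z, D.Q_le_std D.xc.mem, rfl⟩
  have hcH : c ∈ Subgroup.centralizer ({z} : Set G) :=
    Subgroup.mem_centralizer_singleton_iff.2 (hc z hzs).symm
  have hcQ : (⟨c, hcH⟩ : Subgroup.centralizer ({z} : Set G)) ∈ coreH z :=
    D.xc.cent (Subgroup.mem_centralizer_iff.2 fun q hq =>
      Subtype.ext (hc q ⟨q, D.Q_le_std hq, rfl⟩))
  rcases D.xc.center _ hcQ (fun q hq => Subtype.ext (hc q ⟨q, D.Q_le_std hq, rfl⟩)) with h | h
  · exact Or.inl (congrArg Subtype.val h)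
  · exact Or.inr (congrArg Subtype.val h)

theorem exists_sylow_stdG : ∃ P : Sylow 2 G, (P : Subgroup G) = stdG D := by
  haveI : Fact (Nat.Prime 2) := ⟨Nat.prime_two⟩
  obtain ⟨P, hP⟩ := (IsPGroup.of_card (card_stdG D)).exists_le_sylow
  refine ⟨P, (Subgroup.eq_of_le_of_card_ge hP ?_).symm⟩
  haveI : Nontrivial ↥(P : Subgroup G) := by
    refine Finite.one_lt_card_iff_nontrivial.1 (lt_of_lt_of_le ?_ (Subgroup.card_le_of_le hP))
    rw [card_stdG D]; norm_num
  haveI := P.2.center_nontrivial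
  obtain ⟨⟨c, hc⟩, hc1⟩ := exists_ne (1 : Subgroup.center ↥(P : Subgroup G))
  have hcc : ∀ s ∈ (P : Subgroup G), s * (c : G) = (c : G) * s := fun s hs =>
    congrArg Subtype.val (Subgroup.mem_center_iff.1 hc ⟨s, hs⟩)
  have hcz : (c : G) = z := (cent_stdG D fun s hs => hcc s (hP hs)).resolve_left fun h =>
    hc1 (Subtype.ext (Subtype.ext h))
  have hPH : (P : Subgroup G) ≤ Subgroup.centralizer ({z} : Set G) := fun s hs =>
    Subgroup.mem_centralizer_singleton_iff.2 (hcz ▸ hcc s hs)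
  obtain ⟨k, hk⟩ := IsPGroup.iff_card.1 P.2
  have hd := Subgroup.card_dvd_of_le hPH
  rw [hk, D.card_H] at hd
  rw [hk, card_stdG D]
  refine Nat.pow_le_pow_right (by norm_num) ?_
  by_contra hlt
  have h1 : 2 ^ 22 ∣ 2 ^ 21 * 10395 := (pow_dvd_pow 2 (by omega : 22 ≤ k)).trans hd
  norm_num at h1

theorem eq_bigG {B : Subgroup G} (hB : IsElementaryAbelian 2 B) (hle : B ≤ stdG D)
    (hcard : 2 ^ 11 ≤ Nat.card B) : B = bigG D := by
  let C := Subgroup.centralizer ({z} : Set G)
  have hBC : B ≤ C := hle.trans (Subgroup.map_subtype_le _)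
  have hmap : (B.subgroupOf C).map C.subtype = B := Subgroup.map_subgroupOf_eq_of_le hBC
  have h := D.eq_bigA (B.subgroupOf C) ?_ ?_ ?_
  · rw [← hmap, h]; rfl
  · obtain ⟨⟨hcomm⟩, hexp⟩ := hB
    exact ⟨⟨⟨fun a b => Subtype.ext (Subtype.ext
      (congrArg Subtype.val (hcomm.comm ⟨_, a.2⟩ ⟨_, b.2⟩) :))⟩⟩,
      fun a ha => Subtype.ext (hexp _ ha)⟩
  · intro b hb
    obtain ⟨s, hs, e⟩ := hle hb
    exact (Subtype.ext e : s = b) ▸ hs
  · rwa [Nat.card_congr (Subgroup.subgroupOfEquivOfLe hBC).toEquiv]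

theorem unique_elementary_eleven (hJ : IsOfJankoFourType G) (T : Sylow 2 G) :
    ∃! V : Subgroup G, V ≤ (T : Subgroup G) ∧ IsElementaryAbelian 2 V ∧ Nat.card ↥V = 2 ^ 11 := by
  obtain ⟨z, P, hP⟩ := hJ
  obtain ⟨D⟩ := model_of_type hP
  haveI : Fact (Nat.Prime 2) := ⟨Nat.prime_two⟩
  obtain ⟨S, hS⟩ := exists_sylow_stdG D
  obtain ⟨g, hg⟩ := MulAction.exists_smul_eq G S T
  let c := MulAut.conj g
  have hT : (T : Subgroup G) = (stdG D).map c.toMonoidHom := by rw [← hg, ← hS]; rfl
  refine ⟨(bigG D).map c.toMonoidHom, ⟨hT ▸ Subgroup.map_mono (bigG_le D),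
    elementary_map _ (elementary_bigG D),
    (Subgroup.card_map_of_injective c.injective).trans (card_bigG D)⟩, ?_⟩
  rintro V ⟨hV, hel, hc⟩
  have h := eq_bigG D (B := V.map c.symm.toMonoidHom) (elementary_map _ hel) ?_
    (by rw [Subgroup.card_map_of_injective c.symm.injective, hc])
  · rw [← h, Subgroup.map_map, show c.toMonoidHom.comp c.symm.toMonoidHom = MonoidHom.id _ from
      MonoidHom.ext fun y => c.apply_symm_apply y, Subgroup.map_id]
  · rintro _ ⟨v, hv, rfl⟩
    obtain ⟨s, hs, e⟩ := (hT ▸ hV hv : v ∈ (stdG D).map c.toMonoidHom)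
    rw [← e]
    show c.symm (c s) ∈ stdG D
    rwa [MulEquiv.symm_apply_apply]

end CfsgLib.Spor.LargeFi.J4
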