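import Cfsg.Agent.Lib.Spor.LargeJ4.ACodeChk

/-!
Certificates for a complement of the elementary subgroup of order `2^11` in the standard Sylow
2-subgroup: three involutions, a totally singular space invariant under them, and for six involutions
their action on the coordinates with a fixed member of the class of the central involution.
-/

set_option autoImplicit false
set_option maxRecDepth 100000
set_option maxHeartbeats 1000000
set_option Elab.async false

namespace CfsgLib.Spor.LargeFi.J4

open CfsgLib.Spor.U62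

/-- the codes of three involutions generating a complement -/
def cmpA : ℕ := 632640977778649880954

@[inherit_doc cmpA] def cmpB : ℕ := 2361332432931188663056

@[inherit_doc cmpA] def cmpT : ℕ := 1174386194239521319321

/-- the six involutions in which the relations are tested -/
def sixL : List ℕ := [
  632640977778649880954, 2361332432931188663056,
  1174386194239521319321, 4002474356421317785296,
  1892534164161127792817, 1174393511077092551193]

/-- a fixed coordinate of the class of the central involution for each of them -/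
def sixZ : List ℕ := [50, 14, 92, 50, 56, 82]

/-- the images of the coordinate vectors under each of them -/
def sixI : List (List ℕ) := [

  [1, 48, 88, 58, 76, 78, 114, 1408, 641, 1153, 1921],
  [1, 30, 10, 26, 12, 32, 64, 256, 128, 1793, 1408],
  [1, 104, 88, 62, 116, 114, 78, 1536, 641, 1793, 1921],
  [1, 48, 88, 102, 34, 32, 64, 768, 1921, 1793, 641],
  [1, 6, 4, 80, 40, 64, 32, 768, 256, 384, 1024],
  [1, 122, 86, 34, 102, 114, 78, 641, 1536, 512, 768]]

/-- the totally singular space of the complement -/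
def cmpW : List ℕ := [
  0, 90, 175, 245, 318, 356, 401, 459, 535, 589, 696, 738,
  809, 883, 902, 988, 1083, 1121, 1172, 1230, 1285, 1375, 1450, 1520,
  1580, 1654, 1667, 1753, 1810, 1864, 1981, 2023, 2077, 2119, 2226, 2280,
  2339, 2425, 2444, 2518, 2570, 2640, 2725, 2815, 2868, 2926, 2971, 3009,
  3110, 3196, 3209, 3283, 3352, 3394, 3511, 3565, 3633, 3691, 3742, 3780,
  3855, 3925, 4000, 4090]

/-- vectors flipping a single coordinate -/
def flipV : List ℕ := [55, 46, 37, 31, 43, 22]

/-- for each code an element of the complement carrying it into the distinguished group -/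
def cmpN : List ℕ := [
  0, 0, 7, 7, 2, 5, 2, 5, 5, 2, 2, 5, 13, 13, 10, 10, 4, 1, 4, 1, 15, 8, 8, 15,
  3, 6, 3, 6, 4, 1, 4, 1, 14, 11, 14, 11, 14, 11, 14, 11, 9, 12, 9, 12, 0, 0, 7, 7,
  13, 13, 10, 10, 8, 15, 8, 15, 5, 2, 2, 5, 10, 10, 13, 13, 5, 2, 5, 2, 7, 7, 0, 0,
  7, 7, 0, 0, 12, 9, 9, 12, 8, 15, 15, 8, 13, 10, 13, 10, 8, 15, 15, 8, 3, 3, 6, 6,
  0, 0, 7, 7, 2, 5, 2, 5, 5, 2, 2, 5, 4, 1, 4, 1, 12, 12, 9, 9, 3, 6, 3, 6,
  4, 1, 4, 1, 0, 0, 7, 7, 11, 14, 11, 14, 12, 9, 12, 9, 3, 3, 6, 6, 5, 2, 2, 5,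
  5, 2, 5, 2, 7, 7, 0, 0, 11, 14, 11, 14, 7, 7, 0, 0, 4, 1, 4, 1, 4, 1, 4, 1,
  3, 6, 3, 6, 14, 11, 14, 11, 14, 11, 14, 11, 9, 12, 9, 12, 12, 9, 9, 12, 3, 3, 6, 6,
  12, 12, 9, 9, 4, 1, 4, 1, 4, 1, 4, 1, 10, 10, 13, 13, 3, 6, 3, 6, 8, 15, 15, 8,
  8, 15, 15, 8, 13, 10, 13, 10, 11, 14, 11, 14, 12, 9, 12, 9, 3, 3, 6, 6, 13, 13, 10, 10,
  11, 14, 11, 14, 15, 8, 8, 15, 8, 15, 8, 15, 13, 13, 10, 10]

/-- the images of the coordinate vectors extended linearly -/
def tlA (I : List ℕ) : ℕ → ℕ → ℕ
  | 0, _ => 0
  | k + 1, n => Nat.xor (tlA I k n) (if n.testBit k then I.getD k 0 else 0)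

/-- the sign of a coset read off the set of non-central classes -/
def sgC (p : ℕ) : ℕ := if inM (dM 0 1) (p * 128) then 0 else 1

/-- the product of the first two involutions -/
def cmpR : ℕ := sMul cmpA cmpB

/-- the codes of the complement -/
def cmpC (n : ℕ) : ℕ :=
  sMul (sMul ([2 * oneC, cmpR, sMul cmpR cmpR, sMul (sMul cmpR cmpR) cmpR].getD (n % 4) 0)
    (if Nat.beq (n / 4 % 2) 1 then cmpA else 2 * oneC)) (if Nat.beq (n / 8) 1 then cmpT else 2 * oneC)

/-! ### Checks -/

theorem six_codes : (sixL == [cmpA, cmpB, cmpT, sMul cmpR cmpR, sMul cmpA cmpT, sMul cmpB cmpT]) =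
    true := by decide +kernel

theorem six_low : ((List.range 6).all fun i => let p := sixL.getD i 0; let I := sixI.getD i []
    memV sylL p && Nat.beq (sMul p p) (2 * oneC) && Nat.beq (I.getD 0 0) 1 &&
      (List.range 6).all fun j =>
        Nat.beq (I.getD (1 + j) 0) (wK (sActC p (wV (2 ^ j))) * 2)) = true := by decide +kernel

theorem six_high : ((List.range 6).all fun i => let p := sixL.getD i 0; let I := sixI.getD i []
    (List.range 4).all fun j => let m := I.getD (7 + j) 0
      Nat.blt m 2048 && !Nat.beq (pI m) 0 && Nat.beq (sMul p (peC (2 ^ j))) (sMul (peC (pI m)) p) &&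
        Nat.beq (m % 128) (sgC (pI m))) = true := by decide +kernel

theorem six_fixed : ((List.range 6).all fun i => let I := sixI.getD i []; let c := sixZ.getD i 0
    Nat.blt c 2048 && !Nat.beq c 0 && !inM (dM 0 1) c && Nat.beq (tlA I 11 c) c &&
      (dL 0 1).all fun d => !inM (dM 0 1) (Nat.xor d c) || Nat.beq (tlA I 11 d) d ||
        Nat.beq (tlA I 11 d) (Nat.xor d c)) = true := by decide +kernel

theorem six_moves : ((List.range 6).all fun i => let I := sixI.getD i []
    (List.range 2048).all fun n => !Nat.beq (Nat.xor (tlA I 11 n) n) 1) = true := by decide +kernel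

theorem low_span : ((List.range 6).all fun j => bigWc.any fun a => bigWc.any fun b =>
    Nat.beq (Nat.xor a b) (2 ^ j) || bigWc.any fun c =>
      Nat.beq (Nat.xor (Nat.xor a b) c) (2 ^ j)) = true := by decide +kernel

theorem bigWc_dual : (bigWc.all fun w => inM (dM 0 1) (w * 2) && inM (dM 0 1) (w * 2 + 1) &&
    Nat.beq (Nat.xor (w * 2) 1) (w * 2 + 1)) = true := by decide +kernel

theorem flip_check : ((List.range 6).all fun j => let v := flipV.getD j 0
    Nat.blt v 4096 && (List.range 6).all fun i => Nat.beq (qC v (2 ^ (1 + i)))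
      (Nat.xor (2 ^ (1 + i)) (if Nat.beq i j then 1 else 0))) = true := by decide +kernel

theorem singular_shift : ((List.range 4096).all fun v => Nat.beq (nfC v) 0 ||
    fixL.any fun u => Nat.beq (nfC (Nat.xor v u)) 0) = true := by decide +kernel

theorem cmpC_facts : ((List.range 16).all fun n => memV sylL (cmpC n) &&
    (Nat.beq n 0 || !memV elemL (cmpC n))) = true := by decide +kernel

theorem cmpN_check : ((List.range 256).all fun i =>
    Nat.blt (cmpN.getD i 99) 16 && memV elemL (sMul (sylL.getD i 0) (cmpC (cmpN.getD i 99)))) = true := by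
  decide +kernel

theorem cmpW_space : (memV cmpW 0 && cmpW.all fun u => Nat.blt u 4096 && Nat.beq (nfC u) 0 &&
    memV cmpW (smC 2 u) && (Nat.beq u 0 || !memV fixL u) &&
      cmpW.all fun w => memV cmpW (Nat.xor u w)) = true := by decide +kernel

theorem cmpW_inv : ([cmpA, cmpB, cmpT].all fun p => cmpW.all fun u => memV cmpW (sActC p u)) = true := by
  decide +kernel

theorem cmpW_cover : ((List.range 12).all fun j =>
    cmpW.any fun w => memV fixL (Nat.xor (2 ^ j) w)) = true := by decide +kernel

end CfsgLib.Spor.LargeFi.J4
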