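import Cfsg.Agent.Lib.Spor.LargeJ4.ASigns
import Cfsg.Agent.Lib.Spor.LargeJ4.ComplChk
import Cfsg.Agent.Lib.Coprime.Gaschutz

/-!
The elementary subgroup of order `2^11` of a group of fourth Janko type has a complement in its
normaliser.  By Gaschütz's theorem a complement in the standard Sylow 2-subgroup suffices.  That is
made of a totally singular space complementary to the fixed one, lifted canonically with respect to
the element of order three, and of lifts of three involutions normalising that element.  These lifts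
and the products occurring in the relations square to one: each acts on the elementary subgroup as a
conjugate of an involution of the extraspecial subgroup, the conjugation being supplied by the fusion
of the central involution.
-/

set_option autoImplicit false
set_option maxRecDepth 100000
set_option maxHeartbeats 1000000

namespace CfsgLib.Spor.LargeFi.J4

open CfsgLib.Spor.U62 CfsgLib.ThreeTransp
open Matrix

/-- conjugation centralises or inverts an element of order three -/
def NX {H : Type*} [Group H] (x h : H) : Prop := h * x * h⁻¹ = x ∨ h * x * h⁻¹ = x * x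

/-- the product of the three conjugates under an element of order three -/
def trip {H : Type*} [Group H] (x u : H) : H :=
  u * (x * u * x⁻¹) * (x * (x * u * x⁻¹) * x⁻¹)

section

variable {H : Type*} [Group H]

theorem sq_sq_eq {x : H} (hx3 : x ^ 3 = 1) : x * x * (x * x) = x := by
  calc x * x * (x * x) = x ^ 3 * x := by simp [pow_succ, mul_assoc]
    _ = x := by rw [hx3, one_mul]

theorem NX.mul {x a b : H} (hx3 : x ^ 3 = 1) (ha : NX x a) (hb : NX x b) : NX x (a * b) := by
  have e : a * b * x * (a * b)⁻¹ = a * (b * x * b⁻¹) * a⁻¹ := by simp [mul_assoc]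
  have e2 : a * (x * x) * a⁻¹ = a * x * a⁻¹ * (a * x * a⁻¹) := by simp [mul_assoc]
  have h4 : x * x * (x * x) = x := sq_sq_eq hx3
  rcases ha with ha | ha <;> rcases hb with hb | hb
  · left; rw [e, hb, ha]
  · right; rw [e, hb, e2, ha]
  · right; rw [e, hb, ha]
  · left; rw [e, hb, e2, ha, h4]

theorem NX.swap {x a : H} (hx3 : x ^ 3 = 1) (ha : NX x a) : x * a = a * x ∨ x * a = a * (x * x) := by
  rcases ha with ha | ha
  · left
    conv_lhs => rw [← ha]
    rw [inv_mul_cancel_right]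
  · right
    have h4 : x * x * (x * x) = x := sq_sq_eq hx3
    have e : a * (x * x) * a⁻¹ = x := by
      rw [show a * (x * x) * a⁻¹ = a * x * a⁻¹ * (a * x * a⁻¹) by simp [mul_assoc], ha, h4]
    conv_lhs => rw [← e]
    rw [inv_mul_cancel_right]

theorem trip_conj {x P u : H} (hx3 : x ^ 3 = 1) (hP : NX x P)
    (hc : x * u * x⁻¹ * (x * (x * u * x⁻¹) * x⁻¹) = x * (x * u * x⁻¹) * x⁻¹ * (x * u * x⁻¹))
    (h : trip x u = 1) : trip x (P * u * P⁻¹) = 1 := by
  have hxi : x * x * (x * x) = x := sq_sq_eq hx3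
  rcases hP.swap hx3 with e | e
  · have e1 : ∀ w, x * (P * w * P⁻¹) * x⁻¹ = P * (x * w * x⁻¹) * P⁻¹ := fun w => by
      calc x * (P * w * P⁻¹) * x⁻¹ = (x * P) * w * (x * P)⁻¹ := by simp [mul_assoc]
        _ = _ := by rw [e]; simp [mul_assoc]
    unfold trip at h ⊢
    rw [e1, e1]
    calc P * u * P⁻¹ * (P * (x * u * x⁻¹) * P⁻¹) * (P * (x * (x * u * x⁻¹) * x⁻¹) * P⁻¹)
        = P * (u * (x * u * x⁻¹) * (x * (x * u * x⁻¹) * x⁻¹)) * P⁻¹ := by simp [mul_assoc]
      _ = 1 := by rw [h]; simp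
  · have e1 : ∀ w, x * (P * w * P⁻¹) * x⁻¹ = P * ((x * x) * w * (x * x)⁻¹) * P⁻¹ := fun w => by
      calc x * (P * w * P⁻¹) * x⁻¹ = (x * P) * w * (x * P)⁻¹ := by simp [mul_assoc]
        _ = _ := by rw [e]; simp [mul_assoc]
    have e2 : x * x * ((x * x) * u * (x * x)⁻¹) * (x * x)⁻¹ = x * u * x⁻¹ := by
      calc x * x * ((x * x) * u * (x * x)⁻¹) * (x * x)⁻¹ =
          (x * x * (x * x)) * u * (x * x * (x * x))⁻¹ := by simp [mul_assoc]
        _ = _ := by rw [hxi]
    have e3 : x * x * u * (x * x)⁻¹ = x * (x * u * x⁻¹) * x⁻¹ := by simp [mul_assoc]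
    unfold trip at h ⊢
    rw [e1, e1, e2, e3]
    calc P * u * P⁻¹ * (P * (x * (x * u * x⁻¹) * x⁻¹) * P⁻¹) * (P * (x * u * x⁻¹) * P⁻¹)
        = P * (u * (x * (x * u * x⁻¹) * x⁻¹ * (x * u * x⁻¹))) * P⁻¹ := by simp [mul_assoc]
      _ = 1 := by rw [← hc, ← mul_assoc u, h]; simp

/-- normal form in the group generated by a dihedral pair and a commuting involution -/
theorem closure_form {A B T : H} (hA : A * A = 1) (hB : B * B = 1) (hT : T * T = 1)
    (hAT : A * T = T * A) (hBT : B * T = T * B) (hR : (A * B) ^ 4 = 1) {h : H}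
    (hh : h ∈ Subgroup.closure ({A, B, T} : Set H)) :
    ∃ i j k : ℕ, h = (A * B) ^ i * A ^ j * T ^ k := by
  set R := A * B with hRd
  have hARB : A * R = B := by rw [hRd, ← mul_assoc, hA, one_mul]
  have hRA : SemiconjBy A R (R ^ 3) := by
    show A * R = R ^ 3 * A
    have h1 : R * (B * A) = 1 := by
      rw [hRd, mul_assoc, ← mul_assoc B, hB, one_mul, hA]
    have h2 : R ^ 3 = B * A := by
      calc R ^ 3 = R ^ 3 * (R * (B * A)) := by rw [h1, mul_one]
        _ = B * A := by rw [← mul_assoc, ← pow_succ, hR, one_mul]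
    rw [hARB, h2, mul_assoc, hA, mul_one]
  have hTR : Commute T R := (show Commute T A from hAT.symm).mul_right hBT.symm
  have hAi : A⁻¹ = A := inv_eq_of_mul_eq_one_right hA
  have hBi : B⁻¹ = B := inv_eq_of_mul_eq_one_right hB
  have hTi : T⁻¹ = T := inv_eq_of_mul_eq_one_right hT
  have stepA : ∀ i j k : ℕ, A * (R ^ i * A ^ j * T ^ k) = R ^ (3 * i) * A ^ (j + 1) * T ^ k := by
    intro i j k
    rw [← mul_assoc, ← mul_assoc, (hRA.pow_right i).eq, ← pow_mul, mul_assoc (R ^ (3 * i)),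
      ← pow_succ']
  have step : ∀ g ∈ ({A, B, T} : Set H), ∀ y, (∃ i j k : ℕ, y = R ^ i * A ^ j * T ^ k) →
      ∃ i j k : ℕ, g * y = R ^ i * A ^ j * T ^ k := by
    rintro g hg y ⟨i, j, k, rfl⟩
    rcases hg with rfl | rfl | rfl
    · exact ⟨_, _, _, stepA i j k⟩
    · refine ⟨3 * (i + 1), j + 1, k, ?_⟩
      rw [← stepA, ← hARB, pow_succ']
      simp only [mul_assoc]
    · refine ⟨i, j, k + 1, ?_⟩
      rw [← mul_assoc, ← mul_assoc, (hTR.pow_right i).eq, mul_assoc (R ^ i),
        ((show Commute g A from hAT.symm).pow_right j).eq, ← mul_assoc (R ^ i), mul_assoc _ g,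
        ← pow_succ']
  have hinv : ∀ g ∈ ({A, B, T} : Set H), g⁻¹ = g := by
    intro g hg
    rcases hg with rfl | rfl | rfl
    exacts [hAi, hBi, hTi]
  induction hh using Subgroup.closure_induction_left with
  | one => exact ⟨0, 0, 0, by simp⟩
  | mul_left g hg y _ ih => exact step g hg y ih
  | inv_mul_cancel g hg y _ ih => rw [hinv g hg]; exact step g hg y ih

end

theorem K4_scalars : (1 + om * om : K4) * (om * om) = 1 ∧ om * om + 1 = om ∧ om + om * om = (1 : K4) ∧
    (1 + om : K4) = om * om := by decide +kernel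

theorem xor_two (a b : ℕ) : Nat.xor (a * 2) (b * 2) = Nat.xor a b * 2 := by
  show a * 2 ^^^ b * 2 = (a ^^^ b) * 2
  have h : ∀ m : ℕ, m * 2 = m <<< 1 := fun m => by rw [Nat.shiftLeft_eq]
  simp only [h, Nat.shiftLeft_xor_distrib]

theorem inM_dM (n : ℕ) : inM (dM 0 1) n = true ↔ n ∈ dL 0 1 := by
  rw [dM, inM_mask]

theorem tlA_lt (i : ℕ) (hi : i < 6) (n : ℕ) : tlA (sixI.getD i []) 11 n < 2048 := by
  have hall : ∀ i < 6, ∀ x ∈ sixI.getD i [], x < 2 ^ 11 := by decide +kernel
  have key : ∀ k, tlA (sixI.getD i []) k n < 2 ^ 11 := by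
    intro k
    induction k with
    | zero => simp [tlA]
    | succ k ih =>
      refine Nat.xor_lt_two_pow ih ?_
      split_ifs
      · by_cases hl : k < (sixI.getD i []).length
        · rw [List.getD_eq_getElem _ _ hl]; exact hall i hi _ (List.getElem_mem hl)
        · rw [List.getD_eq_default _ _ (not_lt.1 hl)]; norm_num
      · norm_num
  exact key 11

theorem flag_smul {p : ℕ} (hf : flag p = true) (c : K4) (v : V6) :
    sAct p (c • v) = c ^ 2 • sAct p v := by
  unfold sAct
  rw [if_pos hf, if_pos hf, gal_smul, Matrix.mulVec_smul]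

namespace Model

variable {H : Type*} [Group H] [Finite H] {Q : Subgroup H} [Q.Normal] {z : H} (D : Model Q z)

omit [Finite H] in
/-- an element of order three congruent to a scalar is conjugate to it under the normal subgroup -/
theorem conj_scalar {w y : H} {c d : K4} (hw : ∀ v, D.act w v = c • v) (hcd : (1 + c) * d = 1)
    (hw3 : w ^ 3 = 1) (hy3 : y ^ 3 = 1) (hy : y * w⁻¹ ∈ Q) :
    ∃ q : Q, (q : H) * w * (q : H)⁻¹ = y := by
  obtain ⟨q0, hq0⟩ : ∃ q0 : Q, (q0 : H) = y * w⁻¹ := ⟨⟨_, hy⟩, rfl⟩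
  obtain ⟨q, hq⟩ := D.vec_surj (d • D.vec q0)
  have hm : w * ((q⁻¹ : Q) : H) * w⁻¹ ∈ Q := (inferInstance : Q.Normal).conj_mem _ (q⁻¹).2 w
  have hc : D.vec (q * ⟨_, hm⟩) = D.vec q0 := by
    rw [D.vec_mul, D.vec_conj', hw, D.vec_inv, hq, smul_smul, ← add_smul,
      show d + c * d = (1 + c) * d by rw [add_mul, one_mul], hcd, one_smul]
  have hyw : y = (q0 : H) * w := by rw [hq0, inv_mul_cancel_right]
  rcases D.vec_eq hc with e | e <;> simp only [Subgroup.coe_mul, Subgroup.coe_inv] at e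
  · exact ⟨q, by rw [hyw, e]; simp [mul_assoc]⟩
  · exfalso
    have e' : y = z * ((q : H) * w * (q : H)⁻¹) := by rw [hyw, e]; simp [mul_assoc]
    rw [e', (show Commute z ((q : H) * w * (q : H)⁻¹) from (D.zc _).symm).mul_pow, conj_pow, hw3,
      mul_one, mul_inv_cancel, mul_one, pow_succ, pow_two, D.xc.inv, one_mul] at hy3
    exact D.xc.ne_one hy3

omit [Finite H] in
/-- every code of the standard group lifts to the normaliser of the element of order three -/
theorem exists_norm_lift {x : H} (hx3 : x ^ 3 = 1) (hx : ∀ v, D.act x v = om • v) {p : ℕ}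
    (hp : p ∈ sylL) : ∃ h, NX x h ∧ ∀ v, D.act h v = sAct p v := by
  cases hf : flag p with
  | false =>
    obtain ⟨g, hg, e⟩ := sylL_linear hp hf
    obtain ⟨h, hh, eh⟩ := D.lift_cent hx3 hx hg
    exact ⟨h, Or.inl (mul_inv_eq_iff_eq_mul.2 hh), fun v => by rw [eh, e]⟩
  | true =>
    obtain ⟨h, eh⟩ := D.lift_code hp
    have hw : ∀ v, D.act (x * x) v = (om * om) • v := fun v => by
      rw [D.act_mul_apply, hx, hx, smul_smul]
    have hw3 : (x * x) ^ 3 = 1 := by rw [← pow_two, ← pow_mul, mul_comm, pow_mul, hx3, one_pow]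
    have hy3 : (h * x * h⁻¹) ^ 3 = 1 := by rw [conj_pow, hx3, mul_one, mul_inv_cancel]
    have hyw : h * x * h⁻¹ * (x * x)⁻¹ ∈ Q := by
      have h1 : (x * x)⁻¹ * (h * x * h⁻¹) ∈ Q := D.mem_of_act_eq fun v => by
        rw [hw, D.act_mul_apply, D.act_mul_apply, hx, eh, flag_smul hf, ← eh, D.act_apply_inv, pow_two]
      have h2 := (inferInstance : Q.Normal).conj_mem _ h1 (x * x)
      rwa [mul_inv_cancel_left] at h2
    obtain ⟨q, hq⟩ := D.conj_scalar hw K4_scalars.1 hw3 hy3 hyw
    refine ⟨(q : H)⁻¹ * h, Or.inr ?_, fun v => ?_⟩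
    · calc (q : H)⁻¹ * h * x * ((q : H)⁻¹ * h)⁻¹ = (q : H)⁻¹ * (h * x * h⁻¹) * q := by simp [mul_assoc]
        _ = x * x := by rw [← hq]; simp [mul_assoc]
    · rw [D.act_mul_apply, eh, (D.ker_act _).2 (inv_mem q.2)]; rfl

omit [Finite H] in
theorem norm_sq {x : H} (hx3 : x ^ 3 = 1) (hx : ∀ v, D.act x v = om • v) {P : H} {p : ℕ}
    (hP : NX x P) (e : ∀ v, D.act P v = sAct p v) (hpp : sMul p p = 2 * oneC) :
    P * P = 1 ∨ P * P = z := by
  refine D.fixed_central hx ((D.ker_act _).1 (AddMonoidHom.ext fun v => ?_)) ?_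
  · show D.act (P * P) v = v
    rw [D.act_mul_apply, e, e, ← sAct_sMul, hpp, sAct_one]
  · rcases (hP.mul hx3 hP).swap hx3 with h | h
    · exact h
    · exfalso
      have e1 : D.act (x * (P * P)) = D.act (P * P * (x * x)) := by rw [h]
      have hPP : ∀ v, D.act (P * P) v = v := fun v => by
        rw [D.act_mul_apply, e, e, ← sAct_sMul, hpp, sAct_one]
      have e2 := DFunLike.congr_fun e1 (vOf 1)
      rw [D.act_mul_apply, hPP, D.act_mul_apply (P * P), hPP, D.act_mul_apply, hx, hx, smul_smul] at e2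
      have e3 : (om * om + om) • vOf 1 = (0 : V6) := by rw [add_smul, ← e2, v6_two]
      rw [add_comm, K4_scalars.2.2.1, one_smul] at e3
      exact absurd (congrArg vc e3) (by decide +kernel)

namespace ABase

variable {D} (B : D.ABase)

omit [Finite H] in
theorem trip_fixU {u : H} (hu : u ∈ D.fixU) :
    B.x * u * B.x⁻¹ * (B.x * (B.x * u * B.x⁻¹) * B.x⁻¹) =
      B.x * (B.x * u * B.x⁻¹) * B.x⁻¹ * (B.x * u * B.x⁻¹) :=
  D.fixU_comm (B.cx_fixU hu) (B.cx_fixU (B.cx_fixU hu))

theorem CN_norm {P u : H} (hP : NX B.x P) (hs : P ∈ D.std) (hu : B.CN u) : B.CN (P * u * P⁻¹) :=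
  ⟨D.std_norm_fixU hs hu.1, trip_conj B.x_three hP (B.trip_fixU hu.1) hu.2⟩

end ABase

end Model

variable {G : Type*} [Group G] [Finite G] {z : G}

namespace Model.ABase

variable {D : Model (coreH z) (zH z)} (B : D.ABase)
variable (hE : Fused z) (hN : B.Normed)
include hE hN

theorem sb_sgC {p : ℕ} (hp0 : p ≠ 0) (hp : p < 16) : B.sb p = sgC p := by
  classical
  have h : inM (dM 0 1) (p * 128) = true ↔ ¬ B.PC (p * 128) := by
    rw [inM_dM, ← List.mem_toFinset, ← B.signs hE hN, B.mem_dSet]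
    exact ⟨fun h => h.2.2, fun h => ⟨by omega, by omega, h⟩⟩
  unfold sb sgC
  by_cases hc : B.PC (p * 128)
  · rw [if_pos hc, if_neg (fun h' => h.1 h' hc)]
  · rw [if_neg hc, if_pos (h.2 hc)]

omit hE hN in
theorem six_mem {i : ℕ} (hi : i < 6) :
    sixL.getD i 0 ∈ sylL ∧ sMul (sixL.getD i 0) (sixL.getD i 0) = 2 * oneC := by
  have h := List.all_eq_true.1 six_low i (List.mem_range.2 hi)
  simp only [Bool.and_eq_true, memV_iff, Nat.beq_eq] at h
  exact ⟨h.1.1.1, h.1.1.2⟩

/-- the action of the six involutions on the coordinates -/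
theorem six_conj {i : ℕ} (hi : i < 6) {P : Subgroup.centralizer ({z} : Set G)} (hP : NX B.x P)
    (hact : ∀ v, D.act P v = sAct (sixL.getD i 0) v) (n : ℕ) :
    P * B.el n * P⁻¹ = B.el (tlA (sixI.getD i []) 11 n) := by
  obtain ⟨hp, -⟩ := six_mem hi
  have hs : P ∈ D.std := ⟨_, hp, hact⟩
  have hlow := List.all_eq_true.1 six_low i (List.mem_range.2 hi)
  simp only [Bool.and_eq_true, Nat.beq_eq, List.all_eq_true, List.mem_range] at hlow
  have hhigh := List.all_eq_true.1 six_high i (List.mem_range.2 hi)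
  simp only [Bool.and_eq_true, Nat.beq_eq, Nat.blt_eq, List.all_eq_true, List.mem_range,
    Bool.not_eq_true'] at hhigh
  set I := sixI.getD i [] with hI
  have hgen : ∀ k < 11, P * B.gen k * P⁻¹ = B.el (I.getD k 0) := by
    intro k hk
    by_cases h0 : k = 0
    · subst h0
      rw [hlow.1.2, B.el_one, show B.gen 0 = zH z from if_pos rfl]
      exact mul_inv_eq_iff_eq_mul.2 (D.zc P)
    by_cases h7 : k < 7
    · obtain ⟨j, rfl⟩ : ∃ j, k = 1 + j := ⟨k - 1, by omega⟩
      have hj : j < 6 := by omega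
      have hj64 : 2 ^ j < 64 := Nat.pow_lt_pow_right (a := 2) (n := 6) (by norm_num) hj
      have hge : B.gen (1 + j) = B.el (2 ^ j * 2) := by
        rw [← pow_succ, B.el_pow (by omega), add_comm]
      rw [hge, hlow.2 j hj]
      obtain ⟨c1, q1, v1⟩ := B.cpart hj64
      have c2 := B.CN_norm hP hs c1
      have hm : P * B.el (2 ^ j * 2) * P⁻¹ ∈ coreH z := c2.1.1
      have hv : vc (D.vec ⟨_, hm⟩) = sActC (sixL.getD i 0) (wV (2 ^ j)) := by
        have hk := List.all_eq_true.1 wK_wV _ (List.mem_range.2 hj64)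
        simp only [Bool.and_eq_true, Nat.blt_eq] at hk
        rw [D.vec_conj' P ⟨_, q1⟩ hm, hact, vc_sAct, v1, vc_vOf hk.2]
      have hfl : sActC (sixL.getD i 0) (wV (2 ^ j)) ∈ fixL := by
        obtain ⟨_, h'⟩ := c2.1
        rwa [hv] at h'
      have hk2 := List.all_eq_true.1 wV_wK _ hfl
      simp only [Bool.and_eq_true, Nat.beq_eq, Nat.blt_eq] at hk2
      obtain ⟨c3, q3, v3⟩ := B.cpart hk2.2
      refine B.CN_unique c2 c3 hm q3 (vc_injective ?_)
      rw [hv, v3, hk2.1, vc_vOf (fixL_facts.2 _ hfl).1]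
    · obtain ⟨j, rfl⟩ : ∃ j, k = 7 + j := ⟨k - 7, by omega⟩
      have hj : j < 4 := by omega
      have ha : 2 ^ j < 16 := Nat.pow_lt_pow_right (a := 2) (n := 4) (by norm_num) hj
      obtain ⟨⟨⟨hm, hp0⟩, hcode⟩, hsg⟩ := hhigh j hj
      have hp0' : pI (I.getD (7 + j) 0) ≠ 0 := fun h => by rw [h] at hp0; simp at hp0
      have hp16 : pI (I.getD (7 + j) 0) < 16 := by unfold pI; omega
      have hge : B.gen (7 + j) = B.el (2 ^ j * 128) := by
        rw [show (128 : ℕ) = 2 ^ 7 by norm_num, ← pow_add, B.el_pow (by omega), add_comm]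
      obtain ⟨hex, hea⟩ := B.ppart ha
      rw [hge]
      obtain ⟨m, hm', em⟩ := B.el_surj (D.std_norm_bigA hs (B.el_mem (2 ^ j * 128)))
      have hpm : pI m = pI (I.getD (7 + j) 0) := by
        obtain ⟨-, hpi, -⟩ := B.el_split hm'
        refine pI_unique hpi hp16 fun v => ?_
        rw [← B.act_el hm', em, D.act_mul_apply, D.act_mul_apply, hea, hact, ← sAct_sMul, hcode,
          sAct_sMul, ← hact, D.act_apply_inv]
      have hcx : B.x * (P * B.el (2 ^ j * 128) * P⁻¹) * B.x⁻¹ = P * B.el (2 ^ j * 128) * P⁻¹ := by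
        rcases hP.swap B.x_three with e | e
        · calc _ = (B.x * P) * B.el (2 ^ j * 128) * (B.x * P)⁻¹ := by simp [mul_assoc]
            _ = P * (B.x * B.el (2 ^ j * 128) * B.x⁻¹) * P⁻¹ := by rw [e]; simp [mul_assoc]
            _ = _ := by rw [← hex]; simp [mul_assoc]
        · have hc2 : Commute (B.x * B.x) (B.el (2 ^ j * 128)) :=
            (show Commute B.x _ from hex.symm).mul_left hex.symm
          calc _ = (B.x * P) * B.el (2 ^ j * 128) * (B.x * P)⁻¹ := by simp [mul_assoc]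
            _ = P * ((B.x * B.x) * B.el (2 ^ j * 128) * (B.x * B.x)⁻¹) * P⁻¹ := by
              rw [e]; simp [mul_assoc]
            _ = _ := by rw [hc2.eq, mul_inv_cancel_right]
      have hxm : xC m = m := by
        refine B.el_injOn ?_ hm' ?_
        · have := List.all_eq_true.1 xC_lt m (List.mem_range.2 hm')
          simp only [Bool.and_eq_true, Nat.blt_eq] at this; exact this.1
        · rw [← B.x_conj hm', em, hcx]
      have hnc : ¬ B.PC m := fun hc => hN j hj (by
        have := (B.PC_conj (m := (P : G)) (congrArg Subtype.val em)).1 hc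
        rwa [show 2 ^ (7 + j) = 2 ^ j * 128 by rw [pow_add]; ring])
      have hm2 := B.ec_unique hE hp0' hp16 hm' hpm hxm hnc
      rw [← em, hm2, ec, B.sb_sgC hE hN hp0' hp16, ← hsg]
      refine congrArg B.el ?_
      unfold pI
      omega
  suffices h : ∀ k ≤ 11, P * B.pr k n * P⁻¹ = B.el (tlA I k n) from h 11 le_rfl
  intro k
  induction k with
  | zero => intro _; simp [pr, tlA, B.el_zero]
  | succ k ih =>
    intro hk
    show P * (B.pr k n * if n.testBit k then B.gen k else 1) * P⁻¹ =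
      B.el (Nat.xor (tlA I k n) (if n.testBit k then I.getD k 0 else 0))
    rw [B.el_xor, ← ih (by omega)]
    split_ifs
    · rw [← hgen k (by omega)]; simp [mul_assoc]
    · simp [B.el_zero]

/-- each of the six involutions of the quotient lifts to an involution normalising the scalar -/
theorem six_sq {i : ℕ} (hi : i < 6) {P : Subgroup.centralizer ({z} : Set G)} (hP : NX B.x P)
    (hact : ∀ v, D.act P v = sAct (sixL.getD i 0) v) : P * P = 1 := by
  classical
  obtain ⟨hp, hpp⟩ := six_mem hi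
  have hs : P ∈ D.std := ⟨_, hp, hact⟩
  have hconj := B.six_conj hE hN hi hP hact
  have hF := List.all_eq_true.1 six_fixed i (List.mem_range.2 hi)
  simp only [Bool.and_eq_true, Nat.beq_eq, Nat.blt_eq, Bool.not_eq_true', List.all_eq_true,
    Bool.or_eq_true] at hF
  obtain ⟨⟨⟨⟨hclt, hc0⟩, hcd⟩, hcfix⟩, hwit⟩ := hF
  set c := sixZ.getD i 0 with hc
  have hd2 : ∀ n, n < 2048 → n ≠ 0 → (¬ B.PC n ↔ inM (dM 0 1) n = true) := fun n h1 h2 => by
    rw [inM_dM, ← List.mem_toFinset, ← B.signs hE hN, B.mem_dSet]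
    exact ⟨fun h => ⟨h1, h2, h⟩, fun h => h.2.2⟩
  have hPC : B.PC c := by
    by_contra h
    have := (hd2 c hclt (fun h' => by rw [h'] at hc0; simp at hc0)).1 h
    rw [hcd] at this
    simp at this
  obtain ⟨g, hg⟩ := isConj_iff.1 hPC
  have hzA : z ∈ bigG D := by
    have := B.elG_mem 1
    rw [B.elG_one] at this
    exact this
  obtain ⟨m, hm, em⟩ := fusion_bigG D hzA (g := g) (by rw [hg]; exact B.elG_mem c)
  rw [hg] at em
  have hmM : m ∈ B.M0 := hm
  have hPM : (P : G) ∈ B.M0 := B.mem_M0_of fun a ha => D.std_norm_bigA hs ha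
  have hPc : (P : G) * B.elG c * (P : G)⁻¹ = B.elG c := by
    have h := congrArg Subtype.val (hconj c)
    rw [hcfix] at h
    exact h
  have hsz : m⁻¹ * (P : G) * m * z = z * (m⁻¹ * (P : G) * m) := by
    calc m⁻¹ * (P : G) * m * z = m⁻¹ * ((P : G) * (m * z * m⁻¹)) * m := by simp [mul_assoc]
      _ = m⁻¹ * (B.elG c * (P : G)) * m := by rw [em, mul_inv_eq_iff_eq_mul.1 hPc]
      _ = _ := by rw [← em]; simp [mul_assoc]
  obtain ⟨s, hsG⟩ : ∃ s : Subgroup.centralizer ({z} : Set G), (s : G) = m⁻¹ * (P : G) * m :=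
    ⟨⟨_, Subgroup.mem_centralizer_singleton_iff.2 hsz⟩, rfl⟩
  -- the element acts trivially on the singular part modulo the central involution
  let F : ℕ → Prop := fun n => ∃ e < 2, s * B.el n * s⁻¹ = B.el (Nat.xor n e)
  have hFxor : ∀ a b, F a → F b → F (Nat.xor a b) := by
    rintro a b ⟨e1, h1, ha⟩ ⟨e2, h2, hb⟩
    refine ⟨Nat.xor e1 e2, Nat.xor_lt_two_pow (n := 1) h1 h2, ?_⟩
    calc s * B.el (Nat.xor a b) * s⁻¹ = (s * B.el a * s⁻¹) * (s * B.el b * s⁻¹) := by
          rw [B.el_xor]; simp [mul_assoc]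
      _ = B.el (Nat.xor (Nat.xor a e1) (Nat.xor b e2)) := by rw [ha, hb, ← B.el_xor]
      _ = _ := by
        congr 1
        show (a ^^^ e1) ^^^ (b ^^^ e2) = (a ^^^ b) ^^^ (e1 ^^^ e2)
        ac_rfl
  have hFw : ∀ w ∈ bigWc, F (w * 2) := by
    intro w hw
    have h := List.all_eq_true.1 bigWc_dual w hw
    simp only [Bool.and_eq_true, Nat.beq_eq] at h
    obtain ⟨⟨h1, h2⟩, h3⟩ := h
    rw [inM_dM, ← List.mem_toFinset, ← B.signs hE hN, B.mem_dSet] at h1 h2
    obtain ⟨d, hd, ed⟩ := B.exists_image hmM (n := w * 2)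
    obtain ⟨d', hd', ed'⟩ := B.exists_image hmM (n := w * 2 + 1)
    have edx : d' = Nat.xor d c := by
      refine B.elG_injOn hd' (Nat.xor_lt_two_pow (n := 11) hd hclt) ?_
      rw [ed', ← h3, B.elG_xor, B.elG_one, B.elG_xor, ed, ← em]
      simp [mul_assoc]
    have hnz : ∀ n k, n < 2048 → k < 2048 → n ≠ 0 → B.elG k = m * B.elG n * m⁻¹ → k ≠ 0 := by
      intro n k hn hk hn0 e hk0
      rw [hk0, B.elG_zero] at e
      exact hn0 (B.elG_injOn hn (by norm_num) ((conj_eq_one_iff.1 e.symm).trans B.elG_zero.symm))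
    have hdd : d ∈ dL 0 1 := (inM_dM d).1 ((hd2 d hd (hnz _ _ h1.1 hd h1.2.1 ed)).1 fun h =>
      h1.2.2 ((B.PC_conj ed).1 h))
    have hdd' : inM (dM 0 1) d' = true := (hd2 d' hd' (hnz _ _ h2.1 hd' h2.2.1 ed')).1 fun h =>
      h2.2.2 ((B.PC_conj ed').1 h)
    have hback : ∀ e, (P : G) * B.elG d * (P : G)⁻¹ = B.elG d * e → (s : G) * B.elG (w * 2) * (s : G)⁻¹ =
        B.elG (w * 2) * (m⁻¹ * e * m) := by
      intro e he
      calc (s : G) * B.elG (w * 2) * (s : G)⁻¹ =
          m⁻¹ * ((P : G) * (m * B.elG (w * 2) * m⁻¹) * (P : G)⁻¹) * m := by rw [hsG]; simp [mul_assoc]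
        _ = _ := by rw [← ed, he, ed]; simp [mul_assoc]
    have hcd' := congrArg Subtype.val (hconj d)
    rw [edx] at hdd'
    rcases hwit d hdd with h | h
    · rcases h with h | h
      · rw [hdd'] at h; simp at h
      · refine ⟨0, by norm_num, Subtype.ext ?_⟩
        rw [h] at hcd'
        have := hback 1 (by rw [mul_one]; exact hcd')
        rw [mul_one, inv_mul_cancel, mul_one] at this
        rw [show Nat.xor (w * 2) 0 = w * 2 from Nat.xor_zero _]
        exact this
    · refine ⟨1, by norm_num, Subtype.ext ?_⟩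
      rw [h] at hcd'
      have := hback (B.elG c) (by rw [← B.elG_xor]; exact hcd')
      rw [← em, show m⁻¹ * (m * z * m⁻¹) * m = z by simp [mul_assoc]] at this
      rw [B.el_xor, B.el_one]
      exact this
  have hFj : ∀ j < 6, F (2 ^ (1 + j)) := by
    intro j hj
    have h := List.all_eq_true.1 low_span j (List.mem_range.2 hj)
    simp only [List.any_eq_true, Bool.or_eq_true, Nat.beq_eq] at h
    obtain ⟨a, ha, b, hb, h | ⟨d, hd, h⟩⟩ := h
    · rw [add_comm, pow_succ, ← h, ← xor_two]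
      exact hFxor _ _ (hFw a ha) (hFw b hb)
    · rw [add_comm, pow_succ, ← h, ← xor_two, ← xor_two]
      exact hFxor _ _ (hFxor _ _ (hFw a ha) (hFw b hb)) (hFw d hd)
  have hbitc : ∀ (q : Subgroup.centralizer ({z} : Set G)) (e : ℕ), e < 2 →
      q * B.el e * q⁻¹ = B.el e := by
    intro q e he
    rcases B.el_bit he with ⟨h, -⟩ | ⟨h, -⟩ <;> rw [h]
    · simp
    · exact mul_inv_eq_iff_eq_mul.2 (D.zc q)
  -- correcting by an element of the extraspecial subgroup
  have hq : ∀ k ≤ 6, ∃ q : coreH z, ∀ j < 6, ∃ e < 2, (j < k → e = 0) ∧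
      ((q : Subgroup.centralizer ({z} : Set G)) * s) * B.el (2 ^ (1 + j)) *
        ((q : Subgroup.centralizer ({z} : Set G)) * s)⁻¹ = B.el (Nat.xor (2 ^ (1 + j)) e) := by
    intro k
    induction k with
    | zero =>
      intro _
      refine ⟨1, fun j hj => ?_⟩
      obtain ⟨e, he, h⟩ := hFj j hj
      exact ⟨e, he, fun h' => absurd h' (Nat.not_lt_zero _), by simpa using h⟩
    | succ k ih =>
      intro hk
      obtain ⟨q, hq⟩ := ih (by omega)
      obtain ⟨e, he, -, hek⟩ := hq k (by omega)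
      rcases (show e = 0 ∨ e = 1 by omega) with rfl | rfl
      · refine ⟨q, fun j hj => ?_⟩
        by_cases hjk : j = k
        · subst hjk; exact ⟨0, he, fun _ => rfl, hek⟩
        · obtain ⟨e, he', h0, h⟩ := hq j hj
          exact ⟨e, he', fun h' => h0 (by omega), h⟩
      · have hf := List.all_eq_true.1 flip_check k (List.mem_range.2 (by omega : k < 6))
        simp only [Bool.and_eq_true, Nat.blt_eq, List.all_eq_true, List.mem_range, Nat.beq_eq] at hf
        obtain ⟨r, hr⟩ := exists_q (D := D) hf.1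
        refine ⟨r * q, fun j hj => ?_⟩
        obtain ⟨e, he', h0, h⟩ := hq j hj
        refine ⟨Nat.xor (if j = k then 1 else 0) e,
          Nat.xor_lt_two_pow (n := 1) (by split_ifs <;> norm_num) he', fun h' => ?_, ?_⟩
        · by_cases hjk : j = k
          · subst hjk
            have e1 : B.el (Nat.xor (2 ^ (1 + j)) e) = B.el (Nat.xor (2 ^ (1 + j)) 1) := h.symm.trans hek
            have hp2 : 2 ^ (1 + j) < 2048 := Nat.pow_lt_pow_right (a := 2) (n := 11) (by norm_num) (by omega)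
            have h2 := B.el_injOn (Nat.xor_lt_two_pow (n := 11) hp2 (by omega))
              (Nat.xor_lt_two_pow (n := 11) hp2 (by norm_num)) e1
            rw [if_pos rfl, Nat.xor_right_inj.1 h2]
            rfl
          · rw [if_neg hjk, h0 (by omega)]; rfl
        · have hp2 : 2 ^ (1 + j) < 2048 :=
            Nat.pow_lt_pow_right (a := 2) (n := 11) (by norm_num) (by omega)
          have hqc := B.q_conj (q := r) hp2
          rw [hr, hf.2 j hj] at hqc
          calc _ = (r : Subgroup.centralizer ({z} : Set G)) *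
                (((q : Subgroup.centralizer ({z} : Set G)) * s) * B.el (2 ^ (1 + j)) *
                  ((q : Subgroup.centralizer ({z} : Set G)) * s)⁻¹) *
                (r : Subgroup.centralizer ({z} : Set G))⁻¹ := by simp [mul_assoc]
            _ = ((r : Subgroup.centralizer ({z} : Set G)) * B.el (2 ^ (1 + j)) *
                  (r : Subgroup.centralizer ({z} : Set G))⁻¹) *
                ((r : Subgroup.centralizer ({z} : Set G)) * B.el e *
                  (r : Subgroup.centralizer ({z} : Set G))⁻¹) := by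
              rw [h, B.el_xor]; simp [mul_assoc]
            _ = _ := by
              rw [hqc, hbitc _ e he', ← B.el_xor]
              refine congrArg B.el ?_
              exact Nat.xor_assoc _ _ _
  obtain ⟨q, hq⟩ := hq 6 le_rfl
  set t := (q : Subgroup.centralizer ({z} : Set G)) * s with ht
  have hfix : ∀ n < 2 ^ 7, t * B.el n * t⁻¹ = B.el n := by
    refine bits_induction (P := fun n => t * B.el n * t⁻¹ = B.el n) ?_ ?_ ?_
    · rw [B.el_zero]; simp
    · intro j hj
      rcases Nat.eq_zero_or_pos j with rfl | hj0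
      · exact hbitc t 1 (by norm_num)
      · obtain ⟨j, rfl⟩ : ∃ i, j = 1 + i := ⟨j - 1, by omega⟩
        obtain ⟨e, -, h0, h⟩ := hq j (by omega)
        rw [h0 (by omega)] at h
        exact h.trans (congrArg B.el (Nat.xor_zero _))
    · intro a b _ _ ha hb
      rw [B.el_xor]
      calc t * (B.el a * B.el b) * t⁻¹ = (t * B.el a * t⁻¹) * (t * B.el b * t⁻¹) := by simp [mul_assoc]
        _ = _ := by rw [ha, hb]
  have htA : t ∈ D.bigA := by
    rw [← D.cent_fixU_eq]
    refine Subgroup.mem_centralizer_iff.2 fun u hu => ?_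
    obtain ⟨n, hn, rfl⟩ := B.el_surj (fixU_le_bigA hu)
    obtain ⟨-, hp16, -⟩ := B.el_split hn
    have hp0 : pI n = 0 := pI_unique hp16 (by norm_num) fun v => by
      rw [← B.act_el hn, act_fixU hu, Nat.eq_of_beq_eq_true aPE_zero, sAct_one]
    have := hfix n (by unfold pI at hp0; omega)
    exact (mul_inv_eq_iff_eq_mul.1 this).symm
  -- making it singular
  obtain ⟨u, hu, hsq⟩ : ∃ u ∈ D.fixU,
      ((q⁻¹ : coreH z) : Subgroup.centralizer ({z} : Set G)) * u *
        (((q⁻¹ : coreH z) : Subgroup.centralizer ({z} : Set G)) * u) = 1 := by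
    have h := List.all_eq_true.1 singular_shift (vc (D.vec q⁻¹)) (List.mem_range.2 (vc_lt _))
    simp only [Bool.or_eq_true, Nat.beq_eq, List.any_eq_true] at h
    rcases h with h | ⟨w, hw, h⟩
    · refine ⟨1, one_mem _, ?_⟩
      rw [mul_one]
      exact (D.vec_sq q⁻¹).2 ((nf_eq_zero_iff _).2 h)
    · obtain ⟨b, hb⟩ := D.vec_surj (vOf w)
      have hvb : vc (D.vec b) = w := by rw [hb, vc_vOf (fixL_facts.2 w hw).1]
      refine ⟨b, ⟨b.2, hvb ▸ hw⟩, ?_⟩
      refine (D.vec_sq (q⁻¹ * b)).2 ((nf_eq_zero_iff _).2 ?_)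
      rw [D.vec_mul, vc_add, hvb]
      exact h
  set r := ((q⁻¹ : coreH z) : Subgroup.centralizer ({z} : Set G)) * u with hr
  have hmem : u⁻¹ * t ∈ D.bigA := mul_mem (inv_mem (fixU_le_bigA hu)) htA
  have hsr : s = r * (u⁻¹ * t) := by
    rw [hr, ht, Subgroup.coe_inv]; simp [mul_assoc]
  obtain ⟨n, hn, en⟩ := B.elG_surj ((Subgroup.mem_normalizer_iff.1 hm _).1
    (show ((((u⁻¹ * t)⁻¹ : Subgroup.centralizer ({z} : Set G))) : G) ∈ bigG D from
      ⟨_, inv_mem hmem, rfl⟩))
  have hinv : (P : G) * B.elG n * ((P : G) * B.elG n) = 1 := by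
    have e1 : (P : G) * B.elG n = m * (r : G) * m⁻¹ := by
      rw [en]
      have e2 : (P : G) = m * (s : G) * m⁻¹ := by rw [hsG]; simp [mul_assoc]
      rw [e2, hsr]
      simp [mul_assoc]
    have e3 : (r : G) * (r : G) = 1 := congrArg Subtype.val hsq
    rw [e1]
    calc m * (r : G) * m⁻¹ * (m * (r : G) * m⁻¹) = m * ((r : G) * (r : G)) * m⁻¹ := by simp [mul_assoc]
      _ = 1 := by rw [e3]; simp
  have hinvH : P * B.el n * (P * B.el n) = 1 := Subtype.ext hinv
  refine (D.norm_sq B.x_three B.x_act hP hact hpp).resolve_right fun hz => ?_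
  have hmv := List.all_eq_true.1 (List.all_eq_true.1 six_moves i (List.mem_range.2 hi)) n
    (List.mem_range.2 hn)
  obtain ⟨n', hn', e'⟩ := B.el_surj (D.std_norm_bigA hs (B.el_mem n))
  have hn'' : n' = tlA (sixI.getD i []) 11 n ∨ tlA (sixI.getD i []) 11 n ≥ 2048 := by
    rcases Nat.lt_or_ge (tlA (sixI.getD i []) 11 n) 2048 with h | h
    · exact Or.inl (B.el_injOn hn' h (e'.trans (hconj n)))
    · exact Or.inr h
  have hx : B.el (Nat.xor (Nat.xor n' 1) n) = 1 := by
    rw [B.el_xor, B.el_xor, B.el_one, e']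
    calc P * B.el n * P⁻¹ * zH z * B.el n = P * B.el n * P⁻¹ * (P * P) * B.el n :=
          (congrArg (fun w => P * B.el n * P⁻¹ * w * B.el n) hz).symm
      _ = P * B.el n * (P * B.el n) := by simp [mul_assoc]
      _ = 1 := hinvH
  have h0 := B.el_injOn (Nat.xor_lt_two_pow (n := 11) (Nat.xor_lt_two_pow (n := 11) hn' (by norm_num)) hn)
    (by norm_num) (hx.trans B.el_zero.symm)
  rcases hn'' with h | h
  · rw [Bool.not_eq_true', ← Bool.not_eq_true, Nat.beq_eq] at hmv
    refine hmv ?_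
    rw [← h]
    have e : n' ^^^ n = (n' ^^^ 1 ^^^ n) ^^^ 1 := by
      simp [Nat.xor_assoc, Nat.xor_comm, Nat.xor_left_comm]
    show n' ^^^ n = 1
    rw [e, show n' ^^^ 1 ^^^ n = 0 from h0]
    rfl
  · exact absurd h (not_le.2 (tlA_lt i hi n))

/-- a complement of the elementary subgroup in the standard Sylow subgroup -/
theorem exists_complement_std :
    ∃ K : Subgroup (Subgroup.centralizer ({z} : Set G)), K ≤ D.std ∧ K ⊓ D.bigA = ⊥ ∧
      D.std ≤ K ⊔ D.bigA := by
  classical
  -- the involutions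
  have hcodes : sixL = [cmpA, cmpB, cmpT, sMul cmpR cmpR, sMul cmpA cmpT, sMul cmpB cmpT] :=
    eq_of_beq six_codes
  have hget : sixL.getD 0 0 = cmpA ∧ sixL.getD 1 0 = cmpB ∧ sixL.getD 2 0 = cmpT ∧
      sixL.getD 3 0 = sMul cmpR cmpR ∧ sixL.getD 4 0 = sMul cmpA cmpT ∧
        sixL.getD 5 0 = sMul cmpB cmpT := by
    rw [hcodes]; exact ⟨rfl, rfl, rfl, rfl, rfl, rfl⟩
  obtain ⟨g0, g1, g2, g3, g4, g5⟩ := hget
  have hpA : cmpA ∈ sylL := g0 ▸ (six_mem (i := 0) (by norm_num)).1
  have hpB : cmpB ∈ sylL := g1 ▸ (six_mem (i := 1) (by norm_num)).1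
  have hpT : cmpT ∈ sylL := g2 ▸ (six_mem (i := 2) (by norm_num)).1
  obtain ⟨A, nA, eA⟩ := D.exists_norm_lift B.x_three B.x_act hpA
  obtain ⟨C, nC, eC⟩ := D.exists_norm_lift B.x_three B.x_act hpB
  obtain ⟨T, nT, eT⟩ := D.exists_norm_lift B.x_three B.x_act hpT
  have hmul : ∀ {a b : Subgroup.centralizer ({z} : Set G)} {p q : ℕ}, (∀ v, D.act a v = sAct p v) →
      (∀ v, D.act b v = sAct q v) → ∀ v, D.act (a * b) v = sAct (sMul p q) v :=
    fun ha hb v => by rw [D.act_mul_apply, hb, ha, sAct_sMul]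
  have eR : ∀ v, D.act (A * C) v = sAct cmpR v := hmul eA eC
  have nR := nA.mul B.x_three nC
  have sA := B.six_sq hE hN (i := 0) (by norm_num) nA (by rw [g0]; exact eA)
  have sC := B.six_sq hE hN (i := 1) (by norm_num) nC (by rw [g1]; exact eC)
  have sT := B.six_sq hE hN (i := 2) (by norm_num) nT (by rw [g2]; exact eT)
  have sRR := B.six_sq hE hN (i := 3) (by norm_num) (nR.mul B.x_three nR)
    (by rw [g3]; exact hmul eR eR)
  have sAT := B.six_sq hE hN (i := 4) (by norm_num) (nA.mul B.x_three nT)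
    (by rw [g4]; exact hmul eA eT)
  have sCT := B.six_sq hE hN (i := 5) (by norm_num) (nC.mul B.x_three nT)
    (by rw [g5]; exact hmul eC eT)
  have hcomm : ∀ a b : Subgroup.centralizer ({z} : Set G), a * a = 1 → b * b = 1 →
      a * b * (a * b) = 1 → a * b = b * a := fun a b ha hb hab => by
    have h := inv_eq_of_mul_eq_one_right hab
    rw [_root_.mul_inv_rev, inv_eq_of_mul_eq_one_right ha, inv_eq_of_mul_eq_one_right hb] at h
    exact h.symm
  have hAT := hcomm A T sA sT sAT
  have hCT := hcomm C T sC sT sCT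
  have hR4 : (A * C) ^ 4 = 1 := by
    rw [show (4 : ℕ) = 2 * 2 from rfl, pow_mul, pow_two, pow_two]; exact sRR
  let S := Subgroup.closure ({A, C, T} : Set (Subgroup.centralizer ({z} : Set G)))
  -- the codes of the elements
  let ev : ℕ → Subgroup.centralizer ({z} : Set G) := fun n =>
    (A * C) ^ (n % 4) * A ^ (n / 4 % 2) * T ^ (n / 8)
  have hev : ∀ n < 16, ∀ v, D.act (ev n) v = sAct (cmpC n) v := by
    intro n hn v
    have h1 : ∀ v, D.act (1 : Subgroup.centralizer ({z} : Set G)) v = sAct (2 * oneC) v := fun v => by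
      rw [map_one, sAct_one]; rfl
    have a1 : ∀ v, D.act ((A * C) ^ (n % 4)) v =
        sAct ([2 * oneC, cmpR, sMul cmpR cmpR, sMul (sMul cmpR cmpR) cmpR].getD (n % 4) 0) v := by
      rcases (show n % 4 = 0 ∨ n % 4 = 1 ∨ n % 4 = 2 ∨ n % 4 = 3 by omega) with e | e | e | e <;> rw [e]
      · rw [pow_zero]; exact h1
      · rw [pow_one]; exact eR
      · rw [pow_two]; exact hmul eR eR
      · rw [pow_succ, pow_two]; exact hmul (hmul eR eR) eR
    have a2 : ∀ v, D.act (A ^ (n / 4 % 2)) v =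
        sAct (if Nat.beq (n / 4 % 2) 1 then cmpA else 2 * oneC) v := by
      rcases (show n / 4 % 2 = 0 ∨ n / 4 % 2 = 1 by omega) with e | e <;> rw [e]
      · rw [pow_zero, if_neg (by decide)]; exact h1
      · rw [pow_one, if_pos (by decide)]; exact eA
    have a3 : ∀ v, D.act (T ^ (n / 8)) v = sAct (if Nat.beq (n / 8) 1 then cmpT else 2 * oneC) v := by
      rcases (show n / 8 = 0 ∨ n / 8 = 1 by omega) with e | e <;> rw [e]
      · rw [pow_zero, if_neg (by decide)]; exact h1
      · rw [pow_one, if_pos (by decide)]; exact eT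
    exact hmul (hmul a1 a2) a3 v
  have hevS : ∀ n, ev n ∈ S := fun n => mul_mem (mul_mem (pow_mem (mul_mem
    (Subgroup.subset_closure (by simp)) (Subgroup.subset_closure (by simp))) _)
    (pow_mem (Subgroup.subset_closure (by simp)) _)) (pow_mem (Subgroup.subset_closure (by simp)) _)
  have hSev : ∀ h ∈ S, ∃ n < 16, h = ev n := by
    intro h hh
    obtain ⟨i, j, k, rfl⟩ := closure_form sA sC sT hAT hCT hR4 hh
    refine ⟨i % 4 + 4 * (j % 2) + 8 * (k % 2), by omega, ?_⟩
    simp only [ev]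
    rw [show (i % 4 + 4 * (j % 2) + 8 * (k % 2)) % 4 = i % 4 by omega,
      show (i % 4 + 4 * (j % 2) + 8 * (k % 2)) / 4 % 2 = j % 2 by omega,
      show (i % 4 + 4 * (j % 2) + 8 * (k % 2)) / 8 = k % 2 by omega,
      ← pow_eq_pow_mod i hR4, ← pow_eq_pow_mod j (show A ^ 2 = 1 by rw [pow_two]; exact sA),
      ← pow_eq_pow_mod k (show T ^ 2 = 1 by rw [pow_two]; exact sT)]
  have hC16 : ∀ n < 16, cmpC n ∈ sylL ∧ (n ≠ 0 → cmpC n ∉ elemL) := fun n hn => by
    have h := List.all_eq_true.1 cmpC_facts n (List.mem_range.2 hn)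
    simp only [Bool.and_eq_true, memV_iff, Bool.or_eq_true, Nat.beq_eq, Bool.not_eq_true'] at h
    exact ⟨h.1, fun h0 hm => by
      rcases h.2 with h' | h'
      · exact h0 h'
      · rw [(memV_iff).2 hm] at h'; simp at h'⟩
  -- the lifted space
  have hWf := cmpW_space
  simp only [Bool.and_eq_true, List.all_eq_true, memV_iff, Nat.blt_eq, Nat.beq_eq, Bool.or_eq_true,
    Bool.not_eq_true'] at hWf
  obtain ⟨hW0, hWall⟩ := hWf
  let Wc : Set (Subgroup.centralizer ({z} : Set G)) :=
    {h | ∃ hq : h ∈ coreH z, vc (D.vec ⟨h, hq⟩) ∈ cmpW ∧ trip B.x h = 1}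
  have hvW : ∀ a b : coreH z, vc (D.vec a) ∈ cmpW → vc (D.vec b) ∈ cmpW →
      (a : Subgroup.centralizer ({z} : Set G)) * b = b * a := by
    intro a b ha hb
    refine hcomm a b ((D.vec_sq a).2 ((nf_eq_zero_iff _).2 (hWall _ ha).1.1.1.2))
      ((D.vec_sq b).2 ((nf_eq_zero_iff _).2 (hWall _ hb).1.1.1.2)) ((D.vec_sq (a * b)).2
        ((nf_eq_zero_iff _).2 ?_))
    rw [D.vec_mul, vc_add]
    exact (hWall _ ((hWall _ ha).2 _ hb)).1.1.1.2
  have hcxW : ∀ a : coreH z, vc (D.vec a) ∈ cmpW → ∃ hm : B.cx a ∈ coreH z,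
      vc (D.vec ⟨B.cx a, hm⟩) ∈ cmpW := by
    intro a ha
    have hm : B.cx (a : Subgroup.centralizer ({z} : Set G)) ∈ coreH z :=
      (inferInstance : (coreH z).Normal).conj_mem _ a.2 B.x
    refine ⟨hm, ?_⟩
    rw [B.vec_cx a.2 hm, vc_om_smul]
    exact (hWall _ ha).1.1.2
  let W : Subgroup (Subgroup.centralizer ({z} : Set G)) :=
    { carrier := Wc
      one_mem' := ⟨one_mem _, by
        rw [show (⟨1, one_mem (coreH z)⟩ : coreH z) = 1 from rfl, D.vec_one, vc_zero']; exact hW0,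
        by simp [trip]⟩
      mul_mem' := fun {a b} ⟨ha, va, ta⟩ ⟨hb, vb, tb⟩ => by
        have hab : vc (D.vec ⟨a * b, mul_mem ha hb⟩) ∈ cmpW := by
          rw [show (⟨a * b, mul_mem ha hb⟩ : coreH z) = ⟨a, ha⟩ * ⟨b, hb⟩ from rfl, D.vec_mul, vc_add]
          exact (hWall _ va).2 _ vb
        refine ⟨mul_mem ha hb, hab, ?_⟩
        obtain ⟨a1, va1⟩ := hcxW ⟨a, ha⟩ va
        obtain ⟨a2, va2⟩ := hcxW ⟨_, a1⟩ va1
        obtain ⟨b1, vb1⟩ := hcxW ⟨b, hb⟩ vb
        have c1 : b * B.cx a = B.cx a * b := hvW ⟨b, hb⟩ ⟨_, a1⟩ vb va1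
        have c2 : b * B.cx (B.cx a) = B.cx (B.cx a) * b := hvW ⟨b, hb⟩ ⟨_, a2⟩ vb va2
        have c3 : B.cx b * B.cx (B.cx a) = B.cx (B.cx a) * B.cx b := hvW ⟨_, b1⟩ ⟨_, a2⟩ vb1 va2
        show a * b * B.cx (a * b) * B.cx (B.cx (a * b)) = 1
        rw [map_mul, map_mul]
        calc a * b * (B.cx a * B.cx b) * (B.cx (B.cx a) * B.cx (B.cx b))
            = a * (b * B.cx a) * (B.cx b * B.cx (B.cx a)) * B.cx (B.cx b) := by simp [mul_assoc]
          _ = a * B.cx a * (b * B.cx (B.cx a)) * B.cx b * B.cx (B.cx b) := by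
              rw [c1, c3]; simp [mul_assoc]
          _ = (a * B.cx a * B.cx (B.cx a)) * (b * B.cx b * B.cx (B.cx b)) := by
              rw [c2]; simp [mul_assoc]
          _ = 1 := by
              rw [show a * B.cx a * B.cx (B.cx a) = 1 from ta,
                show b * B.cx b * B.cx (B.cx b) = 1 from tb, one_mul]
      inv_mem' := fun {a} ⟨ha, va, ta⟩ => by
        have h1 : a * a = 1 := (D.vec_sq ⟨a, ha⟩).2 ((nf_eq_zero_iff _).2 (hWall _ va).1.1.1.2)
        rw [inv_eq_of_mul_eq_one_right h1]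
        exact ⟨ha, va, ta⟩ }
  have hWQ : W ≤ coreH z := fun h hh => hh.1
  have hnorm : ∀ P : Subgroup.centralizer ({z} : Set G), ∀ p ∈ [cmpA, cmpB, cmpT], NX B.x P →
      (∀ v, D.act P v = sAct p v) → ∀ w ∈ W, P * w * P⁻¹ ∈ W := by
    rintro P p hp nP eP w ⟨hw, vw, tw⟩
    have hm : P * w * P⁻¹ ∈ coreH z := (inferInstance : (coreH z).Normal).conj_mem _ hw P
    obtain ⟨w1, vw1⟩ := hcxW ⟨w, hw⟩ vw
    obtain ⟨w2, vw2⟩ := hcxW ⟨_, w1⟩ vw1
    refine ⟨hm, ?_, trip_conj B.x_three nP (hvW ⟨_, w1⟩ ⟨_, w2⟩ vw1 vw2) tw⟩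
    rw [D.vec_conj' P ⟨w, hw⟩ hm, eP, vc_sAct]
    have h := List.all_eq_true.1 cmpW_inv p hp
    simp only [List.all_eq_true, memV_iff] at h
    exact h _ vw
  have hSN : S ≤ Subgroup.normalizer (W : Set (Subgroup.centralizer ({z} : Set G))) := by
    refine (Subgroup.closure_le _).2 fun P hP => Subgroup.mem_normalizer_iff.2 fun w => ?_
    have key : ∀ w ∈ W, P * w * P⁻¹ ∈ W := by
      rcases hP with rfl | rfl | rfl
      · exact hnorm _ _ (by simp) nA eA
      · exact hnorm _ _ (by simp) nC eC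
      · exact hnorm _ _ (by simp) nT eT
    refine ⟨key w, fun h => ?_⟩
    have hPi : P⁻¹ = P := by
      rcases hP with rfl | rfl | rfl
      exacts [inv_eq_of_mul_eq_one_right sA, inv_eq_of_mul_eq_one_right sC,
        inv_eq_of_mul_eq_one_right sT]
    have h2 := key _ h
    rw [hPi] at h2
    have hPP : P * P = 1 := by
      rcases hP with rfl | rfl | rfl
      exacts [sA, sC, sT]
    rwa [show P * (P * w * P) * P = w by
      simp only [← mul_assoc, hPP, one_mul]; rw [mul_assoc, hPP, mul_one]] at h2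
  refine ⟨S ⊔ W, sup_le ?_ (hWQ.trans D.Q_le_std), ?_, ?_⟩
  · exact (Subgroup.closure_le _).2 (by
      rintro P (rfl | rfl | rfl)
      exacts [⟨_, hpA, eA⟩, ⟨_, hpB, eC⟩, ⟨_, hpT, eT⟩])
  · rw [eq_bot_iff]
    rintro k ⟨hk, hkA⟩
    rw [Subgroup.mem_bot]
    obtain ⟨s, hs, w, hw, rfl⟩ : ∃ s ∈ S, ∃ w ∈ W, s * w = k := by
      have hk' : k ∈ ((S ⊔ W : Subgroup (Subgroup.centralizer ({z} : Set G))) :
          Set (Subgroup.centralizer ({z} : Set G))) := hk
      rw [Subgroup.coe_mul_of_left_le_normalizer_right S W hSN] at hk'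
      exact Set.mem_mul.1 hk'
    obtain ⟨n, hn, rfl⟩ := hSev s hs
    obtain ⟨hnel, p, hpe, ep⟩ : cmpC n ∈ sylL ∧ ∃ p ∈ elemL,
        ∀ v, D.act (ev n * w) v = sAct p v := ⟨(hC16 n hn).1, hkA.1⟩
    have hn0 : n = 0 := by
      by_contra h0
      have e : cmpC n = p := sylL_act_inj hnel (sylL_can (elem_facts hpe).1).1 fun v => by
        have hwv : D.act w v = v := by rw [(D.ker_act w).2 (hWQ hw)]; rfl
        rw [← hev n hn, ← ep]
        exact ((D.act_mul_apply (ev n) w v).trans (congrArg (D.act (ev n)) hwv)).symm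
      exact (hC16 n hn).2 h0 (e ▸ hpe)
    have he1 : ev n = 1 := by subst hn0; simp [ev]
    rw [he1, one_mul] at hkA ⊢
    have hwU : w ∈ D.fixU := by rw [← D.bigA_inf]; exact ⟨hkA, hWQ hw⟩
    obtain ⟨hq, hv, ht⟩ := hw
    obtain ⟨hq', hv'⟩ := hwU
    have h0 : vc (D.vec ⟨w, hq⟩) = 0 := by
      rcases (hWall _ hv).1.2 with h | h
      · exact h
      · exact absurd ((memV_iff).2 hv') (by rw [h]; exact Bool.false_ne_true)
    rcases (D.vec_eq_zero ⟨w, hq⟩).1 (vc_injective (h0.trans vc_zero'.symm)) with h | h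
    · exact h
    · exfalso
      change w = zH z at h
      subst h
      have hzc : B.cx (zH z) = zH z := B.cx_z
      have : zH z * B.cx (zH z) * B.cx (B.cx (zH z)) = 1 := ht
      rw [hzc, hzc, D.xc.inv, one_mul] at this
      exact D.xc.ne_one this
  · intro h hh
    set M := (S ⊔ W) ⊔ D.bigA
    have hQM : ∀ q : coreH z, (q : Subgroup.centralizer ({z} : Set G)) ∈ M := by
      have hzM : zH z ∈ M := Subgroup.mem_sup_right (fixU_le_bigA z_mem_fixU)
      have hbit : ∀ n < 2 ^ 12, ∀ q : coreH z, vc (D.vec q) = n →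
          (q : Subgroup.centralizer ({z} : Set G)) ∈ M := by
        have main : ∀ n < 2 ^ 12, ∃ q : coreH z, vc (D.vec q) = n ∧
            (q : Subgroup.centralizer ({z} : Set G)) ∈ M := by
          refine bits_induction ?_ ?_ ?_
          · exact ⟨1, by rw [D.vec_one, vc_zero'], one_mem _⟩
          · intro j hj
            have h := List.all_eq_true.1 cmpW_cover j (List.mem_range.2 hj)
            simp only [List.any_eq_true, memV_iff] at h
            obtain ⟨w, hw, hf⟩ := h
            have hwlt := (hWall _ hw).1.1.1.1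
            obtain ⟨b, hb⟩ := D.vec_surj (om • vOf w)
            have hm : B.cx (b : Subgroup.centralizer ({z} : Set G)) ∈ coreH z :=
              (inferInstance : (coreH z).Normal).conj_mem _ b.2 B.x
            let c : coreH z := b * ⟨_, hm⟩
            have hvc : D.vec c = vOf w := by
              rw [D.vec_mul, B.vec_cx b.2 hm, show (⟨(b : Subgroup.centralizer ({z} : Set G)), b.2⟩ :
                coreH z) = b from rfl, hb, smul_smul, ← add_smul, K4_scalars.2.2.1, one_smul]
            have hcW : (c : Subgroup.centralizer ({z} : Set G)) ∈ W := by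
              have hbw : vc (D.vec b) ∈ cmpW := by
                rw [hb, vc_om_smul, vc_vOf hwlt]; exact (hWall _ hw).1.1.2
              obtain ⟨_, vb1⟩ := hcxW b hbw
              obtain ⟨hm2, vb2⟩ := hcxW ⟨_, hm⟩ vb1
              refine ⟨c.2, by rw [show (⟨_, c.2⟩ : coreH z) = c from rfl, hvc, vc_vOf hwlt]; exact hw, ?_⟩
              show (b : Subgroup.centralizer ({z} : Set G)) * B.cx b *
                B.cx ((b : Subgroup.centralizer ({z} : Set G)) * B.cx b) *
                B.cx (B.cx ((b : Subgroup.centralizer ({z} : Set G)) * B.cx b)) = 1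
              rw [map_mul, map_mul, B.cx_three]
              have sq : ∀ q : coreH z, vc (D.vec q) ∈ cmpW →
                  (q : Subgroup.centralizer ({z} : Set G)) * q = 1 := fun q hq =>
                (D.vec_sq q).2 ((nf_eq_zero_iff _).2 (hWall _ hq).1.1.1.2)
              have s1 := sq ⟨_, hm⟩ vb1
              have s2 := sq ⟨_, hm2⟩ vb2
              change B.cx (b : Subgroup.centralizer ({z} : Set G)) * B.cx b = 1 at s1
              change B.cx (B.cx (b : Subgroup.centralizer ({z} : Set G))) * B.cx (B.cx b) = 1 at s2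
              calc _ = (b : Subgroup.centralizer ({z} : Set G)) *
                    ((B.cx b * B.cx b) * (B.cx (B.cx b) * B.cx (B.cx b))) * b := by simp [mul_assoc]
                _ = 1 := by rw [s1, s2, mul_one, mul_one, sq b hbw]
            obtain ⟨u, hu⟩ := D.vec_surj (vOf (Nat.xor (2 ^ j) w))
            have hul : vc (D.vec u) = Nat.xor (2 ^ j) w := by
              rw [hu, vc_vOf (fixL_facts.2 _ hf).1]
            refine ⟨c * u, ?_, mul_mem (Subgroup.mem_sup_left (Subgroup.mem_sup_right hcW))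
              (Subgroup.mem_sup_right (fixU_le_bigA ⟨u.2, hul.symm ▸ hf⟩))⟩
            rw [D.vec_mul, vc_add, hvc, hul, vc_vOf hwlt]
            show w ^^^ (2 ^ j ^^^ w) = 2 ^ j
            rw [Nat.xor_comm (2 ^ j) w, ← Nat.xor_assoc, Nat.xor_self, Nat.zero_xor]
          · rintro a b _ _ ⟨q, hq, hqM⟩ ⟨r, hr, hrM⟩
            exact ⟨q * r, by rw [D.vec_mul, vc_add, hq, hr], mul_mem hqM hrM⟩
        intro n hn q hq
        obtain ⟨r, hr, hrM⟩ := main n hn
        rcases D.vec_eq (vc_injective (hr.trans hq.symm)) with e | e <;> rw [e]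
        · exact hrM
        · exact mul_mem hzM hrM
      exact fun q => hbit _ (vc_lt _) q rfl
    obtain ⟨p, hp, ep⟩ := hh
    obtain ⟨i, hi, rfl⟩ := List.getElem_of_mem hp
    have hch := List.all_eq_true.1 cmpN_check i (List.mem_range.2 (sylL_length ▸ hi))
    simp only [Bool.and_eq_true, Nat.blt_eq, memV_iff, List.getD_eq_getElem _ _ hi] at hch
    set n := cmpN.getD i 99
    obtain ⟨d, hd, ed⟩ := D.lift_elem B.x_three B.x_act hch.2
    have hdA : d ∈ D.bigA := ⟨⟨_, hch.2, ed⟩, Subgroup.mem_centralizer_iff.2 fun u hu =>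
      (D.lift_cent_fixU B.x_act hd hch.2 ed hu).symm⟩
    have hq : d⁻¹ * (h * ev n) ∈ coreH z := D.mem_of_act_eq fun v => by
      rw [ed, hmul ep (hev n hch.1)]
    have h1 : h * ev n ∈ M := by
      have := mul_mem (show d ∈ M from Subgroup.mem_sup_right hdA) (hQM ⟨_, hq⟩)
      rwa [show d * (d⁻¹ * (h * ev n)) = h * ev n by simp] at this
    have h2 : ev n ∈ M := Subgroup.mem_sup_left (Subgroup.mem_sup_left (hevS n))
    have := mul_mem h1 (inv_mem h2)
    rwa [mul_inv_cancel_right] at this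

end Model.ABase

/-- The distinguished elementary subgroup has a complement in its normaliser. -/
theorem exists_complement_bigG (D : Model (coreH z) (zH z)) (hE : Model.ABase.Fused z) :
    ∃ K : Subgroup G, K ≤ Subgroup.normalizer (bigG D : Set G) ∧ K ⊓ bigG D = ⊥ ∧
      K ⊔ bigG D = Subgroup.normalizer (bigG D : Set G) := by
  haveI : Fact (Nat.Prime 2) := ⟨Nat.prime_two⟩
  obtain ⟨B, hN⟩ := Model.ABase.exists_normed hE D
  obtain ⟨K0, hK0, hdisj, hcov⟩ := B.exists_complement_std hE hN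
  set f := (Subgroup.centralizer ({z} : Set G)).subtype with hf
  set N := Subgroup.normalizer (bigG D : Set G) with hNdef
  have hAN : bigG D ≤ N := Subgroup.le_normalizer
  have hSN : stdG D ≤ N := by
    rintro _ ⟨s, hs, rfl⟩
    exact B.mem_M0_of fun a ha => D.std_norm_bigA hs ha
  have hinj : Function.Injective f := Subgroup.subtype_injective _
  have hKA : K0.map f ⊓ bigG D = ⊥ := by
    rw [bigG, ← Subgroup.map_inf _ _ f hinj, hdisj, Subgroup.map_bot]
  have hKle : K0.map f ≤ stdG D := Subgroup.map_mono hK0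
  have hsup : bigG D ⊔ K0.map f = stdG D := by
    refine le_antisymm (sup_le (bigG_le D) hKle) ?_
    rw [stdG, bigG, ← Subgroup.map_sup, sup_comm]
    exact Subgroup.map_mono hcov
  let V := (bigG D).subgroupOf N
  haveI : V.Normal := Subgroup.normal_subgroupOf_of_le_normalizer le_rfl
  haveI : IsMulCommutative V := ⟨⟨fun a b => Subtype.ext (Subtype.ext
    (congrArg Subtype.val ((elementary_bigG D).1.is_comm.comm
      (⟨_, a.2⟩ : bigG D) ⟨_, b.2⟩) :))⟩⟩
  obtain ⟨P, hP⟩ := exists_sylow_stdG D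
  have hidx : ¬ 2 ∣ ((stdG D).subgroupOf N).index := by
    intro h
    refine P.not_dvd_index (h.trans ?_)
    rw [hP]
    exact Subgroup.relIndex_dvd_index_of_le hSN
  obtain ⟨Y, hY⟩ := CfsgLib.Coprime.gaschutz_exists V ((stdG D).subgroupOf N)
    (Subgroup.comap_mono (bigG_le D))
    (by
      rw [Nat.card_congr (Subgroup.subgroupOfEquivOfLe hAN).toEquiv, card_bigG D]
      exact Nat.Coprime.pow_left 11 (Nat.prime_two.coprime_iff_not_dvd.2 hidx))
    ((K0.map f).subgroupOf N) (Subgroup.comap_mono hKle)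
    (by
      rw [eq_bot_iff]
      rintro v ⟨h1, h2⟩
      have h3 : (v : G) ∈ K0.map f ⊓ bigG D := ⟨h1, h2⟩
      rw [hKA, Subgroup.mem_bot] at h3
      exact Subgroup.mem_bot.2 (Subtype.ext h3))
    (by
      rw [← Subgroup.subgroupOf_sup hAN (hKle.trans hSN), hsup])
  refine ⟨Y.map N.subtype, Subgroup.map_subtype_le _, ?_, ?_⟩
  · conv_lhs => rw [← Subgroup.map_subgroupOf_eq_of_le hAN]
    rw [← Subgroup.map_inf _ _ _ (Subgroup.subtype_injective _), inf_comm, hY.disjoint.eq_bot,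
      Subgroup.map_bot]
  · conv_lhs => rw [← Subgroup.map_subgroupOf_eq_of_le hAN]
    rw [← Subgroup.map_sup, sup_comm, hY.sup_eq_top, ← MonoidHom.range_eq_map, Subgroup.range_subtype]

end CfsgLib.Spor.LargeFi.J4
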