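import Cfsg.Agent.Lib.Spor.LargeJ4.Eleven
import Cfsg.Agent.Lib.Spor.LargeJ4.Fused
import Cfsg.Agent.Lib.Spor.LargeJ4.Complement

/-!
A group of fourth Janko type has coordinates in the even cocode on its elementary abelian subgroup
of order `2^11`, with a complement in the normaliser.
-/

set_option autoImplicit false

namespace CfsgLib.Spor.LargeFi.J4

open Cfsg CfsgLib.Spor

universe u

variable {G : Type u} [Group G] [Finite G] [IsSimpleGroup G] {z : G}

/-- the interface with coordinates in a group of fourth Janko type -/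
theorem exists_eleven (hG : ¬ IsMulCommutative G) (hJ : IsOfJankoFourTypeAt z) :
    ∃ (A : Type u) (_ : AddCommGroup A), Nonempty (JankoFourCentral.Eleven z A) := by
  obtain ⟨P, hP⟩ := hJ
  obtain ⟨D, hE, B, hN⟩ := exists_coordinates hG hP
  obtain ⟨K, -, hinf, hsup⟩ := exists_complement_bigG D hE
  obtain ⟨A, inst, E, -, -⟩ := exists_eleven_of_complement hE B hN hinf hsup
  exact ⟨A, inst, ⟨E⟩⟩

end CfsgLib.Spor.LargeFi.J4
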