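import Cfsg.Agent.Lib.Spor.JankoFourCentral.Setting

/-!
Consequences of the coordinates on the elementary abelian subgroup of order `2^11`: they are carried
to every such subgroup, and the two orbits of the normaliser have 1771 and 276 members.
-/

set_option autoImplicit false
set_option maxHeartbeats 1000000

namespace CfsgLib.Spor.JankoFourCentral

open Cfsg CfsgLib.Spor CfsgLib.Spor.DuadM24
open scoped Pointwise symmDiff

namespace Eleven

variable {G : Type*} [Group G] [Finite G] {z : G} {A : Type*} [AddCommGroup A] (D : Eleven z A)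

/-- the coordinates carried along an inner automorphism -/
noncomputable def conjEleven (g : G) : Eleven z A where
  V := D.V.map (MulAut.conj g).toMonoidHom
  K := D.K.map (MulAut.conj g).toMonoidHom
  ι a := g * D.ι a * g⁻¹
  ι_add a b := by rw [D.ι_add]; group
  ι_inj a b h := D.ι_inj (mul_left_cancel (mul_right_cancel h))
  mem_V x := by
    constructor
    · rintro ⟨v, hv, rfl⟩
      obtain ⟨a, rfl⟩ := (D.mem_V v).1 hv
      exact ⟨a, rfl⟩
    · rintro ⟨a, rfl⟩
      exact ⟨D.ι a, (D.mem_V _).2 ⟨a, rfl⟩, rfl⟩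
  elem := by
    obtain ⟨⟨hcomm⟩, hexp⟩ := D.elem
    refine ⟨⟨⟨fun x y => Subtype.ext ?_⟩⟩, fun x hx => ?_⟩
    · obtain ⟨x', hx', ex⟩ := Subgroup.mem_map.1 x.2
      obtain ⟨y', hy', ey⟩ := Subgroup.mem_map.1 y.2
      show (x : G) * y = y * x
      rw [← ex, ← ey, ← map_mul, ← map_mul]
      exact congrArg _ (congrArg Subtype.val (hcomm.comm ⟨x', hx'⟩ ⟨y', hy'⟩))
    · obtain ⟨x', hx', ex⟩ := Subgroup.mem_map.1 hx
      rw [← ex, ← map_pow, hexp x' hx', map_one]
  card := by rw [Subgroup.card_map_of_injective (MulAut.conj g).injective, D.card]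
  unique := D.unique
  selfCent c hc := by
    refine ⟨g⁻¹ * c * g, D.selfCent (Subgroup.mem_centralizer_iff.2 fun v hv => ?_), ?_⟩
    · have h := Subgroup.mem_centralizer_iff.1 hc (g * v * g⁻¹) ⟨v, hv, rfl⟩
      have h' := congrArg (fun x => g⁻¹ * x * g) h
      simp only [mul_assoc, inv_mul_cancel_left, inv_mul_cancel, mul_one] at h'
      simpa only [mul_assoc] using h'
    · simp [mul_assoc]
  inf := by
    rw [← Subgroup.map_inf _ _ _ (MulAut.conj g).injective, D.inf, Subgroup.map_bot]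
  sup := by
    rw [← Subgroup.map_sup, D.sup]
    exact Subgroup.map_equiv_normalizer_eq D.V (MulAut.conj g)
  cardK := by rw [Subgroup.card_map_of_injective (MulAut.conj g).injective, D.cardK]
  C := D.C
  duad a ha := by
    have hc : IsConj (D.ι a) (g * D.ι a * g⁻¹) := isConj_iff.2 ⟨g, rfl⟩
    rw [D.duad a ha]
    exact ⟨fun h h' => h (h'.trans hc.symm), fun h h' => h (h'.trans hc)⟩

/-- every elementary abelian subgroup of order `2^11` carries the coordinates -/
theorem exists_at (W : Subgroup G) (hW : Cfsg.IsElementaryAbelian 2 W) (hc : Nat.card W = 2 ^ 11) :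
    ∃ g : G, (D.conjEleven g).V = W := by
  haveI : Fact (Nat.Prime 2) := ⟨Nat.prime_two⟩
  obtain ⟨T, hT⟩ := (IsPGroup.of_card hc : IsPGroup 2 W).exists_le_sylow
  obtain ⟨T0, hT0⟩ := (IsPGroup.of_card D.card : IsPGroup 2 D.V).exists_le_sylow
  obtain ⟨g, hg⟩ := MulAction.exists_smul_eq G T0 T
  have hle : (D.conjEleven g).V ≤ (T : Subgroup G) := by
    rintro _ ⟨v, hv, rfl⟩
    rw [← hg]
    exact ⟨v, hT0 hv, rfl⟩
  exact ⟨g, D.unique T _ W hle hT (D.conjEleven g).elem (D.conjEleven g).card hW hc⟩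

include D in
theorem natCard_A : Nat.card A = 2 ^ 11 := by
  rw [← D.card]
  exact Nat.card_congr (Equiv.ofBijective (fun a => (⟨D.ι a, D.ι_mem a⟩ : D.V))
    ⟨fun a b h => D.ι_inj (congrArg Subtype.val h), fun v => by
      obtain ⟨a, ha⟩ := (D.mem_V _).1 v.2
      exact ⟨a, Subtype.ext ha⟩⟩)

theorem duads_ne_zero {a : A} (ha : a ∈ D.C.duads) : a ≠ 0 := by
  intro h0
  obtain ⟨P, hP, e⟩ := D.C.mem_duads_iff.1 ha
  have h1 : D.C.S P = D.C.S (∅ : Finset GolayPt) := by
    rw [← e, h0]; rfl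
  have := D.C.S_inj (by simp [hP]) (by simp [hP]) h1
  rw [this] at hP
  simp at hP

theorem ncard_duads : (D.C.duads).ncard = 276 := by
  classical
  have h : D.C.duads = D.C.S '' ((Finset.univ : Finset GolayPt).powersetCard 2 : Set (Finset GolayPt)) := by
    ext x
    rw [D.C.mem_duads_iff]
    simp [Finset.mem_powersetCard, eq_comm]
  rw [h, Set.InjOn.ncard_image, Set.ncard_coe_finset, Finset.card_powersetCard, Finset.card_univ]
  · rfl
  · intro s hs t ht e
    simp only [Finset.mem_coe, Finset.mem_powersetCard, Finset.subset_univ, true_and] at hs ht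
    exact D.C.S_inj (by rw [hs, ht]; decide) (by omega) e

/-- the orbit of a member of `V` under the normaliser -/
theorem orbit_eq {a : A} (ha : a ≠ 0) :
    {v : G | ∃ n ∈ Subgroup.normalizer (D.V : Set G), n * D.ι a * n⁻¹ = v} =
      D.ι '' {b : A | b ≠ 0 ∧ (b ∈ D.C.duads ↔ a ∈ D.C.duads)} := by
  ext v
  constructor
  · rintro ⟨n, hn, rfl⟩
    obtain ⟨b, hb⟩ := D.exists_conj_vec ⟨n, hn⟩ a
    have hb' : D.ι b = n * D.ι a * n⁻¹ := hb
    have hb0 : b ≠ 0 := fun h => ha (D.ι_inj (by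
      rw [h, D.ι_zero, eq_comm, conj_eq_one_iff] at hb'
      rw [hb', D.ι_zero]))
    refine ⟨b, ⟨hb0, ?_⟩, hb'⟩
    rw [D.duad b hb0, D.duad a ha]
    have hc : IsConj (D.ι a) (D.ι b) := isConj_iff.2 ⟨n, hb'.symm⟩
    exact not_congr ⟨fun h => h.trans hc.symm, fun h => h.trans hc⟩
  · rintro ⟨b, ⟨hb0, hiff⟩, rfl⟩
    obtain ⟨k, hk⟩ : ∃ k, D.act k a = b := by
      by_cases h : a ∈ D.C.duads
      · exact D.acts.trans_duads h (hiff.2 h)
      · exact D.acts.trans_rest ha h hb0 fun h' => h (hiff.1 h')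
    exact ⟨k, D.K_le k.2, by rw [← D.ι_act, hk]⟩

theorem orbit_sizes :
    ∃ a b : A, a ≠ 0 ∧ b ≠ 0 ∧ IsConj z (D.ι a) ∧ ¬ IsConj z (D.ι b) ∧ b ∈ D.C.duads ∧
      {v : G | ∃ n ∈ Subgroup.normalizer (D.V : Set G), n * D.ι a * n⁻¹ = v}.ncard = 1771 ∧
      {v : G | ∃ n ∈ Subgroup.normalizer (D.V : Set G), n * D.ι b * n⁻¹ = v}.ncard = 276 := by
  classical
  haveI : Finite A := Nat.finite_of_card_ne_zero (by rw [D.natCard_A]; norm_num)
  have hS : {b : A | b ≠ 0}.ncard = 2047 := by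
    have h := Set.ncard_add_ncard_compl ({0} : Set A)
    rw [Set.ncard_singleton, D.natCard_A] at h
    have e : ({0} : Set A)ᶜ = {b : A | b ≠ 0} := rfl
    rw [e] at h
    omega
  have h276 := D.ncard_duads
  have hnd : {b : A | b ≠ 0 ∧ b ∉ D.C.duads}.ncard = 1771 := by
    have e : {b : A | b ≠ 0 ∧ b ∉ D.C.duads} = {b : A | b ≠ 0} \ D.C.duads := rfl
    rw [e, Set.ncard_sdiff (show D.C.duads ⊆ {b : A | b ≠ 0} from fun b hb => D.duads_ne_zero hb), hS, h276]
  obtain ⟨b, hb⟩ : D.C.duads.Nonempty := Set.nonempty_of_ncard_ne_zero (by rw [h276]; norm_num)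
  obtain ⟨a, ha0, ha⟩ : {b : A | b ≠ 0 ∧ b ∉ D.C.duads}.Nonempty :=
    Set.nonempty_of_ncard_ne_zero (by rw [hnd]; norm_num)
  have hb0 := D.duads_ne_zero hb
  refine ⟨a, b, ha0, hb0, not_not.1 fun h => ha ((D.duad a ha0).2 h), (D.duad b hb0).1 hb, hb, ?_, ?_⟩
  · rw [D.orbit_eq ha0, Set.ncard_image_of_injective _ D.ι_inj]
    simp only [ha, iff_false]
    exact hnd
  · rw [D.orbit_eq hb0, Set.ncard_image_of_injective _ D.ι_inj]
    simp only [hb, iff_true]
    rw [show {x : A | x ≠ 0 ∧ x ∈ D.C.duads} = D.C.duads from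
      Set.ext fun x => ⟨fun h => h.2, fun h => ⟨D.duads_ne_zero h, h⟩⟩, h276]

include D in
theorem structure_at {W : Subgroup G} (hW : Cfsg.IsElementaryAbelian 2 W) (hc : Nat.card W = 2 ^ 11) :
    Subgroup.centralizer (W : Set G) ≤ W ∧ ∃ K : Subgroup G, K ≤ Subgroup.normalizer (W : Set G) ∧
      K ⊓ W = ⊥ ∧ K ⊔ W = Subgroup.normalizer (W : Set G) ∧ Cfsg.Spor.IsoM24 ↥K := by
  obtain ⟨g, rfl⟩ := D.exists_at W hW hc
  exact ⟨(D.conjEleven g).selfCent, _, (D.conjEleven g).K_le, (D.conjEleven g).inf,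
    (D.conjEleven g).sup, ⟨(D.conjEleven g).e⟩⟩

end Eleven

end CfsgLib.Spor.JankoFourCentral
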