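import Cfsg.Agent.Lib.KnownA.MathieuOut.M22
import Cfsg.Agent.Lib.Spor.MathieuSimple

/-!
Facts about the Mathieu group `M22`: simplicity, the index of the inner automorphisms, and three
generators with their relations.
-/

set_option autoImplicit false
set_option maxRecDepth 100000

namespace CfsgLib.Spor.LargeFi.J4

open Cfsg CfsgLib.MathieuOut CfsgLib.MathieuOut.M22Cert CfsgLib.Spor

theorem isSimpleGroup_M22 : IsSimpleGroup Cfsg.Spor.M22 := by
  have := isSimpleGroup_stab_two (a := (none : GolayPt)) (c := some 0) (by simp)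
  let e : Cfsg.Spor.M22 ≃* ↥(MulAction.stabilizer M24 (none : GolayPt) ⊓
      MulAction.stabilizer M24 (some 0 : GolayPt)) :=
    { toFun := fun g => ⟨⟨g.1, g.2.1.1⟩, g.2.1.2, g.2.2⟩
      invFun := fun g => ⟨g.1.1, ⟨g.1.2, g.2.1⟩, g.2.2⟩
      left_inv := fun _ => rfl
      right_inv := fun _ => rfl
      map_mul' := fun _ _ => rfl }
  exact e.isSimpleGroup

theorem not_comm_M22 : ¬ ∀ a b : Cfsg.Spor.M22, a * b = b * a := by
  intro h
  haveI := isSimpleGroup_M22
  letI : CommGroup Cfsg.Spor.M22 :=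
    { (inferInstance : Group Cfsg.Spor.M22) with mul_comm := h }
  have hp := IsSimpleGroup.prime_card (α := Cfsg.Spor.M22)
  rw [natCard_M22] at hp
  norm_num at hp

theorem center_M22 : Subgroup.center Cfsg.Spor.M22 = ⊥ := by
  haveI := isSimpleGroup_M22
  refine (Subgroup.Normal.eq_bot_or_eq_top (inferInstance : (Subgroup.center Cfsg.Spor.M22).Normal)).resolve_right fun h => ?_
  exact not_comm_M22 fun a b => (Subgroup.mem_center_iff.1 (h ▸ Subgroup.mem_top a) b).symm

theorem conj_injective : Function.Injective (MulAut.conj : Cfsg.Spor.M22 →* MulAut Cfsg.Spor.M22) := by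
  rw [injective_iff_map_eq_one]
  intro g hg
  rw [← Subgroup.mem_bot, ← center_M22, Subgroup.mem_center_iff]
  intro x
  have := DFunLike.congr_fun hg x
  simp only [MulAut.conj_apply, MulAut.one_apply] at this
  rwa [mul_inv_eq_iff_eq_mul, eq_comm] at this

theorem card_inn : Nat.card ↥(Cfsg.Inn Cfsg.Spor.M22) = 443520 := by
  rw [← natCard_M22]
  exact (Nat.card_congr (MonoidHom.ofInjective conj_injective).toEquiv).symm

theorem index_inn : (Cfsg.Inn Cfsg.Spor.M22).index = 2 := by
  have h : Nat.card (Cfsg.Out (stabG [] [23, 0])) = 2 := M22Cert.natCard_out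
  rw [stabG_M22] at h
  exact h

/-- Every homomorphism to a group of order two has all inner automorphisms in its kernel. -/
theorem inn_le_of_index_two {S : Subgroup (MulAut Cfsg.Spor.M22)} (hS : S.index = 2) :
    S = Cfsg.Inn Cfsg.Spor.M22 := by
  haveI := isSimpleGroup_M22
  haveI : S.Normal := Subgroup.normal_of_index_eq_two hS
  have hle : Cfsg.Inn Cfsg.Spor.M22 ≤ S := by
    have hn : (S.comap (MulAut.conj : Cfsg.Spor.M22 →* MulAut Cfsg.Spor.M22)).Normal :=
      Subgroup.Normal.comap inferInstance _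
    rcases hn.eq_bot_or_eq_top with h | h
    · exfalso
      have h1 : (S.comap (MulAut.conj : Cfsg.Spor.M22 →* MulAut Cfsg.Spor.M22)).index ∣ S.index := by
        rw [Subgroup.index_comap]
        exact Subgroup.relIndex_dvd_index_of_normal _ _
      rw [h, Subgroup.index_bot, natCard_M22, hS] at h1
      norm_num at h1
    · rintro _ ⟨g, rfl⟩
      exact (h ▸ Subgroup.mem_top g : g ∈ S.comap MulAut.conj)
  refine (Subgroup.eq_of_le_of_card_ge hle ?_).symm
  have e1 := S.card_mul_index
  have e2 := (Cfsg.Inn Cfsg.Spor.M22).card_mul_index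
  rw [hS] at e1
  rw [index_inn] at e2
  omega

set_option maxRecDepth 100000 in
/-- Three generators of `M22` with their relations. -/
theorem exists_gens : ∃ a b c : Cfsg.Spor.M22, orderOf a = 11 ∧ orderOf b = 5 ∧ b * a = a ^ 3 * b ∧
    c * b = b ^ 2 * c ∧ (a * c * c * b) ^ 3 = 1 ∧ (a * c) ^ 7 = 1 ∧
    Subgroup.closure ({a, b, c} : Set Cfsg.Spor.M22) = ⊤ := by
  haveI : Fact (Nat.Prime 11) := ⟨by norm_num⟩
  haveI : Fact (Nat.Prime 5) := ⟨by norm_num⟩
  have hmem : ([genA, genB, genC].all (inStabP [] [23, 0])) = true := by decide +kernel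
  simp only [List.all_cons, List.all_nil, Bool.and_true, Bool.and_eq_true] at hmem
  obtain ⟨A, hA, hAa⟩ := exists_stab_rep (prev := [23, 0]) (by decide +kernel) hmem.1
  obtain ⟨B, hB, hBb⟩ := exists_stab_rep (prev := [23, 0]) (by decide +kernel) hmem.2.1
  obtain ⟨C, hC, hCc⟩ := exists_stab_rep (prev := [23, 0]) (by decide +kernel) hmem.2.2
  have hgen : Subgroup.closure ({A, B, C} : Set (Equiv.Perm GolayPt)) = stabG [] [23, 0] := by
    refine eq_of_levels ((Subgroup.closure_le _).2 ?_) (gens := [genA, genB, genC]) ?_ rows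
      (by decide +kernel) lev (by decide +kernel) (by decide +kernel) ?_
    · rintro x (rfl | rfl | rfl)
      exacts [hA, hB, hC]
    · intro x hx
      simp only [List.mem_cons, List.not_mem_nil, or_false] at hx
      rcases hx with rfl | rfl | rfl
      · exact ⟨A, Subgroup.subset_closure (by simp), hAa⟩
      · exact ⟨B, Subgroup.subset_closure (by simp), hBb⟩
      · exact ⟨C, Subgroup.subset_closure (by simp), hCc⟩
    · rw [stabG_M22, natCard_M22]; decide +kernel
  rw [stabG_M22] at hA hB hC hgen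
  let a : Cfsg.Spor.M22 := ⟨A, hA⟩
  let b : Cfsg.Spor.M22 := ⟨B, hB⟩
  let c : Cfsg.Spor.M22 := ⟨C, hC⟩
  have ord : ∀ (p : ℕ) [Fact p.Prime] {σ : Equiv.Perm GolayPt} {u : ℕ}, Rep σ u →
      eqP (powP u p) idP = true → eqP u idP = false → orderOf σ = p := by
    intro p _ σ u h h1 h2
    refine orderOf_eq_prime ((eqP_iff (rep_pow h p) rep_idP).1 h1) fun e => ?_
    rw [(eqP_iff h rep_idP).2 e] at h2
    exact absurd h2 (by decide)
  have hACCB := ((hAa.mul hCc).mul hCc).mul hBb
  refine ⟨a, b, c, ?_, ?_, ?_, ?_, ?_, ?_, subtype_closure_eq_top a b c hgen⟩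
  · rw [← Subgroup.orderOf_coe]; exact ord 11 hAa (by decide +kernel) (by decide +kernel)
  · rw [← Subgroup.orderOf_coe]; exact ord 5 hBb (by decide +kernel) (by decide +kernel)
  · exact Subtype.ext ((eqP_iff (hBb.mul hAa) ((rep_pow hAa 3).mul hBb)).1 (by decide +kernel))
  · exact Subtype.ext ((eqP_iff (hCc.mul hBb) ((rep_pow hBb 2).mul hCc)).1 (by decide +kernel))
  · exact Subtype.ext ((eqP_iff (rep_pow hACCB 3) rep_idP).1 (by decide +kernel))
  · exact Subtype.ext ((eqP_iff (rep_pow (hAa.mul hCc) 7) rep_idP).1 (by decide +kernel))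

end CfsgLib.Spor.LargeFi.J4
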