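import Cfsg.Agent.Lib.Spor.LargeJ4.Fused
import Cfsg.Agent.Lib.Spor.LargeFi.DuadM24

/-!
The normaliser of the elementary subgroup of order `2^11` acts on it as on the even cocode: the
non-central class is the set of duad vectors, and the normaliser is large.
-/

set_option autoImplicit false
set_option maxRecDepth 100000
set_option maxHeartbeats 1000000

namespace CfsgLib.Spor.LargeFi.J4

open CfsgLib.Spor.U62 CfsgLib.ThreeTransp
open scoped symmDiff Pointwise

variable {G : Type*} [Group G] [Finite G] {z : G}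

namespace Model.ABase

variable {D : Model (coreH z) (zH z)} (B : D.ABase)

instance : CommGroup ↥B.A0 :=
  { (inferInstance : Group ↥B.A0) with
    mul_comm := fun a b => Subtype.ext (by
      obtain ⟨a', ha, ea⟩ := Subgroup.mem_map.1 a.2
      obtain ⟨b', hb, eb⟩ := Subgroup.mem_map.1 b.2
      show (a : G) * b = b * a
      rw [← ea, ← eb, ← map_mul, ← map_mul, Model.bigA_comm ha hb]) }

/-- the vector of a code -/
noncomputable def toV (n : ℕ) : Additive ↥B.A0 := Additive.ofMul ⟨B.elG n, B.elG_mem n⟩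

theorem toV_xor (a b : ℕ) : B.toV (Nat.xor a b) = B.toV a + B.toV b :=
  congrArg Additive.ofMul (Subtype.ext (B.elG_xor a b))

theorem toV_zero : B.toV 0 = 0 := congrArg Additive.ofMul (Subtype.ext B.elG_zero)

theorem toV_surj (v : Additive ↥B.A0) : ∃ n < 2048, B.toV n = v := by
  obtain ⟨n, hn, e⟩ := B.elG_surj (Additive.toMul v).2
  exact ⟨n, hn, Additive.toMul.injective (Subtype.ext e)⟩

theorem toV_injOn {a b : ℕ} (ha : a < 2048) (hb : b < 2048) (h : B.toV a = B.toV b) : a = b :=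
  B.elG_injOn ha hb (congrArg (fun v => ((Additive.toMul v : ↥B.A0) : G)) h)

theorem two_V (v : Additive ↥B.A0) : v + v = 0 := by
  obtain ⟨n, -, rfl⟩ := B.toV_surj v
  rw [← B.toV_xor, ← B.toV_zero]
  exact congrArg B.toV (Nat.xor_self n)

/-- the vector of a point -/
noncomputable def qV (p : Cfsg.GolayPt) : Additive ↥B.A0 := B.toV (qgC p)

theorem sum_qV (m : ℕ) : ∑ p ∈ toSet m, B.qV p = B.toV (qgSum m) := by
  classical
  have key : ∀ k ≤ 24, B.toV ((List.range k).foldl
      (fun a i => if m.testBit i then Nat.xor a (aQG.getD i 0) else a) 0) =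
      ∑ i ∈ Finset.range k, if m.testBit i then B.toV (aQG.getD i 0) else 0 := by
    intro k
    induction k with
    | zero => intro _; simp [B.toV_zero]
    | succ k ih =>
      intro hk
      rw [List.range_succ, List.foldl_append, List.foldl_cons, List.foldl_nil, Finset.sum_range_succ,
        ← ih (by omega)]
      split
      · exact B.toV_xor _ _
      · rw [add_zero]
  rw [qgSum, key 24 le_rfl, ← Finset.sum_filter]
  refine Finset.sum_nbij' idx pt (fun p hp => ?_) (fun i hi => ?_) (fun p _ => pt_idx p)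
    (fun i hi => ?_) (fun p _ => rfl)
  · exact Finset.mem_filter.2 ⟨Finset.mem_range.2 (idx_lt p), mem_toSet.1 hp⟩
  · obtain ⟨h1, h2⟩ := Finset.mem_filter.1 hi
    exact mem_toSet.2 (by rw [idx_pt (Finset.mem_range.1 h1)]; exact h2)
  · exact idx_pt (Finset.mem_range.1 (Finset.mem_filter.1 hi).1)

theorem exists_coord (hE : Fused z) (hN : B.Normed) :
    ∃ C : DuadM24.Coord (Additive ↥B.A0), ∀ v : Additive ↥B.A0,
      v ∈ C.duads ↔ v ≠ 0 ∧ ¬ IsConj z ((Additive.toMul v : ↥B.A0) : G) := by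
  classical
  have hcard : Nat.card (Additive ↥B.A0) = 2048 := by
    show Nat.card ↥B.A0 = 2048
    rw [A0, Subgroup.card_map_of_injective (Subgroup.subtype_injective _), D.card_bigA]
    norm_num
  have hgen : ∀ v : Additive ↥B.A0, ∃ s : Finset Cfsg.GolayPt, Even s.card ∧ ∑ p ∈ s, B.qV p = v := by
    intro v
    obtain ⟨n, hn, rfl⟩ := B.toV_surj v
    refine bits_induction (k := 11) (P := fun n => ∃ s : Finset Cfsg.GolayPt, Even s.card ∧
      ∑ p ∈ s, B.qV p = B.toV n) ⟨∅, by simp, by simp [B.toV_zero]⟩ ?_ ?_ n hn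
    · intro k hk
      have h := List.all_eq_true.1 qg_gen k (List.mem_range.2 hk)
      simp only [List.any_eq_true, List.mem_range, Nat.beq_eq] at h
      obtain ⟨i, hi, j, hj, l, hl, m, hm, e⟩ := h
      refine ⟨((({pt i} : Finset Cfsg.GolayPt) ∆ {pt j}) ∆ (({pt l} : Finset Cfsg.GolayPt) ∆ {pt m})),
        ?_, ?_⟩
      · have h1 := card_symmDiff_add ({pt i} : Finset Cfsg.GolayPt) {pt j}
        have h2 := card_symmDiff_add ({pt l} : Finset Cfsg.GolayPt) {pt m}
        have h3 := card_symmDiff_add (({pt i} : Finset Cfsg.GolayPt) ∆ {pt j})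
          (({pt l} : Finset Cfsg.GolayPt) ∆ {pt m})
        simp only [Finset.card_singleton] at h1 h2
        rw [Nat.even_iff]
        omega
      · have hq : ∀ i < 24, B.qV (pt i) = B.toV (aQG.getD i 0) := fun i hi => by
          rw [qV, qgC, idx_pt hi]
        rw [DuadM24.sum_symmDiff' B.two_V, DuadM24.sum_symmDiff' B.two_V, DuadM24.sum_symmDiff' B.two_V,
          Finset.sum_singleton, Finset.sum_singleton, Finset.sum_singleton, Finset.sum_singleton,
          hq i hi, hq j hj, hq l hl, hq m hm, ← B.toV_xor, ← B.toV_xor, ← B.toV_xor, ← e]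
    · rintro a b - - ⟨s, hs, es⟩ ⟨t, ht, et⟩
      refine ⟨s ∆ t, ?_, by rw [DuadM24.sum_symmDiff' B.two_V, es, et, B.toV_xor]⟩
      have := card_symmDiff_add s t
      rw [Nat.even_iff] at hs ht ⊢
      omega
  have hker : ∀ g ∈ CfsgLib.Spor.genList, ∑ p ∈ toSet g, B.qV p = 0 := by
    intro g hg
    rw [B.sum_qV, Nat.eq_of_beq_eq_true (List.all_eq_true.1 qg_code g hg), B.toV_zero]
  have hqr : ∀ t, ∑ p ∈ Cfsg.support₂ (Cfsg.qrWord t), B.qV p = 0 := by
    intro t
    rw [← toSet_mask (Cfsg.support₂ (Cfsg.qrWord t))]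
    refine hker _ ?_
    rw [genList_spec]
    refine List.mem_append_left _ (List.mem_map.2 ⟨t, ?_, rfl⟩)
    simp only [bind, pure, List.mem_flatMap, List.mem_range, List.mem_singleton]
    exact ⟨t.val, ZMod.val_lt t, (ZMod.natCast_zmod_val t).symm⟩
  have huniv : ∑ p, B.qV p = 0 := by
    rw [← toSet_mask (Finset.univ : Finset Cfsg.GolayPt)]
    refine hker _ ?_
    rw [genList_spec]
    simp
  refine ⟨DuadM24.Coord.ofTable B.qV B.two_V hcard hqr huniv hgen, fun v => ?_⟩
  have hd := B.signs hE hN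
  have hD : ∀ n, n ∈ B.dSet ↔ n ∈ dL 0 1 := fun n => by rw [hd, List.mem_toFinset]
  constructor
  · rintro ⟨a, b, hab, rfl⟩
    have hia : idx a < 24 := idx_lt a
    have hib : idx b < 24 := idx_lt b
    have h := List.all_eq_true.1 (List.all_eq_true.1 qg_duads _ (List.mem_range.2 hia)) _
      (List.mem_range.2 hib)
    simp only [Bool.or_eq_true, Nat.beq_eq, dM, inM_mask] at h
    have hne : idx a ≠ idx b := fun e => hab (by rw [← pt_idx a, ← pt_idx b, e])
    obtain ⟨h1, h2, h3⟩ := B.mem_dSet.1 ((hD _).2 (h.resolve_left hne))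
    show B.qV a + B.qV b ≠ 0 ∧ _
    rw [qV, qV, qgC, qgC, ← B.toV_xor]
    refine ⟨fun e => h2 (B.toV_injOn h1 (by norm_num) (e.trans B.toV_zero.symm)), ?_⟩
    show ¬ IsConj z ((Additive.toMul (B.qV a + B.qV b) : ↥B.A0) : G)
    rw [qV, qV, qgC, qgC, ← B.toV_xor]
    exact h3
  · rintro ⟨hv0, hvc⟩
    obtain ⟨n, hn, rfl⟩ := B.toV_surj v
    have hmem : n ∈ dL 0 1 := (hD n).1 (B.mem_dSet.2 ⟨hn, fun e => hv0 (by rw [e, B.toV_zero]), hvc⟩)
    have h := List.all_eq_true.1 qg_cover n hmem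
    simp only [List.any_eq_true, List.mem_range, Bool.and_eq_true, Nat.beq_eq, Bool.not_eq_true',
      ← Bool.not_eq_true] at h
    obtain ⟨i, hi, j, hj, hij, e⟩ := h
    refine ⟨pt i, pt j, fun e' => hij ?_, ?_⟩
    · have := congrArg idx e'
      rwa [idx_pt hi, idx_pt hj] at this
    · show _ = B.qV (pt i) + B.qV (pt j)
      rw [qV, qV, qgC, qgC, idx_pt hi, idx_pt hj, ← B.toV_xor, ← e]

/-- the order of the normaliser -/
theorem card_M0_ge (hE : Fused z) : 81607680 * 2 ^ 11 ≤ Nat.card B.M0 := by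
  obtain ⟨d, hd, hN⟩ := B.card_NH_shape
  have h45 : 45 ≤ d := (show ∀ d ∈ oddParts, 45 ≤ d by decide +kernel) d hd
  have hM := B.card_class_dvd
  rw [B.class_card, (B.first_coset hE).2.1, (B.first_coset hE).2.2, B.card_NH, hN] at hM
  rw [← hM]
  calc 81607680 * 2 ^ 11 = (91 + 15 * 112) * (2 ^ 21 * 45) := by norm_num
    _ ≤ _ := Nat.mul_le_mul_left _ (Nat.mul_le_mul_left _ h45)

end Model.ABase

end CfsgLib.Spor.LargeFi.J4
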