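import Cfsg.Agent.Lib.Spor.LargeJ4.PinChk
import Cfsg.Agent.Lib.Spor.LargeJ4.OrbitData

/-!
Kernel checks on the orbits of the triple cover of `M22` and on the normaliser of its element of
order eleven.
-/

set_option autoImplicit false
set_option maxRecDepth 100000
set_option Elab.async false

namespace CfsgLib.Spor.LargeFi.J4

open CfsgLib.Spor.U62

/-- the generators -/
def gens0 : List ℕ := [XC, YC, FC]

/-- the outer semilinear code -/
def tauP : ℕ := 2 * tauC + 1

/-- a candidate mapping the first generator to a power -/
def candN (j u : ℕ) : ℕ := mulC (colsC (iterV (powC XC j) u)) kXi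

/-- the products forming the normaliser of the first generator -/
def prodN : List ℕ :=
  (List.range 11).flatMap fun a => (List.range 5).flatMap fun b => (List.range 3).map fun s =>
    mulC (mulC (powC XC a) (powC YC b)) (powC omC s)

theorem small_mask : Nat.beq (mask smallL) smallM = true := by decide +kernel
theorem big_mask : Nat.beq (mask bigL) bigM = true := by decide +kernel

theorem small_tree : treeB gens0 smallRoot smallTree [] = true := by decide +kernel
theorem big_tree : treeB gens0 bigRoot bigTree [] = true := by decide +kernel

theorem small_tree_mask : Nat.beq (mask (smallRoot :: smallTree.map Prod.fst)) smallM = true := by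
  decide +kernel

theorem big_tree_mask : Nat.beq (mask (bigRoot :: bigTree.map Prod.fst)) bigM = true := by
  decide +kernel

theorem small_closed : (gens0.all fun c => smallL.all fun u => inM smallM (mvC c u)) = true := by
  decide +kernel

theorem iso_cover : ((List.range 4096).all fun u => !Nat.beq (nfC u) 0 || Nat.beq u 0 ||
    inM smallM u || inM bigM u) = true := by decide +kernel

theorem small_iso : (smallL.all fun u => Nat.beq (nfC u) 0 && !Nat.beq u 0 && Nat.blt u 4096 &&
    !inM bigM u) = true := by decide +kernel

theorem big_iso : (bigL.all fun u => Nat.beq (nfC u) 0 && !Nat.beq u 0 && Nat.blt u 4096) = true := by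
  decide +kernel

theorem list_lengths : (Nat.beq smallL.length 693 && Nat.beq bigL.length 1386 && incrB smallL &&
    incrB bigL) = true := by decide +kernel

theorem probe_small : (probeL.all fun p => inM smallM p) = true := by decide +kernel

theorem nElevenL_prod : (nElevenL.all fun g => memV prodN g) = true := by decide +kernel

/-- the test on all vectors for one power of the first generator -/
def candB (j : ℕ) : Bool := (List.range 4096).all fun u =>
    !Nat.beq (nfC u) (nfC kX) || !Nat.beq (hC u (mvC (powC XC j) u)) (hC kX (mvC XC kX)) ||
      !(probeL.all fun p => inM smallM (mvC (candN j u) p)) || !unitB (candN j u) ||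
      memV nElevenL (candN j u)

theorem candB_0 : candB 0 = true := by decide +kernel
theorem candB_1 : candB 1 = true := by decide +kernel
theorem candB_2 : candB 2 = true := by decide +kernel
theorem candB_3 : candB 3 = true := by decide +kernel
theorem candB_4 : candB 4 = true := by decide +kernel
theorem candB_5 : candB 5 = true := by decide +kernel
theorem candB_6 : candB 6 = true := by decide +kernel
theorem candB_7 : candB 7 = true := by decide +kernel
theorem candB_8 : candB 8 = true := by decide +kernel
theorem candB_9 : candB 9 = true := by decide +kernel
theorem candB_10 : candB 10 = true := by decide +kernel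

theorem candN_ok : ((List.range 11).all fun j => (List.range 4096).all fun u =>
    !Nat.beq (nfC u) (nfC kX) || !Nat.beq (hC u (mvC (powC XC j) u)) (hC kX (mvC XC kX)) ||
      !(probeL.all fun p => inM smallM (mvC (candN j u) p)) || !unitB (candN j u) ||
      memV nElevenL (candN j u)) = true := by
  refine List.all_eq_true.2 fun j hj => ?_
  rw [List.mem_range] at hj
  show candB j = true
  interval_cases j
  exacts [candB_0, candB_1, candB_2, candB_3, candB_4, candB_5, candB_6, candB_7, candB_8,
    candB_9, candB_10]

theorem tau_gens : (Nat.beq (sMul tauP tauP) (2 * oneC) && unitB tauC && unitB (galM tauC) &&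
    ((List.range 3).map fun i => sMul (sMul tauP (2 * gens0.getD i oneC)) tauP) ==
      (tauT.map fun t => 2 * t) ) = true := by decide +kernel

theorem baseProg_ok : progB baseProg gens0 (omC :: tauT) = true := by decide +kernel

end CfsgLib.Spor.LargeFi.J4
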