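import Cfsg.Agent.Lib.Spor.LargeFi.RealCheck
import Cfsg.Agent.Lib.Spor.LargeJ4.NormChk
import Cfsg.Agent.Lib.Spor.LargeJ4.RealData

/-!
Checks on the codes of the standard Sylow 2-subgroup of the semilinear cover of `M22`.
-/

set_option autoImplicit false
set_option maxRecDepth 100000
set_option maxHeartbeats 1000000
set_option Elab.async false

namespace CfsgLib.Spor.LargeFi.J4

open CfsgLib.Spor.U62

theorem sylL_incr : incrB sylL = true := by decide +kernel

theorem sylL_codes : (Nat.beq sylL.length 256 && memV sylL (2 * oneC) && memV sylL tauP &&
    sylL.all fun p => canB p && colB p) = true := by decide +kernel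

theorem sylL_right : (realG.all fun g => sylL.all fun p => memV sylL (sMul p g)) = true := by
  decide +kernel

theorem realTree_ok : treeR (fun u q j => Nat.beq u (sMul q (realG.getD j (2 * oneC))))
    (2 * oneC) realTree [] = true := by decide +kernel

theorem realTree_cover : (sylL.all fun p => memV (2 * oneC :: realTree.map Prod.fst) p) = true := by
  decide +kernel

theorem realProg_ok : progB realProg gens0 realT = true := by decide +kernel

theorem realT_cases : (memV realT omC && nrmG.all (memV realT)) = true := by decide +kernel

theorem linTree_ok : treeR (fun u q j => !(flag u) && Nat.beq u (sMul q (linG.getD j (2 * oneC))))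
    (2 * oneC) linTree [] = true := by decide +kernel

theorem linTree_cover : ((linG.all fun g => !flag g && memV realT (base g)) &&
    sylL.all fun p => flag p || memV (2 * oneC :: linTree.map Prod.fst) p) = true := by decide +kernel

theorem tau_left : (sylL.all fun p => !flag p || !flag (sMul tauP p)) = true := by decide +kernel

end CfsgLib.Spor.LargeFi.J4
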