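import Cfsg.Agent.Lib.Spor.LargeFi.SylElem
import Cfsg.Agent.Lib.Spor.LargeJ4.RealData
import Cfsg.Agent.Lib.Spor.LargeJ4.SylElemData
import Cfsg.Agent.Lib.Spor.LargeJ4.PinData

/-!
The census of elementary subgroups of the standard Sylow 2-subgroup of the semilinear cover of `M22`:
exactly one of order sixteen has a common space of 64 singular fixed vectors.
-/

set_option autoImplicit false
set_option maxRecDepth 100000
set_option maxHeartbeats 1000000
set_option Elab.async false

namespace CfsgLib.Spor.LargeFi.J4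

open CfsgLib.Spor.U62
open Matrix

/-! ### The census -/

/-- an entry of the product table -/
def pT (i j : ℕ) : ℕ := (prodT.getD i []).getD j 99

/-- a code of an involution -/
def invP (i : ℕ) : ℕ := invL.getD i 0

theorem invL_check : (sylL.all fun p => Nat.beq p (2 * oneC) || !Nat.beq (sMul p p) (2 * oneC) ||
    memV invL p) = true := by decide +kernel

theorem invL_nodup : invL.Nodup ∧ invL.length = 71 ∧ (2 * oneC) ∉ invL := by decide +kernel

theorem prod_check : ((List.range 71).all fun i => (List.range 71).all fun j =>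
    if Nat.beq (pT i j) 99 then !Nat.beq (sMul (invP i) (invP j)) (sMul (invP j) (invP i))
    else if Nat.beq (pT i j) 0 then Nat.beq i j
    else Nat.beq (sMul (invP i) (invP j)) (invP (pT i j - 1)) && Nat.blt (pT i j - 1) 71) = true := by
  decide +kernel

theorem fixK_check : (fixK.all fun e => Nat.blt e.1 71 && (List.range 4096).all fun u =>
    !Nat.beq (sActC (invP e.1) u) u || memV e.2 u) = true := by decide +kernel

/-- the fixed vectors known to contain the common ones -/
def capFix (C : List ℕ) : List ℕ :=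
  match fixK.filter (fun e => memV C e.1) with
  | [] => List.range 4096
  | e :: r => e.2.filter fun u => r.all fun e' => memV e'.2 u

/-- the test at a node -/
def okC (C : List ℕ) : Bool :=
  Nat.blt (C.length + 1) 16 || (Nat.beq C.length 15 && C.all fun i => memV elemI i) ||
    Nat.blt ((C.length + 1) * (capFix C).length) 1024

/-- the enumeration of subgroups -/
def chk : ℕ → List ℕ → ℕ → Bool
  | 0, _, _ => false
  | n + 1, C, lo => okC C && (List.range 71).all fun s =>
      Nat.blt s lo || memV C s ||
      C.any (fun c => Nat.beq (pT c s) 99 ||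
        (Nat.blt (pT c s - 1) s && !Nat.beq (pT c s) 0 && !memV C (pT c s - 1))) ||
      chk n (C ++ s :: C.map fun c => pT c s - 1).dedup (s + 1)

theorem census_ok : chk 7 [] 0 = true := by decide +kernel

theorem elem_fix_check : ((List.range 4096).all fun u => !Nat.beq (nfC u) 0 ||
    (elemL.any fun p => !Nat.beq (sActC p u) u) || memV fixL u) = true := by decide +kernel

theorem elemI_codes : elemL.toFinset = insert (2 * oneC) (elemI.map invP).toFinset := by
  decide +kernel

theorem fixL_length : fixL.length = 64 ∧ fixL.Nodup ∧ elemL.length = 16 ∧ elemL.Nodup ∧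
    elemI.length = 15 ∧ elemI.Nodup := by decide +kernel

/-- the only elementary subgroup with a large common singular fixed space -/
theorem elementary_dichotomy (S : Finset ℕ) (hsub : ∀ p ∈ S, p ∈ sylL) (hone : 2 * oneC ∈ S)
    (hmul : ∀ p ∈ S, ∀ q ∈ S, sMul p q ∈ S) (hcomm : ∀ p ∈ S, ∀ q ∈ S, sMul p q = sMul q p)
    (hsq : ∀ p ∈ S, sMul p p = 2 * oneC) (F : Finset V6) (hfix : ∀ p ∈ S, ∀ v ∈ F, sAct p v = v)
    (hiso : ∀ v ∈ F, nf v = 0) (hadd : ∀ u ∈ F, ∀ v ∈ F, u + v ∈ F)
    (hc : 2 ^ 11 ≤ S.card * (2 * F.card)) :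
    S = elemL.toFinset ∧ S.card = 16 ∧ ∀ v, v ∈ F ↔ vc v ∈ fixL := by
  classical
  have hF64 := card_singular_le hiso hadd
  have hFlist : ∀ l : List ℕ, (∀ v ∈ F, vc v ∈ l) → F.card ≤ l.length := fun l hl =>
    le_trans (Finset.card_le_card_of_injOn vc (fun v hv => List.mem_toFinset.2 (hl v hv))
      vc_injective.injOn) (List.toFinset_card_le l)
  set T : Finset ℕ := (Finset.range 71).filter fun i => invP i ∈ S with hT
  obtain ⟨hnd, hlen, hone'⟩ := invL_nodup
  have hget : ∀ (i : ℕ) (hi : i < 71), invP i = invL[i]'(by omega) := fun i hi =>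
    List.getD_eq_getElem _ _ _
  have hinj : ∀ i, i < 71 → ∀ j, j < 71 → invP i = invP j → i = j := fun i hi j hj h =>
    hnd.getElem_inj_iff.1 ((hget i hi).symm.trans (h.trans (hget j hj)))
  have hne : ∀ i, i < 71 → invP i ≠ 2 * oneC := fun i hi e =>
    hone' (e ▸ (hget i hi).symm ▸ List.getElem_mem _)
  have hST : S = insert (2 * oneC) (T.image invP) := by
    ext p
    rw [Finset.mem_insert, Finset.mem_image]
    constructor
    · intro hp
      have h := List.all_eq_true.1 invL_check p (hsub p hp)
      simp only [Bool.or_eq_true, Nat.beq_eq, Bool.not_eq_true', memV_iff] at h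
      rcases h with (h | h) | h
      · exact Or.inl h
      · rw [← Bool.not_eq_true, Nat.beq_eq] at h; exact absurd (hsq p hp) h
      · obtain ⟨i, hi, rfl⟩ := List.getElem_of_mem h
        exact Or.inr ⟨i, Finset.mem_filter.2 ⟨Finset.mem_range.2 (hlen ▸ hi),
          by rwa [hget i (hlen ▸ hi)]⟩, hget i (hlen ▸ hi)⟩
    · rintro (rfl | ⟨i, hi, rfl⟩)
      exacts [hone, (Finset.mem_filter.1 hi).2]
  have hTlt : ∀ i ∈ T, i < 71 := fun i hi => Finset.mem_range.1 (Finset.mem_filter.1 hi).1
  have hScard : S.card = T.card + 1 := by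
    rw [hST, Finset.card_insert_of_notMem, Finset.card_image_of_injOn]
    · exact fun i hi j hj h => hinj i (hTlt i hi) j (hTlt j hj) h
    · rw [Finset.mem_image]; rintro ⟨i, hi, e⟩; exact hne i (hTlt i hi) e
  have hprod : ∀ c ∈ T, ∀ s ∈ T, c ≠ s → pT c s ≠ 99 ∧ pT c s ≠ 0 ∧ pT c s - 1 ∈ T := by
    intro c hc' s hs hne'
    have h := List.all_eq_true.1 (List.all_eq_true.1 prod_check c (List.mem_range.2 (hTlt c hc'))) s
      (List.mem_range.2 (hTlt s hs))
    have hcS := (Finset.mem_filter.1 hc').2
    have hsS := (Finset.mem_filter.1 hs).2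
    split_ifs at h with h99 h0
    · simp only [Bool.not_eq_true'] at h
      rw [← Bool.not_eq_true, Nat.beq_eq] at h
      exact absurd (hcomm _ hcS _ hsS) h
    · exact absurd (Nat.eq_of_beq_eq_true h) hne'
    · simp only [Nat.beq_eq] at h99 h0
      simp only [Bool.and_eq_true, Nat.beq_eq, Nat.blt_eq] at h
      exact ⟨h99, h0, Finset.mem_filter.2 ⟨Finset.mem_range.2 h.2, h.1 ▸ hmul _ hcS _ hsS⟩⟩
  have hleaf : ∀ C : List ℕ, C.Nodup → C.toFinset = T → okC C = true →
      C.length = 15 ∧ ∀ i ∈ C, i ∈ elemI := by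
    intro C hCn hCT hok
    have hl : C.length + 1 = S.card := by
      rw [hScard, ← hCT, List.toFinset_card_of_nodup hCn]
    have h1024 : 1024 ≤ S.card * F.card := by
      have : S.card * (2 * F.card) = 2 * (S.card * F.card) := by ring
      omega
    simp only [okC, Bool.or_eq_true, Bool.and_eq_true, Nat.blt_eq, Nat.beq_eq, List.all_eq_true,
      memV_iff] at hok
    rcases hok with (hok | hok) | hok
    · have := Nat.mul_le_mul (Nat.le_of_lt_succ (hl ▸ hok)) hF64
      omega
    · exact hok
    · have hcap : F.card ≤ (capFix C).length := by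
        refine hFlist _ fun v hv => ?_
        have hmem : ∀ e ∈ fixK.filter (fun e => memV C e.1), vc v ∈ e.2 := by
          intro e he
          obtain ⟨he1, he2⟩ := List.mem_filter.1 he
          have h := List.all_eq_true.1 fixK_check e he1
          simp only [Bool.and_eq_true, List.all_eq_true, Bool.or_eq_true, Bool.not_eq_true',
            memV_iff] at h
          refine (h.2 (vc v) (List.mem_range.2 (vc_lt v))).resolve_left fun hh => ?_
          rw [← Bool.not_eq_true, Nat.beq_eq] at hh
          refine hh ?_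
          have hi : e.1 ∈ T := hCT ▸ List.mem_toFinset.2 (memV_iff.1 he2)
          rw [← vc_sAct, hfix _ (Finset.mem_filter.1 hi).2 v hv]
        unfold capFix
        revert hmem
        cases fixK.filter (fun e => memV C e.1) with
        | nil => exact fun _ => List.mem_range.2 (vc_lt v)
        | cons e r =>
          intro hmem
          refine List.mem_filter.2 ⟨hmem e List.mem_cons_self, List.all_eq_true.2 fun e' he' => ?_⟩
          exact memV_iff.2 (hmem e' (List.mem_cons_of_mem _ he'))
      have := Nat.mul_le_mul (le_of_eq hl.symm) hcap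
      omega
  have hmain : ∀ n C lo, chk n C lo = true → C.Nodup → (∀ i ∈ C, i ∈ T) →
      (∀ i ∈ T, i < lo → i ∈ C) →
      ∃ C' : List ℕ, C'.Nodup ∧ C'.toFinset = T ∧ okC C' = true := by
    intro n
    induction n with
    | zero => intro C lo h; simp [chk] at h
    | succ n ih =>
      intro C lo h hCn hCT hlo
      rw [chk, Bool.and_eq_true] at h
      by_cases hall : ∀ i ∈ T, i ∈ C
      · exact ⟨C, hCn, Finset.ext fun i => ⟨fun hi => hCT i (List.mem_toFinset.1 hi),
          fun hi => List.mem_toFinset.2 (hall i hi)⟩, h.1⟩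
      have hne' : (T.filter fun i => i ∉ C).Nonempty := by
        push Not at hall
        obtain ⟨i, hi, hi'⟩ := hall
        exact ⟨i, Finset.mem_filter.2 ⟨hi, hi'⟩⟩
      set s := (T.filter fun i => i ∉ C).min' hne' with hs
      obtain ⟨hsT, hsC⟩ := Finset.mem_filter.1 (Finset.min'_mem _ hne')
      have hmin : ∀ i ∈ T, i < s → i ∈ C := fun i hi his => by
        by_contra hiC
        exact absurd (Finset.min'_le _ i (Finset.mem_filter.2 ⟨hi, hiC⟩)) (not_le.2 his)
      have h2 := List.all_eq_true.1 h.2 s (List.mem_range.2 (hTlt s hsT))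
      simp only [Bool.or_eq_true, Nat.blt_eq, memV_iff, List.any_eq_true, Bool.and_eq_true,
        Bool.not_eq_true', Nat.beq_eq] at h2
      rcases h2 with ((h2 | h2) | ⟨c, hcC, h2⟩) | h2
      · exact absurd (hlo s hsT h2) hsC
      · exact absurd h2 hsC
      · obtain ⟨p1, p2, p3⟩ := hprod c (hCT c hcC) s hsT fun e => absurd (e ▸ hcC : s ∈ C) hsC
        rcases h2 with h2 | ⟨⟨h3, -⟩, h4⟩
        · exact absurd h2 p1
        · rw [← Bool.not_eq_true, memV_iff] at h4
          exact absurd (hmin _ p3 h3) h4
      · refine ih _ _ h2 (List.nodup_dedup _) (fun i hi => ?_) fun i hi his => ?_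
        · rw [List.mem_dedup, List.mem_append, List.mem_cons, List.mem_map] at hi
          rcases hi with hi | rfl | ⟨c, hc', rfl⟩
          exacts [hCT i hi, hsT, (hprod c (hCT c hc') s hsT fun e => absurd (e ▸ hc' : s ∈ C) hsC).2.2]
        · rw [List.mem_dedup, List.mem_append, List.mem_cons]
          rcases Nat.lt_succ_iff_lt_or_eq.1 his with hlt | rfl
          · exact Or.inl (hmin i hi hlt)
          · exact Or.inr (Or.inl rfl)
  obtain ⟨C, hCn, hCT, hok⟩ := hmain 7 [] 0 census_ok List.nodup_nil (by simp) (by simp)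
  obtain ⟨h15, helem⟩ := hleaf C hCn hCT hok
  obtain ⟨hfl, hfn, hel, hen, hil, hin⟩ := fixL_length
  have hTe : T = elemI.toFinset := by
    rw [← hCT]
    refine Finset.eq_of_subset_of_card_le (fun i hi => List.mem_toFinset.2 (helem i (List.mem_toFinset.1 hi))) ?_
    rw [List.toFinset_card_of_nodup hin, List.toFinset_card_of_nodup hCn, h15, hil]
  have hSe : S = elemL.toFinset := by
    rw [elemI_codes, hST, hTe]
    congr 1
  have hS16 : S.card = 16 := by rw [hSe, List.toFinset_card_of_nodup hen, hel]
  have hsubF : ∀ v ∈ F, vc v ∈ fixL := fun v hv => by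
    have h := List.all_eq_true.1 elem_fix_check (vc v) (List.mem_range.2 (vc_lt v))
    simp only [Bool.or_eq_true, Bool.not_eq_true', List.any_eq_true, memV_iff] at h
    rcases h with (h | ⟨p, hp, h⟩) | h
    · rw [← Bool.not_eq_true, Nat.beq_eq] at h; exact absurd ((nf_eq_zero_iff v).1 (hiso v hv)) h
    · rw [← Bool.not_eq_true, Nat.beq_eq, ← vc_sAct,
        hfix p (hSe ▸ List.mem_toFinset.2 hp) v hv] at h
      exact absurd rfl h
    · exact h
  have himg : F.image vc = fixL.toFinset := by
    refine Finset.eq_of_subset_of_card_le (fun u hu => ?_) ?_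
    · obtain ⟨v, hv, rfl⟩ := Finset.mem_image.1 hu
      exact List.mem_toFinset.2 (hsubF v hv)
    · rw [List.toFinset_card_of_nodup hfn, hfl, Finset.card_image_of_injective _ vc_injective]
      rw [hS16] at hc
      omega
  refine ⟨hSe, hS16, fun v => ⟨hsubF v, fun h => ?_⟩⟩
  obtain ⟨w, hw, e⟩ := Finset.mem_image.1 (himg ▸ List.mem_toFinset.2 h)
  exact vc_injective e ▸ hw

/-! ### The distinguished subgroup -/

theorem elemL_group : (memV elemL (2 * oneC) && elemL.all fun p => !flag p && memV sylL p &&
    Nat.beq (sMul p p) (2 * oneC) && elemL.all fun q =>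
      memV elemL (sMul p q) && Nat.beq (sMul p q) (sMul q p)) = true := by decide +kernel

theorem fixL_space : (memV fixL 0 && fixL.all fun u => Nat.blt u 4096 && Nat.beq (nfC u) 0 &&
    memV fixL (smC 2 u) && (fixL.all fun w => memV fixL (Nat.xor u w)) &&
    elemL.all fun p => Nat.beq (sActC p u) u) = true := by decide +kernel

theorem fixL_perp_check : ((List.range 4096).all fun u => memV fixL u || fixL.any fun w =>
    !Nat.beq (nfC (Nat.xor u w)) (Nat.xor (nfC u) (nfC w))) = true := by decide +kernel

/-- the fixed space is its own orthogonal -/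
theorem fixL_perp (v : V6) (h : ∀ w, vc w ∈ fixL → nf (v + w) = nf v + nf w) : vc v ∈ fixL := by
  have hc := List.all_eq_true.1 fixL_perp_check (vc v) (List.mem_range.2 (vc_lt v))
  simp only [Bool.or_eq_true, List.any_eq_true, memV_iff, Bool.not_eq_true'] at hc
  refine hc.resolve_right fun ⟨u, hu, hh⟩ => ?_
  have hs := fixL_space
  simp only [Bool.and_eq_true, List.all_eq_true, Nat.blt_eq] at hs
  have hu4 : u < 4096 := (hs.2 u hu).1.1.1.1
  rw [← Bool.not_eq_true, Nat.beq_eq] at hh
  have hl : ∀ a, nfC a < 4 := fun a => dot6_lt _ _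
  refine hh (kOf_inj _ (hl _) _ (xor_lt (hl _) (hl _)) ?_)
  have e : Nat.xor (vc v) u = vc (v + vOf u) := by rw [vc_add, vc_vOf hu4]
  have key2 : kOf (nfC (vc (v + vOf u))) = kOf (Nat.xor (nfC (vc v)) (nfC u)) := by
    rw [kOf_add _ (hl _) _ (hl _), kOf_nfC', kOf_nfC', kOf_nfC]
    exact h (vOf u) (by rw [vc_vOf hu4]; exact hu)
  rw [← e] at key2
  exact key2

end CfsgLib.Spor.LargeFi.J4
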