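import Cfsg.Agent.Lib.Spor.LargeFi.ElemCheck
import Cfsg.Agent.Lib.Spor.LargeJ4.RealCheck
import Cfsg.Agent.Lib.Spor.LargeJ4.SylElem

/-!
Checks on the normaliser of the distinguished elementary subgroup and on the scalar.
-/

set_option autoImplicit false
set_option maxRecDepth 100000
set_option maxHeartbeats 1000000

namespace CfsgLib.Spor.LargeFi.J4

open CfsgLib.Spor.U62

theorem elemTree_ok : treeR (fun u q j => memV elemL (2 * u) && memV elemL (2 * q) &&
    Nat.beq (mulC (nrmG.getD j oneC) q) (mulC u (nrmG.getD j oneC)))
    elemRoot elemTree [] = true := by decide +kernel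

theorem elemTree_cover : (memV elemL (2 * elemRoot) && elemL.all fun p =>
    Nat.beq p (2 * oneC) || memV (elemRoot :: elemTree.map Prod.fst) (base p)) = true := by
  decide +kernel

/-- three independent elements -/
def elemTriple : List ℕ :=
  [2 * elemRoot, 2 * (elemTree.map Prod.fst).getD 0 0, 2 * (elemTree.map Prod.fst).getD 1 0,
    2 * (elemTree.map Prod.fst).getD 2 0, 2 * (elemTree.map Prod.fst).getD 3 0]

/-- every product of a non-empty subset is not the identity -/
def indepB (p q r : ℕ) : Bool :=
  [p, q, r, sMul p q, sMul p r, sMul q r, sMul p (sMul q r)].all fun u => !Nat.beq u (2 * oneC)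

theorem elemTriple_ok : (elemTriple.any fun p => elemTriple.any fun q => elemTriple.any fun r =>
    memV elemL p && memV elemL q && memV elemL r && indepB p q r) = true := by decide +kernel

end CfsgLib.Spor.LargeFi.J4
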