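import Cfsg.Agent.Lib.Spor.LargeJ4.Real
import Cfsg.Agent.Lib.Spor.LargeJ4.ElemCheck
import Cfsg.Prelude.Def_Transfer

/-!
The elementary abelian subgroup of order `2^11` of the standard Sylow 2-subgroup, and its uniqueness.

It is the centraliser of the totally singular subgroup `U` over the fixed space inside the elements
acting as the distinguished subgroup of order sixteen.  It has exponent two: the elements centralising
an element of order three that acts as the scalar lift each of the sixteen, centralise `U`, and their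
squares are constant on the fifteen non-trivial ones, hence trivial.
-/

set_option autoImplicit false
set_option maxRecDepth 100000
set_option maxHeartbeats 1000000

namespace CfsgLib.Spor.LargeFi.J4

open CfsgLib.Spor.U62 CfsgLib.ThreeTransp
open Matrix

theorem elem_facts {p : ℕ} (hp : p ∈ elemL) : p ∈ sylL ∧ flag p = false ∧
    sMul p p = 2 * oneC ∧ ∀ q ∈ elemL, sMul p q ∈ elemL ∧ sMul p q = sMul q p := by
  have h := elemL_group
  simp only [Bool.and_eq_true, List.all_eq_true, memV_iff, Bool.not_eq_true', Nat.beq_eq] at h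
  obtain ⟨⟨⟨h1, h2⟩, h3⟩, h4⟩ := h.2 p hp
  exact ⟨h2, h1, h3, h4⟩

theorem one_mem_elemL : 2 * oneC ∈ elemL := by
  have h := elemL_group
  simp only [Bool.and_eq_true, memV_iff] at h
  exact h.1

theorem elemL_card : elemL.toFinset.card = 16 := by
  rw [List.toFinset_card_of_nodup fixL_length.2.2.2.1, fixL_length.2.2.1]

theorem fixL_facts : 0 ∈ fixL ∧ ∀ u ∈ fixL, u < 4096 ∧ nfC u = 0 ∧ smC 2 u ∈ fixL ∧
    (∀ w ∈ fixL, Nat.xor u w ∈ fixL) ∧ ∀ p ∈ elemL, sActC p u = u := by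
  have h := fixL_space
  simp only [Bool.and_eq_true, List.all_eq_true, memV_iff, Nat.blt_eq, Nat.beq_eq] at h
  exact ⟨h.1, fun u hu => ⟨(h.2 u hu).1.1.1.1, (h.2 u hu).1.1.1.2, (h.2 u hu).1.1.2,
    (h.2 u hu).1.2, (h.2 u hu).2⟩⟩

theorem vc_om_smul (v : V6) : vc (om • v) = smC 2 (vc v) := by
  apply Eq.symm
  have hlt : smC 2 (vc v) < 4096 := buildV_lt fun _ => mulN_lt _ _
  rw [← vc_vOf hlt]
  congr 1
  funext i
  show kOf (entV (smC 2 (vc v)) i) = om * v i
  rw [smC, entV_buildV (fun _ => mulN_lt _ _) i.2, kOf_mul _ (by norm_num) _ (entV_lt _ _), kOf_two,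
    show kOf (entV (vc v) i) = v i from congrFun (vOf_vc v) i]

theorem vc_zero' : vc (0 : V6) = 0 := vc_zero

theorem elem_fix {p : ℕ} (hp : p ∈ elemL) {v : V6} (hv : vc v ∈ fixL) : sAct p v = v :=
  vc_injective (by rw [vc_sAct]; exact (fixL_facts.2 _ hv).2.2.2.2 p hp)

namespace Model

variable {H : Type*} [Group H] [Finite H] {Q : Subgroup H} [Q.Normal] {z : H} (D : Model Q z)

omit [Finite H] in
theorem act_injective (a : H) : Function.Injective (D.act a) :=
  Function.LeftInverse.injective (D.act_inv_apply a)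

omit [Finite H] in
theorem vec_eq {a b : Q} (h : D.vec a = D.vec b) : (b : H) = a ∨ (b : H) = z * a := by
  have h1 : D.vec (b * a⁻¹) = 0 := by
    have e1 : D.vec (b * a⁻¹) + D.vec a = D.vec b := by rw [← D.vec_mul, inv_mul_cancel_right]
    exact add_right_cancel (e1.trans (h.symm.trans (zero_add _).symm))
  rcases (D.vec_eq_zero _).1 h1 with e | e <;> rw [Subgroup.coe_mul, Subgroup.coe_inv,
    mul_inv_eq_iff_eq_mul] at e
  · left; rw [e, one_mul]
  · right; exact e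

omit [Finite H] in
theorem vec_conj' (h : H) (a : Q) (hm : h * (a : H) * h⁻¹ ∈ Q) :
    D.vec ⟨h * (a : H) * h⁻¹, hm⟩ = D.act h (D.vec a) := by
  rw [← D.vec_conj]; rfl

omit [Finite H] in
theorem vec_one : D.vec 1 = 0 := (D.vec_eq_zero 1).2 (Or.inl rfl)

omit [Finite H] in
theorem vec_inv (a : Q) : D.vec a⁻¹ = D.vec a := by
  have h := D.vec_mul a a⁻¹
  rw [mul_inv_cancel, D.vec_one] at h
  exact add_left_cancel (h.symm.trans (v6_two (D.vec a)).symm)

/-- the subgroup of `Q` over the fixed space -/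
def fixU : Subgroup H where
  carrier := {h | ∃ hq : h ∈ Q, vc (D.vec ⟨h, hq⟩) ∈ fixL}
  one_mem' := ⟨one_mem _, by
    rw [show (⟨1, one_mem Q⟩ : Q) = 1 from rfl, D.vec_one, vc_zero']; exact fixL_facts.1⟩
  mul_mem' := fun {a b} ⟨ha, ha'⟩ ⟨hb, hb'⟩ => ⟨mul_mem ha hb, by
    rw [show (⟨a * b, mul_mem ha hb⟩ : Q) = ⟨a, ha⟩ * ⟨b, hb⟩ from rfl, D.vec_mul, vc_add]
    exact (fixL_facts.2 _ ha').2.2.2.1 _ hb'⟩
  inv_mem' := fun {a} ⟨ha, ha'⟩ => ⟨inv_mem ha, by
    rw [show (⟨a⁻¹, inv_mem ha⟩ : Q) = ⟨a, ha⟩⁻¹ from rfl, D.vec_inv]; exact ha'⟩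

omit [Finite H] in
theorem fixU_le : D.fixU ≤ Q := fun _ h => h.1

omit [Finite H] in
theorem fixU_sq {a : H} (ha : a ∈ D.fixU) : a * a = 1 := by
  obtain ⟨hq, hv⟩ := ha
  exact (D.vec_sq ⟨a, hq⟩).2 ((nf_eq_zero_iff _).2 (fixL_facts.2 _ hv).2.1)

omit [Finite H] in
theorem fixU_comm {a b : H} (ha : a ∈ D.fixU) (hb : b ∈ D.fixU) : a * b = b * a := by
  have h1 := D.fixU_sq (mul_mem ha hb)
  have hi := inv_eq_of_mul_eq_one_right h1
  rw [_root_.mul_inv_rev, inv_eq_of_mul_eq_one_right (D.fixU_sq ha),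
    inv_eq_of_mul_eq_one_right (D.fixU_sq hb)] at hi
  exact hi.symm

omit [Finite H] in
theorem card_fixU : Nat.card D.fixU = 128 := by
  classical
  have hzQ := D.xc.mem
  have hvz : D.vec ⟨z, hzQ⟩ = 0 := (D.vec_eq_zero _).2 (Or.inr rfl)
  choose f hf using fun u : fixL.toFinset => D.vec_surj (vOf u)
  have hfu : ∀ u : fixL.toFinset, vc (D.vec (f u)) = u := fun u => by
    rw [hf, vc_vOf (fixL_facts.2 _ (List.mem_toFinset.1 u.2)).1]
  let F : Bool × fixL.toFinset → D.fixU := fun s =>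
    ⟨(if s.1 then z else 1) * (f s.2 : H), by
      refine ⟨mul_mem (by split_ifs <;> [exact hzQ; exact one_mem _]) (f s.2).2, ?_⟩
      have key : ∀ (c : H) (hc : c ∈ Q), D.vec ⟨c, hc⟩ = 0 →
          D.vec ⟨c * (f s.2 : H), mul_mem hc (f s.2).2⟩ = D.vec (f s.2) := fun c hc e => by
        rw [show (⟨c * (f s.2 : H), mul_mem hc (f s.2).2⟩ : Q) = ⟨c, hc⟩ * f s.2 from rfl, D.vec_mul,
          e, zero_add]
      cases s.1
      · simp only [Bool.false_eq_true, if_false]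
        rw [key 1 (one_mem _) D.vec_one, hfu]; exact List.mem_toFinset.1 s.2.2
      · simp only [if_true]
        rw [key z hzQ hvz, hfu]; exact List.mem_toFinset.1 s.2.2⟩
  have hbij : Function.Bijective F := by
    constructor
    · rintro ⟨a, u⟩ ⟨b, w⟩ e
      have e1 : (if a then z else 1) * (f u : H) = (if b then z else 1) * (f w : H) :=
        congrArg Subtype.val e
      have e2 : u = w := by
        refine Subtype.ext ?_
        rw [← hfu u, ← hfu w]
        have hv : ∀ (c : Bool) (q : Q) (hm : (if c then z else 1) * (q : H) ∈ Q),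
            D.vec ⟨_, hm⟩ = D.vec q := by
          intro c q hm
          cases c
          · congr 1; exact Subtype.ext (by simp)
          · rw [show (⟨_, hm⟩ : Q) = ⟨z, hzQ⟩ * q from Subtype.ext (by simp), D.vec_mul, hvz, zero_add]
        have hmem : ∀ (c : Bool) (q : Q), (if c then z else 1) * (q : H) ∈ Q := fun c q =>
          mul_mem (by split_ifs <;> [exact hzQ; exact one_mem _]) q.2
        rw [← hv a (f u) (hmem _ _), ← hv b (f w) (hmem _ _)]
        simp only [e1]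
      subst e2
      have e3 := mul_right_cancel e1
      cases a <;> cases b <;> simp_all [D.xc.ne_one, D.xc.ne_one.symm]
    · rintro ⟨h, hq, hv⟩
      obtain ⟨u, hu⟩ : ∃ u : fixL.toFinset, D.vec (f u) = D.vec ⟨h, hq⟩ :=
        ⟨⟨_, List.mem_toFinset.2 hv⟩, by rw [hf, vOf_vc]⟩
      rcases D.vec_eq hu with e | e
      · exact ⟨(false, u), Subtype.ext (by simp only [F, Bool.false_eq_true, if_false, one_mul]; exact e.symm)⟩
      · exact ⟨(true, u), Subtype.ext (by simp only [F, if_true]; exact e.symm)⟩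
  rw [← Nat.card_eq_of_bijective F hbij, Nat.card_prod, Nat.card_eq_finsetCard,
    List.toFinset_card_of_nodup fixL_length.2.1, fixL_length.1]
  simp

/-- the elements acting as the distinguished subgroup of order sixteen -/
def elemP : Subgroup H where
  carrier := {h | ∃ p ∈ elemL, ∀ v, D.act h v = sAct p v}
  one_mem' := ⟨_, one_mem_elemL, fun v => by rw [map_one, sAct_one]; rfl⟩
  mul_mem' := fun {a b} ⟨p, hp, ea⟩ ⟨q, hq, eb⟩ =>
    ⟨_, ((elem_facts hp).2.2.2 q hq).1, fun v => by rw [sAct_sMul, D.act_mul_apply, eb, ea]⟩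
  inv_mem' := fun {a} ⟨p, hp, ea⟩ => ⟨p, hp, fun v => by
    conv_rhs => rw [← D.act_inv_apply a (sAct p v), ea, ← sAct_sMul, (elem_facts hp).2.2.1, sAct_one]⟩

/-- the elementary abelian subgroup -/
def bigA : Subgroup H := D.elemP ⊓ Subgroup.centralizer (D.fixU : Set H)

theorem bigA_le_std : D.bigA ≤ D.std := fun _ h => by
  obtain ⟨p, hp, e⟩ := h.1
  exact ⟨p, (elem_facts hp).1, e⟩

omit [Finite H] in
theorem cent_fixU {h : H} (hq : h ∈ Q) (hc : ∀ u ∈ D.fixU, u * h = h * u) : h ∈ D.fixU := by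
  refine ⟨hq, fixL_perp _ fun w hw => ?_⟩
  obtain ⟨b, hb⟩ := D.vec_surj w
  have hcm := hc b ⟨b.2, by rw [show (⟨(b : H), b.2⟩ : Q) = b from rfl, hb]; exact hw⟩
  have him := (D.vec_comm ⟨h, hq⟩ b).1 hcm.symm
  rw [hb] at him
  have e := hermForm_polar (D.vec ⟨h, hq⟩) w
  rw [him] at e
  have e0 : toK 0 = 0 := rfl
  rw [e0] at e
  have e2 := congrArg (fun t => t + (nf (D.vec ⟨h, hq⟩) + nf w)) e
  simp only [zero_add] at e2
  rw [← e2]
  have := k_two (nf (D.vec ⟨h, hq⟩))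
  have := k_two (nf w)
  calc nf (D.vec ⟨h, hq⟩ + w) = nf (D.vec ⟨h, hq⟩ + w) + (nf (D.vec ⟨h, hq⟩) + nf (D.vec ⟨h, hq⟩)) +
        (nf w + nf w) := by rw [k_two, k_two, add_zero, add_zero]
    _ = _ := by abel

omit [Finite H] in
theorem Q_le_elemP {h : H} (hq : h ∈ Q) : h ∈ D.elemP :=
  ⟨_, one_mem_elemL, fun v => by rw [(D.ker_act h).2 hq, sAct_one]; rfl⟩

omit [Finite H] in
theorem bigA_inf : D.bigA ⊓ Q = D.fixU := by
  ext h
  refine ⟨fun hh => D.cent_fixU hh.2 fun u hu => Subgroup.mem_centralizer_iff.1 hh.1.2 u hu,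
    fun hh => ⟨⟨D.Q_le_elemP hh.1, Subgroup.mem_centralizer_iff.2 fun u hu => D.fixU_comm hu hh⟩, hh.1⟩⟩

/-! ### Lifts centralising an element of order three -/

theorem exists_scalar : ∃ x : H, x ^ 3 = 1 ∧ ∀ v, D.act x v = om • v := by
  have h := realT_cases
  simp only [Bool.and_eq_true, memV_iff] at h
  obtain ⟨g, hg, eg⟩ := mem_realT_in h.1
  obtain ⟨a, -, ea⟩ := D.L0_lift g hg
  have hv : ∀ v, D.act a v = om • v := fun v => by
    rw [ea, mat_eq, eg, omC_mat, Matrix.smul_mulVec, Matrix.one_mulVec]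
  have hom : om * om * om = (1 : K4) := by decide +kernel
  have h3 : a * a * a ∈ Q := (D.ker_act _).1 (AddMonoidHom.ext fun v => by
    show D.act (a * a * a) v = v
    rw [D.act_mul_apply, D.act_mul_apply, hv, hv, hv, smul_smul, smul_smul, hom, one_smul])
  refine ⟨a * a * a * a, ?_, fun v => ?_⟩
  · have h12 : (a * a * a) ^ 4 = 1 := by
      rw [show (4 : ℕ) = 2 * 2 from rfl, pow_mul, pow_two, pow_two]
      rcases D.xc.sq _ h3 with e | e <;> rw [e]
      · exact mul_one 1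
      · exact D.xc.inv
    have e4 : a * a * a * a = a ^ 4 := by simp [pow_succ, mul_assoc]
    have e3 : a * a * a = a ^ 3 := by simp [pow_succ, mul_assoc]
    rw [e4, ← pow_mul, show 4 * 3 = 3 * 4 from rfl, pow_mul, ← e3, h12]
  · rw [D.act_mul_apply, (D.ker_act _).2 h3]
    exact hv v

omit [Finite H] in
theorem fixed_central {x : H} (hx : ∀ v, D.act x v = om • v) {q : H} (hq : q ∈ Q)
    (hc : x * q = q * x) : q = 1 ∨ q = z := by
  refine (D.vec_eq_zero ⟨q, hq⟩).1 ?_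
  have hm : x * q * x⁻¹ ∈ Q := (inferInstance : Q.Normal).conj_mem _ hq x
  have e := D.vec_conj' x ⟨q, hq⟩ hm
  rw [hx, show (⟨x * q * x⁻¹, hm⟩ : Q) = ⟨q, hq⟩ from Subtype.ext (by simp [hc])] at e
  have h1 : (om + 1) • D.vec ⟨q, hq⟩ = 0 := by rw [add_smul, one_smul, ← e, v6_two]
  exact (smul_eq_zero.1 h1).resolve_left om_sub_one_ne

omit [Finite H] in
/-- elements acting linearly lift to the centraliser of `x` -/
theorem lift_cent {x : H} (hx3 : x ^ 3 = 1) (hx : ∀ v, D.act x v = om • v) {g : U6} (hg : g ∈ L0) :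
    ∃ h, h * x = x * h ∧ ∀ v, D.act h v = mat g *ᵥ v := by
  obtain ⟨h, -, eh⟩ := D.L0_lift g hg
  have hinv : ∀ v, mat g *ᵥ D.act h⁻¹ v = v := fun v => by
    rw [← eh, ← D.act_mul_apply, mul_inv_cancel, map_one]; rfl
  have hy : h * x * h⁻¹ * x⁻¹ ∈ Q := by
    refine (D.ker_act _).1 (AddMonoidHom.ext fun v => ?_)
    show D.act (h * x * h⁻¹ * x⁻¹) v = v
    rw [D.act_mul_apply, D.act_mul_apply, D.act_mul_apply, eh, hx, Matrix.mulVec_smul, hinv, ← hx,
      ← D.act_mul_apply, mul_inv_cancel, map_one]; rfl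
  obtain ⟨q0, hq0⟩ : ∃ q0 : Q, (q0 : H) = h * x * h⁻¹ * x⁻¹ := ⟨⟨_, hy⟩, rfl⟩
  obtain ⟨q, hq⟩ := D.vec_surj (om • D.vec q0)
  have hm : x * ((q⁻¹ : Q) : H) * x⁻¹ ∈ Q := (inferInstance : Q.Normal).conj_mem _ (q⁻¹).2 x
  have hc : D.vec (q * ⟨_, hm⟩) = D.vec q0 := by
    rw [D.vec_mul, D.vec_conj', hx, D.vec_inv, hq, smul_smul, ← add_smul,
      show om + om * om = (1 : K4) by decide +kernel, one_smul]
  have hyx : h * x * h⁻¹ = (q0 : H) * x := by rw [hq0, inv_mul_cancel_right]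
  rcases D.vec_eq hc with e | e <;> simp only [Subgroup.coe_mul, Subgroup.coe_inv] at e
  · refine ⟨(q : H)⁻¹ * h, ?_, fun v => ?_⟩
    · have e' : h * x * h⁻¹ = (q : H) * x * (q : H)⁻¹ := by
        rw [hyx, e]; simp [mul_assoc]
      calc (q : H)⁻¹ * h * x = (q : H)⁻¹ * (h * x * h⁻¹) * h := by simp [mul_assoc]
        _ = x * ((q : H)⁻¹ * h) := by rw [e']; simp [mul_assoc]
    · rw [D.act_mul_apply, eh, (D.ker_act _).2 (inv_mem q.2)]; rfl
  · exfalso
    have hz3 : (h * x * h⁻¹) ^ 3 = 1 := by rw [conj_pow, hx3, mul_one, mul_inv_cancel]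
    have e' : h * x * h⁻¹ = z * ((q : H) * x * (q : H)⁻¹) := by
      rw [hyx, e]; simp [mul_assoc]
    rw [e', (show Commute z ((q : H) * x * (q : H)⁻¹) from (D.zc _).symm).mul_pow, conj_pow, hx3,
      mul_one, mul_inv_cancel, mul_one, pow_succ, pow_two, D.xc.inv, one_mul] at hz3
    exact D.xc.ne_one hz3

omit [Finite H] in
theorem lift_elem {x : H} (hx3 : x ^ 3 = 1) (hx : ∀ v, D.act x v = om • v) {p : ℕ} (hp : p ∈ elemL) :
    ∃ h, h * x = x * h ∧ ∀ v, D.act h v = sAct p v := by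
  obtain ⟨g, hg, e⟩ := sylL_linear (elem_facts hp).1 (elem_facts hp).2.1
  obtain ⟨h, hh, eh⟩ := D.lift_cent hx3 hx hg
  exact ⟨h, hh, fun v => by rw [eh, e]⟩

omit [Finite H] in
theorem lift_unique {x : H} (hx : ∀ v, D.act x v = om • v) {a b : H} (ha : a * x = x * a)
    (hb : b * x = x * b) (e : ∀ v, D.act a v = D.act b v) : b = a ∨ b = a * z := by
  have hc : x * (a⁻¹ * b) = a⁻¹ * b * x :=
    (((show Commute a x from ha).inv_left).mul_left (show Commute b x from hb)).symm.eq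
  rcases D.fixed_central hx (D.mem_of_act_eq e) hc with h | h
  · left; exact (inv_mul_eq_one.1 h).symm
  · right; exact inv_mul_eq_iff_eq_mul.1 h

omit [Finite H] in
theorem lift_cent_fixU {x : H} (hx : ∀ v, D.act x v = om • v) {d : H} (hd : d * x = x * d)
    {p : ℕ} (hp : p ∈ elemL) (e : ∀ v, D.act d v = sAct p v) {u : H} (hu : u ∈ D.fixU) :
    d * u = u * d := by
  have hfix : ∀ w ∈ D.fixU, d * w * d⁻¹ = w ∨ d * w * d⁻¹ = z * w := by
    rintro w ⟨hq, hw⟩
    have hm : d * w * d⁻¹ ∈ Q := (inferInstance : Q.Normal).conj_mem _ hq d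
    have e1 : D.vec ⟨w, hq⟩ = D.vec ⟨_, hm⟩ := by
      rw [D.vec_conj' d ⟨w, hq⟩ hm, e, elem_fix hp hw]
    exact D.vec_eq e1
  by_contra hne
  have hlam : d * u * d⁻¹ = z * u :=
    (hfix u hu).resolve_left fun h => hne (mul_inv_eq_iff_eq_mul.1 h)
  obtain ⟨hq, hv⟩ := hu
  have hm1 : x * u * x⁻¹ ∈ Q := (inferInstance : Q.Normal).conj_mem _ hq x
  have hm2 : x * (x * u * x⁻¹) * x⁻¹ ∈ Q := (inferInstance : Q.Normal).conj_mem _ hm1 x
  have hzx : x * z = z * x := D.zc x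
  have h1 : d * (x * u * x⁻¹) * d⁻¹ = z * (x * u * x⁻¹) := by
    calc d * (x * u * x⁻¹) * d⁻¹ = (d * x) * u * (d * x)⁻¹ := by simp [mul_assoc]
      _ = (x * d) * u * (x * d)⁻¹ := by rw [hd]
      _ = x * (d * u * d⁻¹) * x⁻¹ := by simp [mul_assoc]
      _ = z * (x * u * x⁻¹) := by rw [hlam, ← mul_assoc x z u, hzx]; simp [mul_assoc]
  have h2 : d * (x * (x * u * x⁻¹) * x⁻¹) * d⁻¹ = z * (x * (x * u * x⁻¹) * x⁻¹) := by
    calc d * (x * (x * u * x⁻¹) * x⁻¹) * d⁻¹ = (d * x) * (x * u * x⁻¹) * (d * x)⁻¹ := by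
          simp [mul_assoc]
      _ = (x * d) * (x * u * x⁻¹) * (x * d)⁻¹ := by rw [hd]
      _ = x * (d * (x * u * x⁻¹) * d⁻¹) * x⁻¹ := by simp [mul_assoc]
      _ = z * (x * (x * u * x⁻¹) * x⁻¹) := by
        rw [h1, ← mul_assoc x z (x * u * x⁻¹), hzx]; simp [mul_assoc]
  have hv2 : D.vec (⟨u, hq⟩ * ⟨_, hm1⟩) = D.vec ⟨_, hm2⟩ := by
    rw [D.vec_mul, D.vec_conj' x ⟨u, hq⟩ hm1, D.vec_conj' x ⟨_, hm1⟩ hm2,
      D.vec_conj' x ⟨u, hq⟩ hm1, hx, hx, smul_smul]
    conv_lhs => rw [← one_smul K4 (D.vec ⟨u, hq⟩)]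
    rw [smul_smul, mul_one, ← add_smul, show (1 : K4) + om = om * om by decide +kernel]
  have hprod : d * (u * (x * u * x⁻¹)) * d⁻¹ = u * (x * u * x⁻¹) := by
    calc d * (u * (x * u * x⁻¹)) * d⁻¹ = (d * u * d⁻¹) * (d * (x * u * x⁻¹) * d⁻¹) := by
          simp [mul_assoc]
      _ = (z * z) * (u * (x * u * x⁻¹)) := by
          rw [hlam, h1]
          calc z * u * (z * (x * u * x⁻¹)) = z * (u * z) * (x * u * x⁻¹) := by simp [mul_assoc]
            _ = z * z * (u * (x * u * x⁻¹)) := by rw [D.zc u]; simp [mul_assoc]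
      _ = u * (x * u * x⁻¹) := by rw [D.xc.inv, one_mul]
  have hzd : d * z * d⁻¹ = z := mul_inv_eq_iff_eq_mul.2 (D.zc d)
  rcases D.vec_eq hv2 with e' | e'
  · change x * (x * u * x⁻¹) * x⁻¹ = u * (x * u * x⁻¹) at e'
    rw [e', hprod] at h2
    exact D.xc.ne_one (mul_eq_right.1 h2.symm)
  · change x * (x * u * x⁻¹) * x⁻¹ = z * (u * (x * u * x⁻¹)) at e'
    have e2 : d * (x * (x * u * x⁻¹) * x⁻¹) * d⁻¹ = x * (x * u * x⁻¹) * x⁻¹ := by
      rw [e']
      calc d * (z * (u * (x * u * x⁻¹))) * d⁻¹ = (d * z * d⁻¹) * (d * (u * (x * u * x⁻¹)) * d⁻¹) := by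
            simp [mul_assoc]
        _ = _ := by rw [hzd, hprod]
    rw [e2] at h2
    exact D.xc.ne_one (mul_eq_right.1 h2.symm)

theorem lift_sq {x : H} (hx3 : x ^ 3 = 1) (hx : ∀ v, D.act x v = om • v) {d : H} (hd : d * x = x * d)
    {p : ℕ} (hp : p ∈ elemL) (e : ∀ v, D.act d v = sAct p v) : d * d = 1 := by
  have hzz := D.xc.inv
  -- the square is one or `z`
  have hcases : ∀ d, d * x = x * d → ∀ p ∈ elemL, (∀ v, D.act d v = sAct p v) →
      d * d = 1 ∨ d * d = z := by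
    intro d hd p hp e
    have hq : d * d ∈ Q := (D.ker_act _).1 (AddMonoidHom.ext fun v => by
      show D.act (d * d) v = v
      rw [D.act_mul_apply, e, e, ← sAct_sMul, (elem_facts hp).2.2.1, sAct_one])
    exact D.fixed_central hx hq ((show Commute d x from hd).mul_left hd).symm.eq
  have hsame : ∀ a b : H, b = a ∨ b = a * z → b * b = a * a := by
    rintro a b (rfl | rfl)
    · rfl
    · rw [show a * z * (a * z) = a * (z * a) * z by simp [mul_assoc], ← D.zc a,
        show a * (a * z) * z = a * a * (z * z) by simp [mul_assoc], hzz, mul_one]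
  -- the root
  have hroot : 2 * elemRoot ∈ elemL := by
    have := elemTree_cover
    simp only [Bool.and_eq_true, memV_iff] at this
    exact this.1
  obtain ⟨d0, hd0, e0⟩ := D.lift_elem hx3 hx hroot
  -- all non-trivial ones agree
  have hconst : ∀ p ∈ elemL, p ≠ 2 * oneC → ∀ d, d * x = x * d → (∀ v, D.act d v = sAct p v) →
      d * d = d0 * d0 := by
    have hP : ∀ u ∈ elemRoot :: elemTree.map Prod.fst, 2 * u ∈ elemL ∧
        ∃ d, d * x = x * d ∧ (∀ v, D.act d v = sAct (2 * u) v) ∧ d * d = d0 * d0 := by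
      refine mem_of_treeR (P := fun u => 2 * u ∈ elemL ∧
        ∃ d, d * x = x * d ∧ (∀ v, D.act d v = sAct (2 * u) v) ∧ d * d = d0 * d0)
        ⟨hroot, d0, hd0, e0, rfl⟩ ?_ _ _ elemTree_ok (by simp)
      rintro u q j hu ⟨-, d, hd, ed, hdd⟩
      simp only [Bool.and_eq_true, memV_iff, Nat.beq_eq] at hu
      obtain ⟨⟨hu1, -⟩, hu3⟩ := hu
      have hk : ∃ k, k * x = x * k ∧ ∀ v, D.act k v = ofCode (nrmG.getD j oneC) *ᵥ v := by
        by_cases hj : j < nrmG.length
        · rw [List.getD_eq_getElem _ _ hj]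
          have h := realT_cases
          simp only [Bool.and_eq_true, List.all_eq_true, memV_iff] at h
          obtain ⟨g, hg, eg⟩ := mem_realT_in (h.2 _ (List.getElem_mem hj))
          obtain ⟨k, hk, ek⟩ := D.lift_cent hx3 hx hg
          exact ⟨k, hk, fun v => by rw [ek, mat_eq, eg]⟩
        · rw [List.getD_eq_default _ _ (not_lt.1 hj)]
          exact ⟨1, by simp, fun v => by rw [ofCode_oneC', Matrix.one_mulVec, map_one]; rfl⟩
      obtain ⟨k, hk, ek⟩ := hk
      refine ⟨hu1, k * d * k⁻¹, (((show Commute k x from hk).mul_left hd).mul_left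
        (show Commute k x from hk).inv_left).eq, fun v => ?_, ?_⟩
      · have hv : v = ofCode (nrmG.getD j oneC) *ᵥ D.act k⁻¹ v := by
          rw [← ek, ← D.act_mul_apply, mul_inv_cancel, map_one]; rfl
        conv_rhs => rw [hv]
        rw [D.act_mul_apply, D.act_mul_apply, ek, ed, sAct_two_mul, sAct_two_mul,
          Matrix.mulVec_mulVec, Matrix.mulVec_mulVec, ← ofCode_mulC, ← ofCode_mulC, hu3]
      · rw [show k * d * k⁻¹ * (k * d * k⁻¹) = k * (d * d) * k⁻¹ by simp [mul_assoc], hdd,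
          mul_inv_eq_iff_eq_mul]
        rcases hcases d0 hd0 _ hroot e0 with e' | e' <;> rw [e']
        · simp
        · exact D.zc k
    intro p hp hne d hd e
    have hc := elemTree_cover
    simp only [Bool.and_eq_true, List.all_eq_true, Bool.or_eq_true, Nat.beq_eq, memV_iff] at hc
    obtain ⟨-, d', hd', e', hdd⟩ := hP _ ((hc.2 p hp).resolve_left hne)
    have hpe : 2 * base p = p := by
      conv_rhs => rw [parts p, (elem_facts hp).2.1]
      simp
    rw [hpe] at e'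
    rw [← hdd]
    exact hsame _ _ (D.lift_unique hx hd' hd fun v => by rw [e', e])
  by_cases hp1 : p = 2 * oneC
  · subst hp1
    have hq : d ∈ Q := (D.ker_act _).1 (AddMonoidHom.ext fun v => by
      show D.act d v = v
      rw [e, sAct_one])
    rcases D.fixed_central hx hq hd.symm with h | h <;> rw [h]
    · exact mul_one 1
    · exact hzz
  rw [hconst p hp hp1 d hd e]
  refine (hcases d0 hd0 _ hroot e0).resolve_right fun hbad => ?_
  -- three independent lifts
  have ht := elemTriple_ok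
  simp only [List.any_eq_true, Bool.and_eq_true, memV_iff] at ht
  obtain ⟨a, -, b, -, c, -, ⟨⟨ha, hb⟩, hc⟩, hind⟩ := ht
  simp only [indepB, List.all_cons, List.all_nil, Bool.and_true, Bool.and_eq_true, Bool.not_eq_true'] at hind
  obtain ⟨n1, n2, n3, n4, n5, n6, n7⟩ := hind
  have hnb : ∀ {u : ℕ}, Nat.beq u (2 * oneC) = false → u ≠ 2 * oneC := fun h e' => by
    subst e'; simp at h
  obtain ⟨A, hA, eA⟩ := D.lift_elem hx3 hx ha
  obtain ⟨B, hB, eB⟩ := D.lift_elem hx3 hx hb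
  obtain ⟨C, hC, eC⟩ := D.lift_elem hx3 hx hc
  have hmul : ∀ {s t : H} {p q : ℕ}, s * x = x * s → t * x = x * t → (∀ v, D.act s v = sAct p v) →
      (∀ v, D.act t v = sAct q v) → (s * t) * x = x * (s * t) ∧ ∀ v, D.act (s * t) v = sAct (sMul p q) v :=
    fun hs ht es et => ⟨((show Commute _ x from hs).mul_left ht).eq,
      fun v => by rw [D.act_mul_apply, et, es, sAct_sMul]⟩
  have key : ∀ {s : H} {p : ℕ}, p ∈ elemL → Nat.beq p (2 * oneC) = false → s * x = x * s →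
      (∀ v, D.act s v = sAct p v) → s * s = z :=
    fun hp hn hs es => (hconst _ hp (hnb hn) _ hs es).trans hbad
  have hab := hmul hA hB eA eB
  have hac := hmul hA hC eA eC
  have hbc := hmul hB hC eB eC
  have habc := hmul hA hbc.1 eA hbc.2
  have hbcm := ((elem_facts hb).2.2.2 c hc).1
  have sA := key ha n1 hA eA
  have sB := key hb n2 hB eB
  have sC := key hc n3 hC eC
  have sAB := key ((elem_facts ha).2.2.2 b hb).1 n4 hab.1 hab.2
  have sAC := key ((elem_facts ha).2.2.2 c hc).1 n5 hac.1 hac.2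
  have sBC := key hbcm n6 hbc.1 hbc.2
  have sABC := key ((elem_facts ha).2.2.2 _ hbcm).1 n7 habc.1 habc.2
  have hanti : ∀ {s t : H}, s * s = z → t * t = z → s * t * (s * t) = z → t * s = z * (s * t) := by
    intro s t hs ht hst
    calc t * s = z * (t * s) * z := by rw [mul_assoc z, D.zc (t * s), ← mul_assoc z z, hzz, one_mul]
      _ = (s * s) * (t * s) * (t * t) := by rw [hs, ht]
      _ = s * (s * t * (s * t)) * t := by simp [mul_assoc]
      _ = z * (s * t) := by rw [hst, D.zc s, mul_assoc]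
  have c1 := hanti sA sB sAB
  have c2 := hanti sA sC sAC
  have c3 := hanti sB sC sBC
  have hz' : ∀ a b : H, a * (z * b) = z * (a * b) := fun a b => by
    rw [← mul_assoc, D.zc a, mul_assoc]
  apply D.xc.ne_one
  calc z = A * (B * C) * (A * (B * C)) := sABC.symm
    _ = A * B * (C * A) * (B * C) := by simp [mul_assoc]
    _ = z * (A * B * (A * C) * (B * C)) := by rw [c2, hz', mul_assoc z]
    _ = z * (A * (B * A) * (C * B) * C) := by simp [mul_assoc]
    _ = z * (z * (z * (A * (A * B) * (B * C) * C))) := by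
        rw [c1, c3]
        simp only [hz', mul_assoc]
    _ = z * (A * A * (B * B) * (C * C)) := by
        rw [← mul_assoc z z, hzz, one_mul]
        simp [mul_assoc]
    _ = 1 := by rw [sA, sB, sC, hzz, one_mul, hzz]

theorem bigA_elementary : Cfsg.IsElementaryAbelian 2 D.bigA := by
  obtain ⟨x, hx3, hx⟩ := D.exists_scalar
  have hsq : ∀ h ∈ D.bigA, h * h = 1 := by
    intro h hh
    obtain ⟨p, hp, e⟩ := hh.1
    obtain ⟨d, hd, ed⟩ := D.lift_elem hx3 hx hp
    have hdc : ∀ u ∈ D.fixU, u * d = d * u := fun u hu => (D.lift_cent_fixU hx hd hp ed hu).symm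
    have hu : d⁻¹ * h ∈ D.fixU := by
      refine D.cent_fixU (D.mem_of_act_eq fun v => by rw [ed, e]) fun u hu => ?_
      exact ((show Commute u d from hdc u hu).inv_right.mul_right
        (show Commute u h from Subgroup.mem_centralizer_iff.1 hh.2 u hu)).eq
    calc h * h = d * (d⁻¹ * h * d) * (d⁻¹ * h) := by simp [mul_assoc]
      _ = d * d * ((d⁻¹ * h) * (d⁻¹ * h)) := by rw [hdc _ hu]; simp [mul_assoc]
      _ = 1 := by rw [D.lift_sq hx3 hx hd hp ed, D.fixU_sq hu, mul_one]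
  refine ⟨⟨⟨fun a b => Subtype.ext ?_⟩⟩, fun a ha => (pow_two a).trans (hsq a ha)⟩
  have h1 := inv_eq_of_mul_eq_one_right (hsq _ (mul_mem a.2 b.2))
  rw [_root_.mul_inv_rev, inv_eq_of_mul_eq_one_right (hsq _ a.2),
    inv_eq_of_mul_eq_one_right (hsq _ b.2)] at h1
  exact h1.symm

theorem card_bigA_image : Nat.card ↥(D.bigA.map (QuotientGroup.mk' Q)) = 16 := by
  obtain ⟨x, hx3, hx⟩ := D.exists_scalar
  rw [D.card_image D.bigA elemL.toFinset (fun p hp => (elem_facts (List.mem_toFinset.1 hp)).1)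
    (fun h hh => by
      obtain ⟨p, hp, e⟩ := hh.1
      exact ⟨p, List.mem_toFinset.2 hp, e⟩) (fun p hp => ?_), elemL_card]
  obtain ⟨d, hd, ed⟩ := D.lift_elem hx3 hx (List.mem_toFinset.1 hp)
  exact ⟨d, ⟨⟨p, List.mem_toFinset.1 hp, ed⟩, Subgroup.mem_centralizer_iff.2 fun u hu =>
    (D.lift_cent_fixU hx hd (List.mem_toFinset.1 hp) ed hu).symm⟩, ed⟩

theorem card_bigA : Nat.card D.bigA = 2 ^ 11 := by
  rw [card_split (Q := Q) D.bigA, D.bigA_inf, D.card_fixU, D.card_bigA_image]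
  norm_num

/-- An elementary abelian subgroup of the standard group of order at least `2^11` is the big one. -/
theorem eq_bigA (B : Subgroup H) (hB : Cfsg.IsElementaryAbelian 2 B) (hle : B ≤ D.std)
    (hcard : 2 ^ 11 ≤ Nat.card B) : B = D.bigA := by
  classical
  have hsq : ∀ a ∈ B, a * a = 1 := fun a ha => (pow_two a).symm.trans (hB.2 a ha)
  have hcomm : ∀ a ∈ B, ∀ b ∈ B, a * b = b * a := fun a ha b hb =>
    congrArg Subtype.val (hB.1.is_comm.comm (⟨a, ha⟩ : B) ⟨b, hb⟩)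
  let S : Finset ℕ := sylL.toFinset.filter fun p => ∃ b ∈ B, ∀ v, D.act b v = sAct p v
  have hS : ∀ {p}, p ∈ S ↔ p ∈ sylL ∧ ∃ b ∈ B, ∀ v, D.act b v = sAct p v := by
    intro p; simp [S]
  have hB1 : ∀ b ∈ B, ∃ p ∈ S, ∀ v, D.act b v = sAct p v := fun b hb => by
    obtain ⟨p, hp, e⟩ := hle hb
    exact ⟨p, hS.2 ⟨hp, b, hb, e⟩, e⟩
  have hone : 2 * oneC ∈ S := hS.2 ⟨one_mem_sylL, 1, one_mem _, fun v => by rw [map_one, sAct_one]; rfl⟩
  have hmul : ∀ p ∈ S, ∀ q ∈ S, sMul p q ∈ S := by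
    intro p hp q hq
    obtain ⟨hp', a, ha, ea⟩ := hS.1 hp
    obtain ⟨hq', b, hb, eb⟩ := hS.1 hq
    obtain ⟨r, hr, er⟩ := sylL_mul hp' hq'
    have e := sylL_act_inj hr (canB_sMul p q) fun v => by rw [er, sAct_sMul]
    exact e ▸ hS.2 ⟨hr, a * b, mul_mem ha hb, fun v => by rw [er, D.act_mul_apply, eb, ea]⟩
  have hsqS : ∀ p ∈ S, sMul p p = 2 * oneC := by
    intro p hp
    obtain ⟨hp', a, ha, ea⟩ := hS.1 hp
    refine (sylL_act_inj one_mem_sylL (canB_sMul p p) fun v => ?_).symm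
    rw [sAct_one, sAct_sMul, ← ea, ← ea, ← D.act_mul_apply, hsq a ha, map_one]; rfl
  have hcommS : ∀ p ∈ S, ∀ q ∈ S, sMul p q = sMul q p := by
    intro p hp q hq
    obtain ⟨-, a, ha, ea⟩ := hS.1 hp
    obtain ⟨-, b, hb, eb⟩ := hS.1 hq
    refine sylL_act_inj (hS.1 (hmul p hp q hq)).1 (canB_sMul q p) fun v => ?_
    rw [sAct_sMul, sAct_sMul, ← eb, ← ea, ← ea, ← eb, ← D.act_mul_apply, ← D.act_mul_apply,
      hcomm a ha b hb]
  haveI : Fintype V6 := Fintype.ofFinite _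
  let F : Finset V6 := Finset.univ.filter fun v => ∃ b : Q, (b : H) ∈ B ∧ D.vec b = v
  have hF : ∀ {v}, v ∈ F ↔ ∃ b : Q, (b : H) ∈ B ∧ D.vec b = v := by
    intro v; simp [F]
  have hfix : ∀ p ∈ S, ∀ v ∈ F, sAct p v = v := by
    intro p hp v hv
    obtain ⟨-, a, ha, ea⟩ := hS.1 hp
    obtain ⟨b, hb, rfl⟩ := hF.1 hv
    have hm : a * (b : H) * a⁻¹ ∈ Q := (inferInstance : Q.Normal).conj_mem _ b.2 a
    rw [← ea, ← D.vec_conj' a b hm]
    congr 1
    exact Subtype.ext (mul_inv_eq_iff_eq_mul.2 (hcomm a ha b hb))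
  have hiso : ∀ v ∈ F, nf v = 0 := by
    intro v hv
    obtain ⟨b, hb, rfl⟩ := hF.1 hv
    exact (D.vec_sq b).1 (hsq b hb)
  have hadd : ∀ u ∈ F, ∀ v ∈ F, u + v ∈ F := by
    intro u hu v hv
    obtain ⟨a, ha, rfl⟩ := hF.1 hu
    obtain ⟨b, hb, rfl⟩ := hF.1 hv
    exact hF.2 ⟨a * b, mul_mem ha hb, D.vec_mul a b⟩
  have himage : Nat.card ↥(B.map (QuotientGroup.mk' Q)) = S.card :=
    D.card_image B S (fun p hp => (hS.1 hp).1) hB1 fun p hp => (hS.1 hp).2
  have hinf : Nat.card ↥(B ⊓ Q) ≤ 2 * F.card := by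
    choose rep hrep hrepv using fun v : F => hF.1 v.2
    let f : Bool × F → H := fun s => (if s.1 then z else 1) * (rep s.2 : H)
    have hsub : ((B ⊓ Q : Subgroup H) : Set H) ⊆ Set.range f := by
      intro b hb
      obtain ⟨v, hv⟩ : ∃ v : F, D.vec (rep v) = D.vec ⟨b, hb.2⟩ :=
        ⟨⟨_, hF.2 ⟨⟨b, hb.2⟩, hb.1, rfl⟩⟩, hrepv _⟩
      rcases D.vec_eq hv with e | e
      · exact ⟨(false, v), by simp only [f, Bool.false_eq_true, if_false, one_mul]; exact e.symm⟩
      · exact ⟨(true, v), by simp only [f, if_true]; exact e.symm⟩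
    calc Nat.card ↥(B ⊓ Q) ≤ (Set.range f).ncard := by
          rw [← SetLike.coe_sort_coe, Nat.card_coe_set_eq]
          exact Set.ncard_le_ncard hsub (Set.toFinite _)
      _ ≤ Nat.card (Bool × F) := by
          rw [← Nat.card_coe_set_eq]; exact Finite.card_range_le f
      _ = 2 * F.card := by rw [Nat.card_prod, Nat.card_eq_finsetCard]; simp
  have hBc := card_split (Q := Q) B
  rw [himage] at hBc
  have hc : 2 ^ 11 ≤ S.card * (2 * F.card) := by
    calc 2 ^ 11 ≤ Nat.card B := hcard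
      _ ≤ 2 * F.card * S.card := by rw [hBc]; exact Nat.mul_le_mul_right _ hinf
      _ = _ := by ring
  obtain ⟨hSe, hS16, hFe⟩ := elementary_dichotomy S (fun p hp => (hS.1 hp).1) hone hmul hcommS hsqS F
    hfix hiso hadd hc
  have hle2 : B ⊓ Q ≤ D.fixU := fun b hb => ⟨hb.2, (hFe _).1 (hF.2 ⟨⟨b, hb.2⟩, hb.1, rfl⟩)⟩
  have h128 : 128 ≤ Nat.card ↥(B ⊓ Q) := by
    rw [hBc, hS16] at hcard
    omega
  have heq : B ⊓ Q = D.fixU := Subgroup.eq_of_le_of_card_ge hle2 (by rw [D.card_fixU]; exact h128)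
  refine Subgroup.eq_of_le_of_card_ge (fun b hb => ⟨?_, ?_⟩) (by rw [D.card_bigA]; exact hcard)
  · obtain ⟨p, hp, e⟩ := hB1 b hb
    rw [hSe, List.mem_toFinset] at hp
    exact ⟨p, hp, e⟩
  · refine Subgroup.mem_centralizer_iff.2 fun u hu => ?_
    exact hcomm u (heq.ge hu).1 b hb

end Model

end CfsgLib.Spor.LargeFi.J4
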