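import Cfsg.Agent.Lib.Spor.LargeJ4.PinChk
import Cfsg.Agent.Lib.Spor.U62.Sylow
import Cfsg.Agent.Lib.Spor.LargeFi.SylElem

/-!
Three elements of `SU₆(2)` with the relations of generators of the triple cover of `M22` are carried
into the standard subgroup by one unitary matrix.
-/

set_option autoImplicit false
set_option maxRecDepth 100000
set_option maxHeartbeats 1000000

namespace CfsgLib.Spor.LargeFi.J4

open CfsgLib.Spor.U62
open Matrix
open scoped Pointwise

/-- the standard triple cover of `M22` -/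
def L0 : Subgroup U6 := span [XC, YC, FC]

theorem top_base : ∀ c ∈ [XC, YC, FC, omC], In ⊤ c := by
  intro c hc
  have h := List.all_eq_true.1 base_codes c hc
  obtain ⟨g, hg⟩ := exists_cd h (by
    simp only [List.mem_cons, List.not_mem_nil, or_false] at hc
    rcases hc with rfl | rfl | rfl | rfl
    exacts [det_XC, det_YC, det_FC, det_omC])
  exact ⟨g, Subgroup.mem_top _, hg⟩

theorem gen_in : ∀ c ∈ [XC, YC, FC], In L0 c := fun c hc =>
  In.span (top_base c (by simp only [List.mem_cons, List.not_mem_nil, or_false] at hc ⊢; tauto)) hc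

theorem om_mem_L0 : In L0 omC := by
  refine In.prog (r := baseProg) (base := [XC, YC, FC]) (tg := omC :: tauT) ?_ gen_in omC List.mem_cons_self
  decide +kernel

/-- a scalar matrix -/
def IsSc (g : U6) : Prop := ∃ k : K4, mat g = k • (1 : Matrix (Fin 6) (Fin 6) K4)

theorem scal_codes : ∀ a b : ZMod 2, (⟨a, b⟩ : K4) = 0 ∨
    codeM ((⟨a, b⟩ : K4) • (1 : Matrix (Fin 6) (Fin 6) K4)) ∈ scalL := by decide +kernel

theorem mem_scalL {g : U6} (h : IsSc g) : cd g ∈ scalL := by
  obtain ⟨⟨a, b⟩, hk⟩ := h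
  rcases scal_codes a b with h0 | h0
  · exfalso
    have hd : (mat g).det = 1 := g.1.2
    rw [hk, h0, zero_smul, Matrix.det_zero] at hd
    exact zero_ne_one hd
  · show codeM (mat g) ∈ scalL
    rw [hk]; exact h0

theorem IsSc.central {g : U6} (h : IsSc g) (M : Matrix (Fin 6) (Fin 6) K4) :
    M * mat g = mat g * M := by
  obtain ⟨k, hk⟩ := h
  rw [hk, mul_smul_comm, smul_mul_assoc, mul_one, one_mul]

theorem ofCode_scal {c : ℕ} (h : c ∈ scalL) (M : Matrix (Fin 6) (Fin 6) K4) :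
    M * ofCode c = ofCode c * M := by
  simp only [scalL, List.mem_cons, List.not_mem_nil, or_false] at h
  rcases h with rfl | rfl | rfl
  · rw [ofCode_oneC', mul_one, one_mul]
  · rw [scal_om, mul_smul_comm, smul_mul_assoc, mul_one, one_mul]
  · rw [ofCode_mulC, scal_om, smul_mul_smul_comm, mul_one, mul_smul_comm, smul_mul_assoc, mul_one,
      one_mul]

theorem exp_cases : ∀ j < 11, j ≠ 0 → ∃ m < 5, j * 3 ^ m % 11 = 1 ∨ j * 3 ^ m % 11 = 10 := by
  decide +kernel

theorem hC_inj {a b c d : ℕ} (h : kOf (hC a b) = kOf (hC c d)) : hC a b = hC c d :=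
  kOf_inj _ (dot6_lt _ _) _ (dot6_lt _ _) h

theorem nfC_inj {a b : ℕ} (h : kOf (nfC a) = kOf (nfC b)) : nfC a = nfC b :=
  kOf_inj _ (dot6_lt _ _) _ (dot6_lt _ _) h

theorem card_sylow_eleven (P : Sylow 11 U6) : Nat.card P = 11 := by
  haveI : Fact (Nat.Prime 11) := ⟨by norm_num⟩
  rw [P.card_eq_multiplicity, card_U6_val,
    show (3 ^ 7 * 12615680 : ℕ) = 11 * 2508226560 by norm_num,
    Nat.factorization_mul (by norm_num) (by norm_num)]
  simp [Nat.Prime.factorization_self (show Nat.Prime 11 by norm_num),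
    Nat.factorization_eq_zero_of_not_dvd (show ¬ 11 ∣ 2508226560 by norm_num)]

theorem exists_conj_zpowers {x X : U6} (hx : orderOf x = 11) (hX : orderOf X = 11) :
    ∃ g : U6, g * x * g⁻¹ ∈ Subgroup.zpowers X := by
  haveI : Fact (Nat.Prime 11) := ⟨by norm_num⟩
  have key : ∀ a : U6, orderOf a = 11 → ∃ P : Sylow 11 U6, (P : Subgroup U6) = Subgroup.zpowers a := by
    intro a ha
    have hc : Nat.card (Subgroup.zpowers a) = 11 := by rw [Nat.card_zpowers, ha]
    obtain ⟨P, hP⟩ := (IsPGroup.of_card (n := 1) (by rw [hc, pow_one])).exists_le_sylow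
    exact ⟨P, (Subgroup.eq_of_le_of_card_ge hP (by rw [hc]; exact (card_sylow_eleven P).le)).symm⟩
  obtain ⟨P, hP⟩ := key x hx
  obtain ⟨R, hR⟩ := key X hX
  obtain ⟨g, hg⟩ := MulAction.exists_smul_eq U6 P R
  refine ⟨g, ?_⟩
  rw [← hR, ← hg]
  show g * x * g⁻¹ ∈ (MulAut.conj g • (P : Subgroup U6))
  rw [hP]
  exact ⟨x, Subgroup.mem_zpowers x, rfl⟩

theorem code_Y {g : U6} {Xe : U6} (hXe : cd Xe = XC) (h : g * Xe = Xe ^ 3 * g) (h5 : g ^ 5 = 1) :
    ∃ e ∈ ctY, e.1 = cd g := by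
  have hc : mat g * ofCode XC = ofCode XC3 * mat g := by
    rw [XC3, ← hXe, ← cd_pow, ← mat_eq, ← mat_eq, ← map_mul, ← map_mul, h]
  have hk := code_of_krylov hc kX_inv
  set u := vc (mat g *ᵥ vOf kX) with hu
  have hpre : hC u (mvC XC3 u) = hC kX (mvC XC kX) ∧ nfC u = nfC kX := by
    refine ⟨hC_inj ?_, nfC_inj ?_⟩
    · rw [kOf_hC, kOf_hC, vOf_mvC, vOf_mvC, hu, vOf_vc, Matrix.mulVec_mulVec, ← hc,
        ← Matrix.mulVec_mulVec]
      exact g.2 _ _
    · rw [kOf_nfC, kOf_nfC, hu, vOf_vc]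
      exact g.2 _ _
  have h' := List.all_eq_true.1 candY_ok u (List.mem_range.2 (vc_lt _))
  simp only [Bool.or_eq_true, Bool.not_eq_true'] at h'
  rcases h' with (h' | h') | h'
  · rw [hpre.1, Nat.beq_refl] at h'; exact absurd h' (by decide)
  · rw [hpre.2, Nat.beq_refl] at h'; exact absurd h' (by decide)
  · rw [candY, ← hk, ← show cd g = codeM (mat g) from rfl, okY] at h'
    simp only [Bool.or_eq_true, Bool.not_eq_true', List.any_eq_true, Nat.beq_eq] at h'
    refine h'.resolve_left fun hh => ?_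
    rw [← Bool.not_eq_true, Bool.and_eq_true, Nat.beq_eq] at hh
    refine hh ⟨?_, ?_⟩
    · exact (uni_mat g).unitB_code
    · rw [← cd_pow, h5, cd_one]

theorem code_F {M : Matrix (Fin 6) (Fin 6) K4} (hM : Uni M)
    (h : M * ofCode YC = ofCode YC2 * M) {e : ℕ} (he : e = 1 ∨ e = 10)
    (r1 : ∃ c ∈ scalL, ((ofCode XC) ^ e * M * M * ofCode YC) ^ 3 = ofCode c)
    (r2 : ∃ c ∈ scalL, ((ofCode XC) ^ e * M) ^ 7 = ofCode c) :
    ∃ t ∈ ctF, t.1 = codeM M := by
  have hh := kY_inv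
  simp only [Bool.and_eq_true, Nat.beq_eq] at hh
  obtain ⟨⟨⟨hK, hpre⟩, h1⟩, h2⟩ := hh
  set u := vc (M *ᵥ vOf kY) with hu
  set a := vc (M *ᵥ vOf kY1) with ha
  set b := vc (M *ᵥ vOf kY2) with hb
  have hk : codeM M = candF u a b := by
    refine code_of_cols (f := colsYf YC kY kY1 kY2) (by rw [Nat.beq_eq]; exact hK) fun j => ?_
    have hp := fun n => (SemiconjBy.pow_right
      (show SemiconjBy M (ofCode YC) (ofCode YC2) from h) n).eq
    have hi : ∀ n, M *ᵥ vOf (iterV YC kY n) = vOf (iterV YC2 u n) := fun n => by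
      rw [vOf_iterV, vOf_iterV, hu, vOf_vc, Matrix.mulVec_mulVec, Matrix.mulVec_mulVec, hp]
    fin_cases j
    · exact hi 0
    · exact hi 1
    · exact hi 2
    · exact hi 3
    · exact (vOf_vc _).symm
    · exact (vOf_vc _).symm
  have hfix : ∀ w, mvC YC w = w → vc (M *ᵥ vOf w) ∈ fixTwoL := by
    intro w hw
    have h' := List.all_eq_true.1 fixTwoL_cover _ (List.mem_range.2 (vc_lt (M *ᵥ vOf w)))
    simp only [Bool.or_eq_true, Bool.not_eq_true', memV_iff] at h'
    refine h'.resolve_left fun h' => ?_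
    rw [← Bool.not_eq_true, Nat.beq_eq] at h'
    refine h' ?_
    rw [← vc_mulVec, Matrix.mulVec_mulVec, ← h, ← Matrix.mulVec_mulVec, ← vOf_mvC, hw]
  have humem : u ∈ movL := by
    have h' := List.all_eq_true.1 movL_cover _ (List.mem_range.2 (vc_lt (M *ᵥ vOf kYpre)))
    rw [memV_iff, ← vc_mulVec, ← vc_add] at h'
    rw [hu, ← hpre, vOf_xor, Matrix.mulVec_add, vOf_mvC, Matrix.mulVec_mulVec, h,
      ← Matrix.mulVec_mulVec]
    exact h'
  have hherm : ∀ p q, Cfsg.hermForm 6 K4 2 (M *ᵥ vOf p) (M *ᵥ vOf q) = kOf (hC p q) :=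
    fun p q => (hM _ _).trans (kOf_hC p q).symm
  have hn : ∀ w, nfC (vc (M *ᵥ vOf w)) = nfC w := fun w => by
    refine nfC_inj ?_
    rw [kOf_nfC, kOf_nfC, vOf_vc]
    exact hM _ _
  have hpow : ∀ n, hC u (iterV YC2 u n) = hC kY (iterV YC kY n) := fun n => by
    refine hC_inj ?_
    rw [← hherm kY, kOf_hC, vOf_iterV, vOf_iterV, hu, vOf_vc, Matrix.mulVec_mulVec,
      Matrix.mulVec_mulVec,
      (SemiconjBy.pow_right (show SemiconjBy M (ofCode YC) (ofCode YC2) from h) n).eq]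
  have hab : hC a b = hC kY1 kY2 := by
    refine hC_inj ?_
    rw [← hherm kY1, kOf_hC, ha, hb, vOf_vc, vOf_vc]
  have h' := List.all_eq_true.1 candF_ok u humem
  simp only [Bool.or_eq_true, Bool.not_eq_true', List.all_eq_true] at h'
  rcases h' with ((h' | h') | h') | h'
  · rw [hu, hn kY, Nat.beq_refl] at h'; exact absurd h' (by decide)
  · rw [show mvC YC2 u = iterV YC2 u 1 from rfl, show mvC YC kY = iterV YC kY 1 from rfl, hpow 1,
      Nat.beq_refl] at h'
    exact absurd h' (by decide)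
  · rw [hpow 2, Nat.beq_refl] at h'; exact absurd h' (by decide)
  · rcases h' a (hfix kY1 h1) with h'' | h''
    · rw [ha, hn kY1, Nat.beq_refl] at h''; exact absurd h'' (by decide)
    rcases h'' b (hfix kY2 h2) with (h''' | h''') | h'''
    · rw [hb, hn kY2, Nat.beq_refl] at h'''; exact absurd h''' (by decide)
    · rw [hab, Nat.beq_refl] at h'''; exact absurd h''' (by decide)
    · rw [← hk, okF] at h'''
      simp only [Bool.or_eq_true, Bool.not_eq_true', List.any_eq_true, Nat.beq_eq] at h'''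
      rcases h''' with (h4 | h4) | h4
      · rw [hM.unitB_code] at h4; exact absurd h4 (by decide)
      · exfalso
        have hr : relB e (codeM M) = true := by
          obtain ⟨c1, m1, e1⟩ := r1
          obtain ⟨c2, m2, e2⟩ := r2
          have hs : ∀ c ∈ scalL, codeM (ofCode c) = c := by decide +kernel
          have ec : ∀ p n, codeM (ofCode (powC (mulC p (codeM M)) n)) = powC (mulC p (codeM M)) n ∧
              codeM (ofCode (powC (mulC p YC) n)) = powC (mulC p YC) n := by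
            intro p n
            cases n with
            | zero => exact ⟨by rw [powC]; exact hs _ (by simp [scalL]),
                by rw [powC]; exact hs _ (by simp [scalL])⟩
            | succ n => exact ⟨codeM_ofCode_mulC _ _, codeM_ofCode_mulC _ _⟩
          simp only [relB, Bool.and_eq_true, memV_iff]
          constructor
          · rw [← (ec _ 3).2]
            simp only [ofCode_powC, ofCode_mulC, ofCode_codeM]
            rw [e1, hs c1 m1]; exact m1
          · rw [← (ec _ 7).1]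
            simp only [ofCode_powC, ofCode_mulC, ofCode_codeM]
            rw [e2, hs c2 m2]; exact m2
        rw [← Bool.not_eq_true, Bool.or_eq_true] at h4
        rcases he with rfl | rfl
        · exact h4 (Or.inl hr)
        · exact h4 (Or.inr hr)
      · exact h4

theorem cd_pow_eq {g : U6} {c : ℕ} (h : cd g = c) (n : ℕ) : cd (g ^ n) = powC c n := by
  rw [cd_pow, h]

theorem IsSc.exists_code {g : U6} (h : IsSc g) : ∃ c ∈ scalL, mat g = ofCode c :=
  ⟨cd g, mem_scalL h, mat_eq g⟩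

/-- Three elements with the relations are moved into the standard subgroup, generating it. -/
theorem pin {x y f : U6} (hx11 : x ^ 11 = 1) (hx1 : x ≠ 1) (hy5 : y ^ 5 = 1)
    (hyx : y * x = x ^ 3 * y) (hfy : f * y = y ^ 2 * f) (r1 : IsSc ((x * f * f * y) ^ 3))
    (r2 : IsSc ((x * f) ^ 7)) :
    ∃ C Ci : Matrix (Fin 6) (Fin 6) K4, C * Ci = 1 ∧ Ci * C = 1 ∧ Uni C ∧
      (∀ R : Subgroup U6, x ∈ R → y ∈ R → f ∈ R → In R omC →
        ∀ l ∈ L0, ∃ r ∈ R, C * mat r * Ci = mat l) ∧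
      (∀ r ∈ Subgroup.closure (({x, y, f} : Set U6) ∪ {s | cd s = omC}),
        ∃ l ∈ L0, C * mat r * Ci = mat l) := by
  haveI : Fact (Nat.Prime 11) := ⟨by norm_num⟩
  obtain ⟨Xe, hXm, hXe⟩ := gen_in XC (by simp)
  obtain ⟨Ye, hYm, hYe⟩ := gen_in YC (by simp)
  obtain ⟨Fe, hFm, hFe⟩ := gen_in FC (by simp)
  obtain ⟨Oe, -, hOe⟩ := top_base omC (by simp)
  have hrel := XY_rel
  simp only [Bool.and_eq_true, Nat.beq_eq, Bool.not_eq_true'] at hrel
  obtain ⟨⟨⟨⟨⟨⟨hYX, hY5⟩, -⟩, hX11⟩, hX1⟩, -⟩, -⟩ := hrel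
  have hXo : orderOf Xe = 11 := by
    refine orderOf_eq_prime (cd_injective (by rw [cd_pow_eq hXe, hX11, cd_one])) fun e => ?_
    rw [← hXe, e, cd_one, Nat.beq_refl] at hX1
    exact absurd hX1 (by decide)
  obtain ⟨g0, hg0⟩ := exists_conj_zpowers (orderOf_eq_prime hx11 hx1) hXo
  obtain ⟨j, hj0⟩ := Subgroup.mem_zpowers_iff.1 hg0
  have hX11' : Xe ^ 11 = 1 := by rw [← hXo, pow_orderOf_eq_one]
  obtain ⟨n, hn, hjn⟩ : ∃ n < 11, g0 * x * g0⁻¹ = Xe ^ n := by
    refine ⟨(j % 11).toNat, by omega, ?_⟩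
    rw [← hj0, ← zpow_natCast, Int.toNat_of_nonneg (Int.emod_nonneg _ (by norm_num)),
      zpow_eq_zpow_emod' j hX11']
    norm_num
  have hn0 : n ≠ 0 := by
    rintro rfl
    rw [pow_zero, conj_eq_one_iff] at hjn
    exact hx1 hjn
  obtain ⟨m, hm, hcase⟩ := exp_cases n hn hn0
  -- adjust by a power of the second element
  have hyk : ∀ k : ℕ, y ^ k * x * (y ^ k)⁻¹ = x ^ (3 ^ k) := by
    intro k
    induction k with
    | zero => simp
    | succ k ih =>
      rw [pow_succ', _root_.mul_inv_rev,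
        show y * y ^ k * x * ((y ^ k)⁻¹ * y⁻¹) = y * (y ^ k * x * (y ^ k)⁻¹) * y⁻¹ by simp [mul_assoc],
        ih, ← conj_pow, show y * x * y⁻¹ = x ^ 3 by rw [hyx, mul_inv_cancel_right], ← pow_mul,
        pow_succ']
  set g := g0 * y ^ m with hg
  obtain ⟨e, he, hgx⟩ : ∃ e, (e = 1 ∨ e = 10) ∧ g * x * g⁻¹ = Xe ^ e := by
    refine ⟨n * 3 ^ m % 11, hcase, ?_⟩
    rw [hg, _root_.mul_inv_rev, show g0 * y ^ m * x * ((y ^ m)⁻¹ * g0⁻¹) =
      g0 * (y ^ m * x * (y ^ m)⁻¹) * g0⁻¹ by simp [mul_assoc], hyk, ← conj_pow, hjn, ← pow_mul,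
      pow_eq_pow_mod _ hX11']
  set y' := g * y * g⁻¹ with hy'
  have hy'X : y' * Xe = Xe ^ 3 * y' := by
    have h1 : y' * Xe ^ e = Xe ^ (3 * e) * y' := by
      rw [mul_comm 3 e, pow_mul, ← hgx, conj_pow, hy']
      simp only [mul_assoc, inv_mul_cancel_left]
      rw [← mul_assoc y x, hyx]
      simp [mul_assoc]
    rcases he with rfl | rfl
    · simpa using h1
    · have h2 : y' * Xe ^ 10 * y'⁻¹ = Xe ^ 30 := by rw [h1, mul_inv_cancel_right]
      have h3 : (y' * Xe ^ 10 * y'⁻¹) ^ 10 = (Xe ^ 30) ^ 10 := by rw [h2]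
      rw [conj_pow, ← pow_mul, ← pow_mul, pow_eq_pow_mod (10 * 10) hX11',
        pow_eq_pow_mod (30 * 10) hX11'] at h3
      norm_num at h3
      rwa [mul_inv_eq_iff_eq_mul] at h3
  obtain ⟨t, ht, ety⟩ := code_Y hXe hy'X (by rw [hy', conj_pow, hy5]; simp)
  have htok := List.all_eq_true.1 ctY_ok t ht
  simp only [Bool.and_eq_true, Nat.beq_eq] at htok
  obtain ⟨⟨hti, htX⟩, htY⟩ := htok
  obtain ⟨u1, u1', c12, c21⟩ := invB_spec hti
  set A := ofCode (invC t.2) * mat g with hA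
  set Ai := mat g⁻¹ * ofCode t.2 with hAi
  have hgg : mat g * mat g⁻¹ = 1 ∧ mat g⁻¹ * mat g = 1 := by
    rw [← map_mul, ← map_mul, mul_inv_cancel, inv_mul_cancel, map_one]; exact ⟨rfl, rfl⟩
  have hAA : A * Ai = 1 ∧ Ai * A = 1 := by
    constructor
    · rw [hA, hAi, mul_assoc, ← mul_assoc (mat g), hgg.1, one_mul, c21]
    · rw [hA, hAi, mul_assoc, ← mul_assoc (ofCode t.2), c12, one_mul, hgg.2]
  have hAconj : ∀ r : U6, A * mat r * Ai = ofCode (invC t.2) * mat (g * r * g⁻¹) * ofCode t.2 := by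
    intro r
    rw [map_mul, map_mul, hA, hAi]
    simp only [mul_assoc]
  have hAx : A * mat x * Ai = ofCode XC ^ e := by
    rw [hAconj, hgx, map_pow, mat_eq Xe, hXe]
    have hs : SemiconjBy (ofCode t.2) (ofCode XC) (ofCode XC) := by
      show _ = _
      rw [← ofCode_mulC, htX, ofCode_mulC]
    rw [mul_assoc, ← (hs.pow_right e).eq, ← mul_assoc, c21, one_mul]
  have hAy : A * mat y * Ai = ofCode YC := by
    rw [hAconj, ← hy', mat_eq y', ← ety, ← htY, ofCode_mulC, ofCode_mulC]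
    simp only [← mul_assoc, c21, one_mul]
    rw [mul_assoc, c21, mul_one]
  let cj : U6 → Matrix (Fin 6) (Fin 6) K4 := fun r => A * mat r * Ai
  have hcm : ∀ r s, cj (r * s) = cj r * cj s := by
    intro r s
    show A * mat (r * s) * Ai = A * mat r * Ai * (A * mat s * Ai)
    rw [map_mul, mul_assoc (A * mat r) Ai, ← mul_assoc Ai (A * mat s), ← mul_assoc Ai A, hAA.2,
      one_mul]
    simp only [mul_assoc]
  have hc1 : cj 1 = 1 := by
    show A * mat 1 * Ai = 1
    rw [map_one, mul_one, hAA.1]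
  have hcp : ∀ r (k : ℕ), cj (r ^ k) = cj r ^ k := by
    intro r k
    induction k with
    | zero => rw [pow_zero, pow_zero, hc1]
    | succ k ih => rw [pow_succ, pow_succ, hcm, ih]
  have hAu : Uni A := u1'.mul (uni_mat g)
  have hAiu : Uni Ai := (uni_mat _).mul u1
  set M := A * mat f * Ai with hMdef
  have hMY : M * ofCode YC = ofCode YC2 * M := by
    rw [YC2, ofCode_powC, ← hAy]
    show cj f * cj y = cj y ^ 2 * cj f
    rw [← hcp, ← hcm, ← hcm, hfy]
  have hsc : ∀ r, IsSc r → ∃ c ∈ scalL, cj r = ofCode c := by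
    intro r hr
    obtain ⟨c, hc, ec⟩ := hr.exists_code
    refine ⟨c, hc, ?_⟩
    show A * mat r * Ai = _
    rw [hr.central A, mul_assoc, hAA.1, mul_one, ec]
  obtain ⟨t2, ht2, et2⟩ := code_F ((hAu.mul (uni_mat f)).mul hAiu) hMY he
    (by rw [← hAx, ← hAy]
        show ∃ c ∈ scalL, (cj x * cj f * cj f * cj y) ^ 3 = _
        rw [← hcm, ← hcm, ← hcm, ← hcp]
        exact hsc _ r1)
    (by rw [← hAx]
        show ∃ c ∈ scalL, (cj x * cj f) ^ 7 = _
        rw [← hcm, ← hcp]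
        exact hsc _ r2)
  have ht2ok := List.all_eq_true.1 ctF_ok t2 ht2
  simp only [Bool.and_eq_true, Nat.beq_eq] at ht2ok
  obtain ⟨⟨⟨hhi, hhX⟩, hhY⟩, hhF⟩ := ht2ok
  obtain ⟨w1, w1', d12, d21⟩ := invB_spec hhi
  obtain ⟨f1, f2, i, s⟩ := t2
  simp only at hhX hhY hhF et2 w1 w1' d12 d21
  let T : U6 → Matrix (Fin 6) (Fin 6) K4 := fun r =>
    ofCode (invC f2) * A * mat r * (Ai * ofCode f2)
  have hTe : ∀ r, T r = ofCode (invC f2) * cj r * ofCode f2 := fun r => by
    show _ = ofCode (invC f2) * (A * mat r * Ai) * ofCode f2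
    simp only [T, mul_assoc]
  have hTm : ∀ r s, T (r * s) = T r * T s := by
    intro r s
    rw [hTe, hTe, hTe, hcm]
    simp only [mul_assoc]
    rw [← mul_assoc (ofCode f2) (ofCode (invC f2)), d12, one_mul]
  have hT1 : T 1 = 1 := by rw [hTe, hc1, mul_one, d21]
  have hfix : ∀ c, mulC f2 c = mulC c f2 → ofCode (invC f2) * ofCode c * ofCode f2 = ofCode c := by
    intro c hc
    rw [mul_assoc, ← ofCode_mulC c f2, ← hc, ofCode_mulC, ← mul_assoc, d21, one_mul]
  have hTx : T x = mat (Xe ^ e) := by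
    rw [hTe, show cj x = ofCode XC ^ e from hAx, map_pow, mat_eq Xe, hXe]
    have hs : SemiconjBy (ofCode f2) (ofCode XC) (ofCode XC) := by
      show _ = _
      rw [← ofCode_mulC, hhX, ofCode_mulC]
    rw [mul_assoc, ← (hs.pow_right e).eq, ← mul_assoc, d21, one_mul]
  have hTy : T y = mat Ye := by
    rw [hTe, show cj y = ofCode YC from hAy, mat_eq Ye, hYe, hfix _ hhY]
  have hTf : T f = mat (Fe * Ye ^ i * Oe ^ s) := by
    rw [hTe, show cj f = M from rfl, ← ofCode_codeM M, ← et2, ← ofCode_mulC, ← ofCode_mulC, hhF,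
      ofCode_mulC, ofCode_mulC, ofCode_powC, ofCode_powC, map_mul, map_mul, map_pow, map_pow,
      mat_eq Fe, mat_eq Ye, mat_eq Oe, hFe, hYe, hOe]
  have hTo : ∀ r, cd r = omC → T r = mat r := by
    intro r hr
    have hsr : IsSc r := ⟨om, by rw [mat_eq, hr, scal_om]⟩
    show ofCode (invC f2) * A * mat r * (Ai * ofCode f2) = _
    rw [hsr.central, mul_assoc (mat r), mul_assoc (ofCode (invC f2)), ← mul_assoc A, hAA.1, one_mul,
      d21, mul_one]
  refine ⟨ofCode (invC f2) * A, Ai * ofCode f2, ?_, ?_, w1'.mul hAu, ?_, ?_⟩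
  · rw [mul_assoc, ← mul_assoc A, hAA.1, one_mul, d21]
  · rw [mul_assoc, ← mul_assoc (ofCode f2), d12, one_mul, hAA.2]
  · intro R hx hy hf ho
    obtain ⟨o, hoR, hoc⟩ := ho
    have hinR : ∀ r ∈ R, ∀ k : ℕ, r ^ k ∈ R := fun r hr k => R.pow_mem hr k
    suffices h : L0 ≤ ({ carrier := {l | ∃ r ∈ R, T r = mat l}
                         one_mem' := ⟨1, R.one_mem, by rw [hT1, map_one]⟩
                         mul_mem' := fun {a b} ⟨r, hr, er⟩ ⟨r', hr', er'⟩ =>
                           ⟨r * r', R.mul_mem hr hr', by rw [hTm, er, er', map_mul]⟩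
                         inv_mem' := fun {a} ⟨r, hr, er⟩ => ⟨r⁻¹, R.inv_mem hr, by
                           have h1 : T r⁻¹ * mat a = 1 := by rw [← er, ← hTm, inv_mul_cancel, hT1]
                           calc T r⁻¹ = T r⁻¹ * (mat a * mat a⁻¹) := by
                                 rw [← map_mul, mul_inv_cancel, map_one, mul_one]
                             _ = mat a⁻¹ := by rw [← mul_assoc, h1, one_mul]⟩ } : Subgroup U6) from
      fun l hl => h hl
    have hTp : ∀ r (k : ℕ), T (r ^ k) = T r ^ k := by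
      intro r k
      induction k with
      | zero => rw [pow_zero, pow_zero, hT1]
      | succ k ih => rw [pow_succ, pow_succ, hTm, ih]
    have hYe5 : Ye ^ 5 = 1 := cd_injective (by rw [cd_pow_eq hYe, hY5, cd_one])
    refine span_le fun c hc => ?_
    simp only [List.mem_cons, List.not_mem_nil, or_false] at hc
    rcases hc with rfl | rfl | rfl
    · refine ⟨Xe, ⟨x ^ e, hinR x hx e, ?_⟩, hXe⟩
      rw [hTp, hTx, ← map_pow, ← pow_mul]
      rcases he with rfl | rfl
      · rw [one_mul, pow_one]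
      · rw [pow_eq_pow_mod _ hX11', show 10 * 10 % 11 = 1 by norm_num, pow_one]
    · exact ⟨Ye, ⟨y, hy, hTy⟩, hYe⟩
    · have ho' : o = Oe := cd_injective (hoc.trans hOe.symm)
      refine ⟨Fe, ⟨f * o ^ (2 * s) * y ^ (4 * i), R.mul_mem (R.mul_mem hf (hinR o hoR _)) (hinR y hy _),
        ?_⟩, hFe⟩
      rw [hTm, hTm, hTp, hTp, hTf, hTy, hTo o hoc, ← map_pow, ← map_pow, ← map_mul, ← map_mul, ho']
      refine congrArg mat ?_
      have hO3 : Oe ^ 3 = 1 := cd_injective (by rw [cd_pow_eq hOe, cd_one]; decide +kernel)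
      rw [mul_assoc (Fe * Ye ^ i), ← pow_add, show s + 2 * s = 3 * s by ring, pow_mul, hO3, one_pow,
        mul_one, mul_assoc, ← pow_add, show i + 4 * i = 5 * i by ring, pow_mul, hYe5, one_pow, mul_one]
  · intro r hr
    rw [← Subgroup.mem_toSubmonoid, Subgroup.closure_toSubmonoid_of_finite] at hr
    induction hr using Submonoid.closure_induction with
    | mem s' hs =>
      rcases hs with (rfl | rfl | rfl) | hs
      · exact ⟨_, L0.pow_mem hXm e, hTx⟩
      · exact ⟨_, hYm, hTy⟩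
      · refine ⟨_, L0.mul_mem (L0.mul_mem hFm (L0.pow_mem hYm i)) (L0.pow_mem ?_ s), hTf⟩
        exact (om_mem_L0).mem hOe
      · exact ⟨s', (om_mem_L0).mem hs, hTo s' hs⟩
    | one => exact ⟨1, L0.one_mem, by rw [map_one]; exact hT1⟩
    | mul a b _ _ iha ihb =>
      obtain ⟨la, hla, ea⟩ := iha
      obtain ⟨lb, hlb, eb⟩ := ihb
      refine ⟨la * lb, L0.mul_mem hla hlb, ?_⟩
      show T (a * b) = _
      rw [hTm, map_mul]
      exact congrArg₂ (· * ·) ea eb

end CfsgLib.Spor.LargeFi.J4
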