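import Cfsg.Agent.Lib.Spor.LargeJ4.NormChk
import Cfsg.Agent.Lib.Spor.LargeJ4.Pin

/-!
The two orbits of the triple cover of `M22` on non-zero isotropic vectors, the outer semilinear
element, and the unitary matrices normalising the cover.
-/

set_option autoImplicit false
set_option maxRecDepth 100000
set_option maxHeartbeats 1000000

namespace CfsgLib.Spor.LargeFi.J4

open CfsgLib.Spor.U62
open Matrix
open scoped Pointwise

/-- the orbit of 693 vectors -/
def Small (v : V6) : Prop := vc v ∈ smallL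

/-- the orbit of 1386 vectors -/
def Big (v : V6) : Prop := vc v ∈ bigL

/-- the first representative -/
def smallV : V6 := vOf smallRoot

/-- the second representative -/
def bigV : V6 := vOf bigRoot

theorem mem_smallL {u : ℕ} : u ∈ smallL ↔ inM smallM u = true := by
  rw [← Nat.eq_of_beq_eq_true small_mask, inM_mask]

theorem mem_bigL {u : ℕ} : u ∈ bigL ↔ inM bigM u = true := by
  rw [← Nat.eq_of_beq_eq_true big_mask, inM_mask]

theorem gens0_in : ∀ c ∈ gens0, In L0 c := gen_in

theorem base_in : ∀ c ∈ omC :: tauT, In L0 c := In.prog baseProg_ok gens0_in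

theorem smallL_closed {l : U6} (hl : l ∈ L0) {v : V6} (hv : Small v) : Small (mat l *ᵥ v) := by
  have hl' : l ∈ Submonoid.closure {x : U6 | cd x ∈ gens0} := by
    rw [← Subgroup.closure_toSubmonoid_of_finite]; exact hl
  clear hl
  induction hl' using Submonoid.closure_induction generalizing v with
  | mem x hx =>
    have e := List.all_eq_true.1 (List.all_eq_true.1 small_closed _ hx) _ hv
    rw [Small, vc_mat]
    exact mem_smallL.2 e
  | one => rwa [map_one, Matrix.one_mulVec]
  | mul a b _ _ ha hb => rw [map_mul, ← Matrix.mulVec_mulVec]; exact ha (hb hv)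

theorem vc_zero : vc (0 : V6) = 0 := by decide +kernel

theorem small_isotropic {v : V6} (h : Small v) : nf v = 0 ∧ v ≠ 0 ∧ ¬ Big v := by
  have e := List.all_eq_true.1 small_iso _ h
  simp only [Bool.and_eq_true, Nat.beq_eq, Bool.not_eq_true', Nat.blt_eq] at e
  refine ⟨(nf_eq_zero_iff v).2 e.1.1.1, fun h0 => ?_, fun hb => ?_⟩
  · rw [h0, vc_zero, Nat.beq_refl] at e
    exact absurd e.1.1.2 (by decide)
  · rw [mem_bigL.1 hb] at e
    exact absurd e.2 (by decide)

theorem big_isotropic {v : V6} (h : Big v) : nf v = 0 ∧ v ≠ 0 := by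
  have e := List.all_eq_true.1 big_iso _ h
  simp only [Bool.and_eq_true, Nat.beq_eq, Bool.not_eq_true', Nat.blt_eq] at e
  refine ⟨(nf_eq_zero_iff v).2 e.1.1, fun h0 => ?_⟩
  rw [h0, vc_zero, Nat.beq_refl] at e
  exact absurd e.1.2 (by decide)

theorem isotropic_cases {v : V6} (h0 : nf v = 0) (h1 : v ≠ 0) : Small v ∨ Big v := by
  have e := List.all_eq_true.1 iso_cover _ (List.mem_range.2 (vc_lt v))
  simp only [Bool.or_eq_true, Bool.not_eq_true'] at e
  rcases e with ((e | e) | e) | e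
  · rw [(nf_eq_zero_iff v).1 h0, Nat.beq_refl] at e; exact absurd e (by decide)
  · exact absurd (vc_injective ((Nat.eq_of_beq_eq_true e).trans vc_zero.symm)) h1
  · exact Or.inl (mem_smallL.2 e)
  · exact Or.inr (mem_bigL.2 e)

theorem orbit_tree {root : ℕ} {tree : List (ℕ × ℕ × ℕ)} {M : ℕ} (hroot : root < 4096)
    (ht : treeB gens0 root tree [] = true) (hm : Nat.beq (mask (root :: tree.map Prod.fst)) M = true)
    {v : V6} (hv : inM M (vc v) = true) : ∃ l ∈ L0, mat l *ᵥ vOf root = v := by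
  have key : ∀ u ∈ root :: tree.map Prod.fst, ∃ l ∈ L0, vc (mat l *ᵥ vOf root) = u := by
    have h1 : ∃ l ∈ L0, vc (mat l *ᵥ vOf root) = root :=
      ⟨1, L0.one_mem, by rw [map_one, Matrix.one_mulVec, vc_vOf hroot]⟩
    intro u hu
    rcases List.mem_cons.1 hu with rfl | hu
    · exact h1
    · obtain ⟨e, he, rfl⟩ := List.mem_map.1 hu
      refine mem_of_treeB (P := fun u => ∃ l ∈ L0, vc (mat l *ᵥ vOf root) = u) h1 ?_ ?_ tree [] ht
        (by simp) e he
      · intro c hc u ⟨l, hl, el⟩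
        obtain ⟨g, hg, eg⟩ := gens0_in c hc
        refine ⟨g * l, L0.mul_mem hg hl, ?_⟩
        rw [map_mul, ← Matrix.mulVec_mulVec, vc_mat, eg, el]
      · intro u ⟨l, hl, el⟩
        refine ⟨l, hl, ?_⟩
        rw [← el, ← cd_one, ← vc_mat, map_one, Matrix.one_mulVec]
  rw [← Nat.eq_of_beq_eq_true hm, inM_mask] at hv
  obtain ⟨l, hl, e⟩ := key _ hv
  exact ⟨l, hl, vc_injective e⟩

theorem smallRoot_lt : smallRoot < 4096 ∧ bigRoot < 4096 ∧ inM smallM smallRoot = true ∧
    inM bigM bigRoot = true := by decide +kernel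

theorem small_smallV : Small smallV := by
  rw [Small, smallV, vc_vOf smallRoot_lt.1]; exact mem_smallL.2 smallRoot_lt.2.2.1

theorem big_bigV : Big bigV := by
  rw [Big, bigV, vc_vOf smallRoot_lt.2.1]; exact mem_bigL.2 smallRoot_lt.2.2.2

theorem small_orbit {v : V6} (h : Small v) : ∃ l ∈ L0, mat l *ᵥ smallV = v :=
  orbit_tree smallRoot_lt.1 small_tree small_tree_mask (mem_smallL.1 h)

theorem big_orbit {v : V6} (h : Big v) : ∃ l ∈ L0, mat l *ᵥ bigV = v :=
  orbit_tree smallRoot_lt.2.1 big_tree big_tree_mask (mem_bigL.1 h)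

/-! ### The outer element -/

theorem tau_sq (v : V6) : sAct tauP (sAct tauP v) = v := by
  have h := tau_gens
  simp only [Bool.and_eq_true, Nat.beq_eq] at h
  rw [← sAct_sMul, h.1.1.1, sAct_one]

theorem sAct_tau (v : V6) : sAct tauP v = ofCode tauC *ᵥ gal v := by
  have h := base_eq tauC true
  simp only [if_true] at h
  rw [sAct, show tauP = 2 * tauC + 1 from rfl, h.1, h.2]
  simp

theorem tau_conj {l : U6} (hl : l ∈ L0) :
    ∃ l' ∈ L0, ∀ v, sAct tauP (mat l *ᵥ sAct tauP v) = mat l' *ᵥ v := by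
  have hl' : l ∈ Submonoid.closure {x : U6 | cd x ∈ gens0} := by
    rw [← Subgroup.closure_toSubmonoid_of_finite]; exact hl
  clear hl
  induction hl' using Submonoid.closure_induction with
  | mem x hx =>
    have h := tau_gens
    simp only [Bool.and_eq_true, beq_iff_eq] at h
    obtain ⟨i, hi, e⟩ : ∃ i < 3, gens0.getD i oneC = cd x := by
      obtain ⟨i, hi, e⟩ := List.getElem_of_mem hx
      exact ⟨i, hi, by rw [List.getD_eq_getElem _ _ hi, e]⟩
    have hlen : i < tauT.length := by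
      have := congrArg List.length h.2
      rw [List.length_map, List.length_map, List.length_range] at this
      omega
    obtain ⟨t, ht, et⟩ := base_in tauT[i] (List.mem_cons_of_mem _ (List.getElem_mem hlen))
    refine ⟨t, ht, fun v => ?_⟩
    have hq := congrArg (fun l : List ℕ => l[i]?) h.2
    simp only [List.getElem?_map, List.getElem?_range hi, List.getElem?_eq_getElem hlen,
      Option.map_some, Option.some.injEq] at hq
    rw [e] at hq
    have hs : ∀ w, sAct (2 * cd x) w = mat x *ᵥ w := fun w => by rw [sAct_two_mul, ← mat_eq]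
    rw [← hs, ← sAct_sMul, ← sAct_sMul, hq, sAct_two_mul, mat_eq t, et]
  | one => exact ⟨1, L0.one_mem, fun v => by rw [map_one, Matrix.one_mulVec, tau_sq, Matrix.one_mulVec]⟩
  | mul a b _ _ ha hb =>
    obtain ⟨a', ha', ea⟩ := ha
    obtain ⟨b', hb', eb⟩ := hb
    refine ⟨a' * b', L0.mul_mem ha' hb', fun v => ?_⟩
    rw [map_mul, map_mul, ← Matrix.mulVec_mulVec, ← Matrix.mulVec_mulVec, ← eb, ← ea, tau_sq]

/-! ### The normaliser -/

theorem Uni.injective {M : Matrix (Fin 6) (Fin 6) K4} (h : Uni M) :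
    Function.Injective (M *ᵥ ·) := by
  intro a b e
  have h0 : ∀ w, M *ᵥ w = 0 → w = 0 := by
    intro w hw
    funext i
    have := h w (Pi.single i 1)
    rw [hw] at this
    simp only [Cfsg.hermForm, Pi.zero_apply, zero_mul, Finset.sum_const_zero] at this
    rw [Finset.sum_eq_single i (fun j _ hj => by simp [hj]) (by simp)] at this
    simpa using this.symm
  exact sub_eq_zero.1 (h0 _ (by rw [Matrix.mulVec_sub]; exact sub_eq_zero.2 e))

theorem not_dvd_card_L0 : ¬ 11 ^ 2 ∣ Nat.card L0 := by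
  intro h
  have := h.trans (Subgroup.card_subgroup_dvd_card L0)
  rw [card_U6_val] at this
  norm_num at this

theorem prodN_in : ∀ c ∈ prodN, In L0 c := by
  intro c hc
  simp only [prodN, List.mem_flatMap, List.mem_map, List.mem_range] at hc
  obtain ⟨a, -, b, -, s, -, rfl⟩ := hc
  have hp : ∀ c ∈ [XC, YC, omC], ∀ n, In L0 (powC c n) := by
    intro c hc n
    have h : In L0 c := by
      simp only [List.mem_cons, List.not_mem_nil, or_false] at hc
      rcases hc with rfl | rfl | rfl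
      exacts [gen_in XC (by simp), gen_in YC (by simp), base_in omC List.mem_cons_self]
    obtain ⟨g, hg, e⟩ := h
    exact ⟨g ^ n, L0.pow_mem hg n, by rw [cd_pow, e]⟩
  exact ((hp XC (by simp) a).mul (hp YC (by simp) b)).mul (hp omC (by simp) s)

theorem normalizer_L0 {M : Matrix (Fin 6) (Fin 6) K4} (hM : Uni M)
    (hn : ∀ l ∈ L0, ∃ l' ∈ L0, M * mat l = mat l' * M) : ∃ l ∈ L0, M = mat l := by
  classical
  choose f hf hfe using fun l : L0 => hn l.1 l.2
  let F : L0 → L0 := fun l => ⟨f l, hf l⟩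
  have hinj : Function.Injective F := by
    intro a b e
    have e' : f a = f b := congrArg Subtype.val e
    refine Subtype.ext (mat_injective (Matrix.ext_of_mulVec_single fun i => hM.injective ?_))
    show M *ᵥ (mat (a : U6) *ᵥ _) = M *ᵥ (mat (b : U6) *ᵥ _)
    rw [Matrix.mulVec_mulVec, Matrix.mulVec_mulVec, hfe a, hfe b, e']
  have hsurj := Finite.injective_iff_surjective.1 hinj
  -- the orbit of 693 is preserved
  have hsmall : ∀ v, Small v → Small (M *ᵥ v) := by
    intro v hv
    obtain ⟨h0, h1, -⟩ := small_isotropic hv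
    have hiso : nf (M *ᵥ v) = 0 ∧ M *ᵥ v ≠ 0 :=
      ⟨(hM v v).trans h0, fun e => h1 (hM.injective (by simpa using e))⟩
    refine (isotropic_cases hiso.1 hiso.2).resolve_right fun hb => ?_
    have hsub : bigL.toFinset ⊆ smallL.toFinset.image fun u => vc (M *ᵥ vOf u) := by
      intro u hu
      rw [List.mem_toFinset] at hu
      have hu' : u < 4096 := by
        have e := List.all_eq_true.1 big_iso u hu
        simp only [Bool.and_eq_true, Nat.blt_eq] at e
        exact e.2
      have hbu : Big (vOf u) := by rw [Big, vc_vOf hu']; exact hu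
      obtain ⟨l1, hl1, e1⟩ := big_orbit hbu
      obtain ⟨l2, hl2, e2⟩ := big_orbit hb
      obtain ⟨l, hl⟩ := hsurj ⟨l1 * l2⁻¹, L0.mul_mem hl1 (L0.inv_mem hl2)⟩
      refine Finset.mem_image.2 ⟨vc (mat (l : U6) *ᵥ v),
        List.mem_toFinset.2 (smallL_closed l.2 hv), ?_⟩
      rw [vOf_vc, Matrix.mulVec_mulVec, hfe l, show f l = l1 * l2⁻¹ from congrArg Subtype.val hl,
        ← Matrix.mulVec_mulVec, ← e2, Matrix.mulVec_mulVec, ← map_mul, inv_mul_cancel_right, e1,
        vc_vOf hu']
    have hl := list_lengths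
    simp only [Bool.and_eq_true, Nat.beq_eq] at hl
    have h2 := Finset.card_le_card hsub
    have h3 := Finset.card_image_le (s := smallL.toFinset) (f := fun u => vc (M *ᵥ vOf u))
    rw [List.toFinset_card_of_nodup (((incrB_spec hl.2).pairwise).imp fun h => ne_of_lt h)] at h2
    have h4 := smallL.toFinset_card_le
    omega
  -- Sylow
  haveI : Fact (Nat.Prime 11) := ⟨by norm_num⟩
  obtain ⟨Xe, hXm, hXe⟩ := gen_in XC (by simp)
  have hXo : orderOf Xe = 11 := by
    have hrel := XY_rel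
    simp only [Bool.and_eq_true, Nat.beq_eq, Bool.not_eq_true'] at hrel
    refine orderOf_eq_prime (cd_injective (by rw [cd_pow, hXe, hrel.1.1.1.2, cd_one])) fun e => ?_
    have h := hrel.1.1.2
    rw [← hXe, e, cd_one, Nat.beq_refl] at h
    exact absurd h (by decide)
  have hY : (F ⟨Xe, hXm⟩) ^ 11 = 1 := by
    have hpow : ∀ n, M * mat (Xe ^ n) = mat ((f ⟨Xe, hXm⟩) ^ n) * M := by
      intro n
      rw [map_pow, map_pow]
      exact (SemiconjBy.pow_right (show SemiconjBy M (mat Xe) (mat (f ⟨Xe, hXm⟩)) from hfe ⟨Xe, hXm⟩) n).eq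
    refine Subtype.ext (mat_injective ?_)
    have h1 : M * 1 = mat ((f ⟨Xe, hXm⟩) ^ 11) * M := by
      rw [← hpow 11, ← hXo, pow_orderOf_eq_one, map_one]
    obtain ⟨g, hg⟩ : ∃ N : Matrix (Fin 6) (Fin 6) K4, M * N = 1 := by
      have hu : IsUnit M := Matrix.mulVec_injective_iff_isUnit.1 hM.injective
      exact ⟨↑hu.unit⁻¹, hu.mul_val_inv⟩
    show mat ((f ⟨Xe, hXm⟩) ^ 11) = mat 1
    calc mat ((f ⟨Xe, hXm⟩) ^ 11) = mat ((f ⟨Xe, hXm⟩) ^ 11) * M * g := by rw [mul_assoc, hg, mul_one]
      _ = mat 1 := by rw [← h1, mul_one, hg, map_one]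
  have hY1 : F ⟨Xe, hXm⟩ ≠ 1 := by
    intro e
    obtain ⟨l', hl'⟩ := hsurj 1
    have h1 : F 1 = 1 := by
      refine Subtype.ext (mat_injective ?_)
      have := hfe 1
      rw [OneMemClass.coe_one, map_one, mul_one] at this
      obtain ⟨g, hg⟩ : ∃ N : Matrix (Fin 6) (Fin 6) K4, M * N = 1 := by
        have hu : IsUnit M := Matrix.mulVec_injective_iff_isUnit.1 hM.injective
        exact ⟨↑hu.unit⁻¹, hu.mul_val_inv⟩
      show mat (f 1) = mat 1
      calc mat (f 1) = mat (f 1) * (M * g) := by rw [hg, mul_one]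
        _ = mat 1 := by rw [← mul_assoc, ← this, hg, map_one]
    have := congrArg Subtype.val (hinj (e.trans h1.symm))
    rw [show Xe = 1 from this, orderOf_one] at hXo
    norm_num at hXo
  obtain ⟨k, hk⟩ : ∃ k : L0, k * F ⟨Xe, hXm⟩ * k⁻¹ ∈ Subgroup.zpowers (⟨Xe, hXm⟩ : L0) := by
    have key : ∀ a : L0, orderOf a = 11 → ∃ P : Sylow 11 L0, (P : Subgroup L0) = Subgroup.zpowers a := by
      intro a ha
      have hc : Nat.card (Subgroup.zpowers a) = 11 := by rw [Nat.card_zpowers, ha]
      obtain ⟨P, hP⟩ := (IsPGroup.of_card (n := 1) (by rw [hc, pow_one])).exists_le_sylow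
      refine ⟨P, (Subgroup.eq_of_le_of_card_ge hP ?_).symm⟩
      obtain ⟨n, hn⟩ := IsPGroup.iff_card.1 P.2
      rw [hc, hn]
      by_contra hlt
      have h2 : 2 ≤ n := by
        by_contra h2
        interval_cases n <;> omega
      exact not_dvd_card_L0 ((pow_dvd_pow 11 h2).trans (hn ▸ Subgroup.card_subgroup_dvd_card _))
    obtain ⟨P, hP⟩ := key _ (orderOf_eq_prime hY hY1)
    obtain ⟨R, hR⟩ := key ⟨Xe, hXm⟩ (by rw [← Subgroup.orderOf_coe]; exact hXo)
    obtain ⟨g, hg⟩ := MulAction.exists_smul_eq L0 P R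
    refine ⟨g, ?_⟩
    rw [← hR, ← hg]
    show g * F ⟨Xe, hXm⟩ * g⁻¹ ∈ (MulAut.conj g • (P : Subgroup L0))
    rw [hP]
    exact ⟨_, Subgroup.mem_zpowers _, rfl⟩
  obtain ⟨j, hj0⟩ := Subgroup.mem_zpowers_iff.1 hk
  obtain ⟨n, hn11, hjn⟩ : ∃ n < 11, (k : U6) * f ⟨Xe, hXm⟩ * (k : U6)⁻¹ = Xe ^ n := by
    have e := congrArg Subtype.val hj0
    rw [SubgroupClass.coe_zpow] at e
    refine ⟨(j % 11).toNat, by omega, ?_⟩
    rw [← zpow_natCast, Int.toNat_of_nonneg (Int.emod_nonneg _ (by norm_num))]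
    refine e.symm.trans ?_
    rw [zpow_eq_zpow_emod' j (show Xe ^ 11 = 1 by rw [← hXo, pow_orderOf_eq_one])]
    norm_num
  set E := mat (k : U6) * M with hE
  have hEu : Uni E := (uni_mat _).mul hM
  have hc : E * ofCode XC = ofCode (powC XC n) * E := by
    rw [← hXe, ← cd_pow, ← mat_eq, ← mat_eq, hE, mul_assoc, hfe ⟨Xe, hXm⟩, ← mul_assoc, ← map_mul,
      ← mul_assoc, ← map_mul]
    refine congrArg (fun z => mat z * M) ?_
    rw [← hjn, inv_mul_cancel_right]
  have hk' := code_of_krylov hc kX_inv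
  set u := vc (E *ᵥ vOf kX) with hu
  have h' := List.all_eq_true.1 (List.all_eq_true.1 candN_ok n (List.mem_range.2 hn11)) u
    (List.mem_range.2 (vc_lt _))
  simp only [Bool.or_eq_true, Bool.not_eq_true'] at h'
  rcases h' with (((h' | h') | h') | h') | h'
  · exfalso
    have hh := hEu (vOf kX) (vOf kX)
    have e : nfC u = nfC kX := nfC_inj (by rw [kOf_nfC, kOf_nfC, hu, vOf_vc, nf, nf, hh])
    rw [e, Nat.beq_refl] at h'
    exact absurd h' (by decide)
  · exfalso
    have hh := hEu (vOf kX) (ofCode XC *ᵥ vOf kX)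
    have e : hC u (mvC (powC XC n) u) = hC kX (mvC XC kX) := hC_inj (by
      rw [kOf_hC, kOf_hC, vOf_mvC, vOf_mvC, hu, vOf_vc,
        Matrix.mulVec_mulVec (vOf kX) (ofCode (powC XC n)) E, ← hc,
        ← Matrix.mulVec_mulVec (vOf kX) E (ofCode XC), hh])
    rw [e, Nat.beq_refl] at h'
    exact absurd h' (by decide)
  · exfalso
    rw [← Bool.not_eq_true, List.all_eq_true] at h'
    refine h' fun p hp => ?_
    have hp' := List.all_eq_true.1 probe_small p hp
    have hlt : p < 4096 := by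
      have e := List.all_eq_true.1 small_iso p (mem_smallL.2 hp')
      simp only [Bool.and_eq_true, Nat.blt_eq] at e
      exact e.1.2
    have hS : Small (vOf p) := by rw [Small, vc_vOf hlt]; exact mem_smallL.2 hp'
    have hS2 := smallL_closed k.2 (hsmall _ hS)
    rw [Small, Matrix.mulVec_mulVec, ← hE, ← ofCode_codeM E, vc_mulVec, vc_vOf hlt, hk'] at hS2
    exact mem_smallL.1 hS2
  · rw [candN, ← hk', hEu.unitB_code] at h'
    exact absurd h' (by decide)
  · obtain ⟨l, hl, el⟩ := prodN_in _ (memV_iff.1 (List.all_eq_true.1 nElevenL_prod _ (memV_iff.1 h')))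
    refine ⟨(k : U6)⁻¹ * l, L0.mul_mem (L0.inv_mem k.2) hl, ?_⟩
    rw [map_mul, mat_eq l, el, candN, ← hk', ofCode_codeM, hE, ← mul_assoc, ← map_mul,
      inv_mul_cancel, map_one, one_mul]

end CfsgLib.Spor.LargeFi.J4
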