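import Mathlib

/-!
Data for the coordinates on the elementary subgroup of order `2^11`.
-/

set_option autoImplicit false
set_option maxRecDepth 100000

namespace CfsgLib.Spor.LargeFi.J4

/-- a basis of the singular space -/
def aWB : List ℕ := [
  110, 183, 287, 549, 1046, 2091]

/-- the vectors with given coordinates -/
def aWV : List ℕ := [
  0, 110, 183, 217, 287, 369, 424, 454, 549, 587, 658, 764, 826, 852, 909, 995, 1046, 1144, 1185,
  1231, 1289, 1383, 1470, 1488, 1587, 1629, 1668, 1770, 1836, 1858, 1947, 2037, 2091, 2117, 2204,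
  2290, 2356, 2394, 2435, 2541, 2574, 2656, 2745, 2775, 2833, 2943, 2982, 3016, 3133, 3155, 3210,
  3300, 3362, 3404, 3477, 3579, 3608, 3702, 3759, 3777, 3847, 3945, 4016, 4062]

/-- the codes of the sixteen elements, indexed by their coordinates -/
def aPE : List ℕ := [
  2361327365419528388610, 53089035144506012306, 53178512548426592618, 2361237895163108148218,
  1132878033109516195266, 3533350145613768714066, 3533260604433612448938, 1132967580336315848250,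
  1694322696487970060874, 4007244761880297883866, 4007083227415185361698, 1694484224906170759602,
  4255623598222279094154, 1850467733576007572762, 1850629331816818974434, 4255461992834235788402]

/-- the permutations of the coordinates by the two normalising elements -/
def aKT : List (List ℕ) := [
  [0, 4, 3, 7, 11, 15, 8, 12, 1, 5, 2, 6, 10, 14, 9, 13],
  [0, 3, 2, 1, 6, 5, 4, 7, 15, 12, 13, 14, 9, 10, 11, 8]]

/-- the transitivity tree on non-zero coordinates -/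
def aPTree : List (ℕ × ℕ × ℕ) := [
  (4, 0, 0), (3, 1, 1), (11, 1, 0), (6, 2, 1), (7, 2, 0), (14, 2, 1), (8, 2, 0), (12, 2, 0),
  (9, 2, 0), (15, 2, 1), (10, 2, 0), (5, 2, 0), (13, 2, 0), (2, 2, 0)]

/-- root of a class of pairs -/
def aPairRoot0 : ℕ := 18

/-- tree of a class of pairs -/
def aPairTree0 : List (ℕ × ℕ × ℕ) := [
  (67, 0, 0), (50, 1, 1), (183, 1, 0), (97, 2, 1), (115, 2, 0), (108, 2, 0), (231, 3, 1),
  (132, 3, 0), (199, 3, 0), (113, 4, 1), (138, 4, 0), (73, 5, 1), (156, 5, 0), (27, 5, 0),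
  (246, 6, 1), (172, 6, 0), (151, 7, 1), (196, 7, 0), (253, 7, 1), (181, 7, 0), (90, 7, 0),
  (201, 8, 1), (70, 8, 0), (62, 9, 1), (216, 9, 0), (42, 9, 0), (217, 10, 1), (92, 10, 0),
  (171, 10, 0), (150, 11, 1), (222, 11, 0), (111, 11, 0), (229, 12, 1), (242, 12, 0), (93, 13, 1),
  (165, 13, 0), (184, 13, 0), (100, 14, 1), (121, 14, 0), (225, 14, 0), (175, 15, 1), (45, 15, 1),
  (250, 14, 0), (89, 15, 1), (38, 15, 0), (88, 15, 0), (233, 15, 0), (141, 15, 0), (72, 16, 1),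
  (159, 16, 0), (211, 16, 0), (130, 17, 1), (254, 17, 0), (47, 17, 0), (213, 18, 1), (239, 18, 1),
  (139, 18, 0), (197, 18, 0), (124, 19, 1), (148, 19, 0), (179, 20, 1), (210, 18, 0), (245, 18, 0),
  (56, 18, 0), (36, 19, 1), (241, 19, 0), (95, 20, 1), (149, 20, 0), (188, 21, 1), (30, 21, 0),
  (177, 21, 0), (200, 21, 1), (161, 21, 1), (19, 21, 0), (61, 20, 0), (40, 21, 1), (157, 20, 0),
  (22, 20, 0), (202, 19, 0), (91, 19, 0), (198, 20, 1), (103, 20, 0), (227, 20, 0), (162, 21, 1),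
  (223, 21, 0), (133, 22, 1), (31, 22, 1), (59, 22, 0), (212, 22, 0), (131, 23, 1), (106, 21, 0),
  (71, 17, 0), (49, 18, 1), (126, 18, 0), (26, 19, 1), (94, 18, 0), (52, 18, 1), (168, 16, 0),
  (140, 16, 0), (35, 15, 0), (237, 15, 0), (77, 14, 0), (118, 14, 0), (235, 14, 0), (166, 15, 1),
  (23, 15, 0), (116, 13, 0), (123, 13, 1), (66, 13, 0), (249, 13, 0), (33, 12, 0), (55, 11, 0),
  (158, 11, 0), (186, 12, 1), (190, 12, 0), (76, 9, 0), (203, 9, 0), (98, 8, 1), (105, 3, 0)]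

/-- root of a class of pairs -/
def aPairRoot1 : ℕ := 20

/-- tree of a class of pairs -/
def aPairTree1 : List (ℕ × ℕ × ℕ) := [
  (75, 0, 0), (54, 1, 1), (182, 1, 0), (110, 2, 1), (120, 2, 0), (104, 2, 0), (228, 3, 1),
  (137, 3, 0), (193, 3, 0), (127, 4, 1), (129, 4, 0), (79, 5, 1), (155, 5, 0), (21, 5, 0),
  (252, 6, 1), (164, 6, 0), (147, 7, 1), (205, 7, 0), (243, 7, 1), (189, 7, 0), (86, 7, 0),
  (206, 8, 1), (53, 8, 1), (218, 8, 0), (43, 8, 0), (214, 9, 1), (87, 9, 0), (174, 9, 0),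
  (154, 10, 1), (215, 10, 0), (234, 10, 1), (248, 10, 0), (84, 11, 1), (169, 11, 0), (226, 10, 0),
  (173, 11, 1), (46, 11, 1), (232, 11, 0), (41, 10, 0), (219, 11, 1), (82, 11, 0), (236, 11, 0),
  (167, 12, 1), (146, 12, 0), (209, 12, 0), (143, 13, 1), (251, 13, 0), (37, 13, 0), (220, 14, 1),
  (178, 14, 1), (57, 13, 0), (145, 13, 0), (191, 14, 1), (44, 14, 1), (230, 14, 0), (185, 13, 1),
  (83, 12, 0), (194, 13, 1), (163, 13, 1), (29, 13, 0), (142, 13, 1), (63, 13, 0), (99, 12, 0),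
  (117, 12, 0), (28, 13, 1), (195, 13, 1), (109, 13, 0), (58, 13, 0), (152, 13, 0), (180, 14, 1),
  (101, 14, 0), (247, 14, 0), (81, 15, 1), (39, 14, 0), (78, 14, 0), (25, 14, 0), (125, 14, 0),
  (24, 15, 1), (135, 15, 0), (65, 16, 1), (207, 16, 0), (74, 16, 0), (114, 14, 0), (107, 13, 0),
  (69, 13, 1), (244, 12, 0), (60, 12, 0), (122, 10, 1), (134, 4, 0)]

/-- root of the third orbit in the first coset -/
def aCosRoot2 : ℕ := 130

/-- orbit tree in the first coset -/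
def aCosT0 : List (ℕ × ℕ × ℕ) := [
  (234, 0, 1), (180, 1, 2), (161, 2, 3), (193, 3, 4), (222, 4, 6), (139, 5, 7), (149, 6, 8),
  (202, 6, 3), (170, 7, 4), (225, 8, 7), (254, 9, 8), (244, 9, 4), (190, 10, 7), (159, 9, 6),
  (212, 10, 8)]

/-- orbit tree in the first coset -/
def aCosT1 : List (ℕ × ℕ × ℕ) := [
  (235, 0, 1), (181, 1, 2), (160, 2, 3), (192, 3, 4), (223, 4, 6), (138, 5, 7), (148, 6, 8),
  (203, 6, 3), (171, 7, 4), (224, 8, 7), (255, 9, 8), (245, 9, 4), (191, 10, 7), (158, 9, 6),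
  (213, 10, 8)]

/-- orbit tree in the first coset -/
def aCosT2 : List (ℕ × ℕ × ℕ) := [
  (132, 0, 0), (233, 1, 1), (182, 2, 2), (162, 3, 3), (194, 4, 4), (183, 5, 5), (220, 6, 6),
  (137, 7, 7), (150, 8, 8), (151, 9, 10), (163, 10, 11), (195, 11, 12), (134, 11, 0), (239, 12, 1),
  (177, 13, 2), (165, 14, 3), (196, 15, 4), (219, 16, 6), (142, 17, 7), (145, 18, 8), (143, 19, 9),
  (197, 20, 12), (221, 20, 2), (200, 21, 3), (168, 22, 4), (226, 23, 7), (252, 24, 8),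
  (253, 25, 10), (201, 26, 11), (169, 27, 12), (218, 27, 0), (247, 28, 4), (131, 29, 5),
  (232, 30, 6), (188, 31, 7), (246, 32, 12), (227, 32, 4), (228, 32, 0), (156, 33, 6), (214, 34, 8),
  (215, 35, 10), (189, 35, 7), (238, 35, 0), (157, 36, 12), (154, 35, 0), (155, 35, 0),
  (229, 34, 0), (236, 34, 1), (179, 35, 2), (166, 36, 3), (199, 37, 4), (178, 38, 5), (217, 39, 6),
  (140, 40, 7), (146, 41, 8), (141, 42, 9), (147, 43, 10), (167, 44, 11), (207, 44, 3),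
  (174, 45, 4), (176, 46, 6), (251, 47, 8), (175, 48, 12), (144, 48, 3), (240, 49, 4), (186, 50, 7),
  (164, 51, 8), (187, 52, 9), (241, 53, 12), (230, 52, 0), (206, 53, 7), (209, 54, 8),
  (133, 55, 12), (237, 55, 0), (208, 56, 7), (153, 55, 0), (231, 54, 0), (136, 53, 4), (250, 47, 3),
  (205, 31, 3), (172, 32, 4), (216, 33, 5), (249, 34, 8), (248, 35, 10), (204, 36, 11),
  (243, 36, 4), (135, 37, 5), (184, 38, 7), (185, 39, 9), (173, 39, 9), (242, 39, 5), (152, 40, 6),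
  (211, 41, 8), (210, 42, 10), (198, 27, 0)]

/-- representatives of translations -/
def aV16 : List (List ℕ) := [
  [],
  [0, 1, 2, 3, 4, 5, 6, 7, 8, 9, 10, 11, 12, 13, 14, 15],
  [0, 1, 2, 3, 4, 5, 6, 7, 8, 9, 10, 11, 12, 13, 14, 15],
  [0, 1, 2, 3, 4, 5, 6, 7, 8, 9, 10, 11, 12, 13, 14, 15],
  [0, 1, 2, 3, 16, 17, 18, 19, 32, 33, 34, 35, 48, 49, 50, 51],
  [0, 1, 2, 3, 4, 5, 6, 7, 8, 9, 10, 11, 12, 13, 14, 15],
  [0, 1, 2, 3, 4, 5, 6, 7, 8, 9, 10, 11, 12, 13, 14, 15],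
  [0, 1, 2, 3, 4, 5, 6, 7, 8, 9, 10, 11, 12, 13, 14, 15],
  [0, 1, 2, 3, 4, 5, 6, 7, 8, 9, 10, 11, 12, 13, 14, 15],
  [0, 1, 2, 3, 4, 5, 6, 7, 8, 9, 10, 11, 12, 13, 14, 15],
  [0, 1, 2, 3, 16, 17, 18, 19, 32, 33, 34, 35, 48, 49, 50, 51],
  [0, 1, 2, 3, 4, 5, 6, 7, 8, 9, 10, 11, 12, 13, 14, 15],
  [0, 1, 2, 3, 4, 5, 6, 7, 8, 9, 10, 11, 12, 13, 14, 15],
  [0, 1, 2, 3, 4, 5, 6, 7, 8, 9, 10, 11, 12, 13, 14, 15],
  [0, 1, 2, 3, 16, 17, 18, 19, 32, 33, 34, 35, 48, 49, 50, 51],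
  [0, 1, 2, 3, 4, 5, 6, 7, 8, 9, 10, 11, 12, 13, 14, 15]]

/-- vectors changing the central bit -/
def aFlip : List ℕ := [
  1, 2]

/-- the coordinate vectors of the points -/
def aQG : List ℕ := [
  0, 2, 4, 391, 263, 7, 1082, 519, 1759, 294, 1670, 554, 1031, 1140, 408, 1096, 592, 396, 358, 326,
  636, 1775, 1719, 402]

end CfsgLib.Spor.LargeFi.J4
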