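import Cfsg.Agent.Lib.Spor.LargeJ4.ElemType

/-!
The elementary abelian subgroup of order `2^11` of a group of fourth Janko type: it is self-centralising
and its normaliser controls its fusion.
-/

set_option autoImplicit false
set_option maxRecDepth 100000
set_option maxHeartbeats 1000000

namespace CfsgLib.Spor.LargeFi.J4

open CfsgLib.Spor.U62 CfsgLib.ThreeTransp

/-- only the distinguished codes fix the singular space pointwise -/
theorem fixL_stab_check : (sylL.all fun p => memV elemL p ||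
    fixL.any fun u => !Nat.beq (sActC p u) u) = true := by decide +kernel

theorem polB_self (u : V6) : polB u u = 0 := by
  rw [polB, v6_two, show nf (0 : V6) = 0 by simp [nf, Cfsg.hermForm], zero_add]
  exact k_two _

namespace Model

variable {H : Type*} [Group H] [Finite H] {Q : Subgroup H} [Q.Normal] {z : H} (D : Model Q z)

theorem exists_sylow_std : ∃ P : Sylow 2 H, (P : Subgroup H) = D.std := by
  haveI : Fact (Nat.Prime 2) := ⟨Nat.prime_two⟩
  have hfac : (Nat.card H).factorization 2 = 21 := by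
    rw [D.card_H, Nat.factorization_mul (by norm_num) (by norm_num), Finsupp.add_apply,
      Nat.factorization_eq_zero_of_not_dvd (by norm_num : ¬ (2 : ℕ) ∣ 10395), add_zero]
    rw [Nat.prime_two.factorization_pow, Finsupp.single_eq_same]
  exact ⟨Sylow.ofCard D.std (by rw [hfac, D.card_std]), rfl⟩

theorem std_norm_bigA {s a : H} (hs : s ∈ D.std) (ha : a ∈ D.bigA) : s * a * s⁻¹ ∈ D.bigA := by
  have hel : Cfsg.IsElementaryAbelian 2 (D.bigA.map (MulAut.conj s).toMonoidHom) := by
    obtain ⟨⟨hcomm⟩, hexp⟩ := D.bigA_elementary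
    refine ⟨⟨⟨fun x y => Subtype.ext ?_⟩⟩, fun x hx => ?_⟩
    · obtain ⟨x', hx', ex⟩ := Subgroup.mem_map.1 x.2
      obtain ⟨y', hy', ey⟩ := Subgroup.mem_map.1 y.2
      show (x : H) * y = y * x
      rw [← ex, ← ey, ← map_mul, ← map_mul]
      exact congrArg _ (congrArg Subtype.val (hcomm.comm ⟨x', hx'⟩ ⟨y', hy'⟩))
    · obtain ⟨x', hx', ex⟩ := Subgroup.mem_map.1 hx
      rw [← ex, ← map_pow, hexp x' hx', map_one]
  have heq := D.eq_bigA _ hel (fun x hx => by
      obtain ⟨x', hx', ex⟩ := Subgroup.mem_map.1 hx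
      rw [← ex]
      exact D.std.mul_mem (D.std.mul_mem hs (D.bigA_le_std hx')) (D.std.inv_mem hs))
    (by rw [Subgroup.card_map_of_injective (MulAut.conj s).injective, D.card_bigA])
  rw [← heq]
  exact ⟨a, ha, rfl⟩

/-- elements centralising the subgroup over the fixed space square into `Q` -/
theorem cent_fixU_sq {h : H} (hc : h ∈ Subgroup.centralizer (D.fixU : Set H)) :
    h * h ∈ Q ∧ ∀ v, vc v ∈ fixL → D.act h v = v := by
  have hfix : ∀ v, vc v ∈ fixL → D.act h v = v := by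
    intro v hv
    obtain ⟨a, rfl⟩ := D.vec_surj v
    have ha : (a : H) ∈ D.fixU := ⟨a.2, hv⟩
    rw [← D.vec_conj]
    congr 1
    exact Subtype.ext (by
      rw [MulAut.conjNormal_apply]
      exact mul_inv_eq_iff_eq_mul.2 (Subgroup.mem_centralizer_iff.1 hc _ ha).symm)
  refine ⟨(D.ker_act _).1 (AddMonoidHom.ext fun v => ?_), hfix⟩
  show D.act (h * h) v = v
  have hpol : ∀ u w, polB (D.act h u) (D.act h w) = polB u w := by
    intro u w
    rw [polB, polB, ← map_add, D.act_nf, D.act_nf, D.act_nf]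
  have hd : vc (D.act h v + v) ∈ fixL := by
    refine fixL_perp _ fun w hw => ?_
    have e : polB (D.act h v + v) w = 0 := by
      rw [polB_add_left]
      conv_lhs => arg 1; arg 2; rw [← hfix w hw]
      rw [hpol]; exact k_two _
    rw [polB] at e
    have e2 := congrArg (fun t => t + (nf (D.act h v + v) + nf w)) e
    simp only [zero_add] at e2
    rw [← e2]
    calc nf (D.act h v + v + w) = nf (D.act h v + v + w) +
          (nf (D.act h v + v) + nf (D.act h v + v)) + (nf w + nf w) := by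
          rw [k_two, k_two, add_zero, add_zero]
      _ = _ := by abel
  have e := hfix _ hd
  rw [map_add, ← D.act_mul_apply, add_comm (D.act h v) v] at e
  exact add_right_cancel e

/-- the standard group normalises the subgroup over the fixed space -/
theorem std_norm_fixU {s a : H} (hs : s ∈ D.std) (ha : a ∈ D.fixU) : s * a * s⁻¹ ∈ D.fixU := by
  rw [← D.bigA_inf] at ha ⊢
  exact ⟨D.std_norm_bigA hs ha.1, (inferInstance : Q.Normal).conj_mem _ ha.2 s⟩

/-- the centraliser of the subgroup over the fixed space is the big subgroup -/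
theorem cent_fixU_eq : Subgroup.centralizer (D.fixU : Set H) = D.bigA := by
  refine le_antisymm (fun c hc => ?_) fun a ha => ha.2
  haveI : Fact (Nat.Prime 2) := ⟨Nat.prime_two⟩
  obtain ⟨P, hP⟩ := D.exists_sylow_std
  have hQ2 : IsPGroup 2 Q := IsPGroup.of_card D.card_Q
  have hC : IsPGroup 2 (Subgroup.centralizer (D.fixU : Set H)) := by
    intro x
    obtain ⟨k, hk⟩ := hQ2 ⟨(x : H) * x, (D.cent_fixU_sq x.2).1⟩
    refine ⟨k + 1, Subtype.ext ?_⟩
    have hk' := congrArg Subtype.val hk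
    simp only [SubmonoidClass.coe_pow, OneMemClass.coe_one] at hk' ⊢
    rw [pow_succ', pow_mul, pow_two]
    exact hk'
  have hnorm : D.std ≤ Subgroup.normalizer (Subgroup.centralizer (D.fixU : Set H) : Set H) := by
    intro s hs
    rw [Subgroup.mem_normalizer_iff]
    have key : ∀ s ∈ D.std, ∀ x, x ∈ Subgroup.centralizer (D.fixU : Set H) →
        s * x * s⁻¹ ∈ Subgroup.centralizer (D.fixU : Set H) := by
      intro s hs x hx
      refine Subgroup.mem_centralizer_iff.2 fun a ha => ?_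
      have h1 := Subgroup.mem_centralizer_iff.1 hx (s⁻¹ * a * s)
        (by simpa using D.std_norm_fixU (inv_mem hs) ha)
      calc a * (s * x * s⁻¹) = s * (s⁻¹ * a * s * x) * s⁻¹ := by simp [mul_assoc]
        _ = s * x * s⁻¹ * a := by rw [h1]; simp [mul_assoc]
    refine fun x => ⟨key s hs x, fun hx => ?_⟩
    simpa [mul_assoc] using key s⁻¹ (inv_mem hs) _ hx
  have hsup : IsPGroup 2 ↥(Subgroup.centralizer (D.fixU : Set H) ⊔ D.std) :=
    IsPGroup.to_sup_of_normal_left' hC (hP ▸ P.2) hnorm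
  have hle : c ∈ D.std := by
    have he := P.3 hsup (hP ▸ le_sup_right)
    rw [← hP, ← he]
    exact Subgroup.mem_sup_left hc
  obtain ⟨p, hp, e⟩ := hle
  have hpe : p ∈ elemL := by
    have h := fixL_stab_check
    simp only [List.all_eq_true, Bool.or_eq_true, memV_iff, List.any_eq_true, Bool.not_eq_true'] at h
    refine (h p hp).resolve_right fun ⟨u, hu, hne⟩ => ?_
    have e1 := (D.cent_fixU_sq hc).2 (vOf u) (by rw [vc_vOf (fixL_facts.2 u hu).1]; exact hu)
    rw [e] at e1
    have e2 := congrArg vc e1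
    rw [vc_sAct, vc_vOf (fixL_facts.2 u hu).1] at e2
    simp [e2] at hne
  exact ⟨⟨p, hpe, e⟩, hc⟩

/-- the big subgroup is self-centralising -/
theorem cent_bigA : Subgroup.centralizer (D.bigA : Set H) = D.bigA := by
  refine le_antisymm (fun c hc => ?_) fun a ha => Subgroup.mem_centralizer_iff.2 fun b hb =>
    congrArg Subtype.val (D.bigA_elementary.1.is_comm.comm (⟨b, hb⟩ : D.bigA) ⟨a, ha⟩)
  rw [← D.cent_fixU_eq]
  refine Subgroup.mem_centralizer_iff.2 fun u hu => Subgroup.mem_centralizer_iff.1 hc u ?_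
  have : u ∈ D.bigA ⊓ Q := by rw [D.bigA_inf]; exact hu
  exact this.1

end Model

variable {G : Type*} [Group G] [Finite G] {z : G}

/-- Burnside: an abelian subgroup which is the only one of its conjugates in any Sylow subgroup has
a normaliser controlling its fusion. -/
theorem fusion_of_closed {p : ℕ} [Fact p.Prime] {A : Subgroup G} (hA : IsPGroup p A)
    (hcomm : ∀ a ∈ A, ∀ b ∈ A, a * b = b * a)
    (hclosed : ∀ (S : Sylow p G) (x y : G), A.map (MulAut.conj x).toMonoidHom ≤ S →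
      A.map (MulAut.conj y).toMonoidHom ≤ S →
        A.map (MulAut.conj x).toMonoidHom = A.map (MulAut.conj y).toMonoidHom)
    {a : G} (ha : a ∈ A) {g : G} (hga : g * a * g⁻¹ ∈ A) :
    ∃ m ∈ Subgroup.normalizer (A : Set G), m * a * m⁻¹ = g * a * g⁻¹ := by
  let C : Subgroup G := Subgroup.centralizer ({a} : Set G)
  have hA1 : A ≤ C := fun b hb => Subgroup.mem_centralizer_singleton_iff.2 (hcomm b hb a ha)
  have hA2 : A.map (MulAut.conj g⁻¹).toMonoidHom ≤ C := by
    rintro _ ⟨b, hb, rfl⟩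
    refine Subgroup.mem_centralizer_singleton_iff.2 ?_
    show g⁻¹ * b * g⁻¹⁻¹ * a = a * (g⁻¹ * b * g⁻¹⁻¹)
    have := hcomm b hb _ hga
    calc g⁻¹ * b * g⁻¹⁻¹ * a = g⁻¹ * (b * (g * a * g⁻¹)) * g := by simp [mul_assoc]
      _ = a * (g⁻¹ * b * g⁻¹⁻¹) := by rw [this]; simp [mul_assoc]
  have hp2 : IsPGroup p (A.map (MulAut.conj g⁻¹).toMonoidHom) := hA.map _
  obtain ⟨S1, hS1⟩ := (hA.comap_subtype (K := C)).exists_le_sylow
  obtain ⟨S2, hS2⟩ := (hp2.comap_subtype (K := C)).exists_le_sylow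
  obtain ⟨c, hc⟩ := MulAction.exists_smul_eq C S2 S1
  obtain ⟨T, hT⟩ := (S1.2.map C.subtype).exists_le_sylow
  have h1 : A.map (MulAut.conj (1 : G)).toMonoidHom ≤ T := by
    rintro _ ⟨b, hb, rfl⟩
    refine hT ⟨⟨b, hA1 hb⟩, hS1 hb, ?_⟩
    simp
  have h2 : A.map (MulAut.conj ((c : G) * g⁻¹)).toMonoidHom ≤ T := by
    rintro _ ⟨b, hb, rfl⟩
    let y : C := ⟨g⁻¹ * b * g⁻¹⁻¹, hA2 ⟨b, hb, rfl⟩⟩
    have hy : c * y * c⁻¹ ∈ (S1 : Subgroup C) := by
      rw [← hc]
      exact ⟨y, hS2 (show (y : G) ∈ A.map (MulAut.conj g⁻¹).toMonoidHom from ⟨b, hb, rfl⟩), rfl⟩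
    refine hT ⟨_, hy, ?_⟩
    show (c : G) * (g⁻¹ * b * g⁻¹⁻¹) * (c : G)⁻¹ = (c : G) * g⁻¹ * b * ((c : G) * g⁻¹)⁻¹
    simp [mul_assoc]
  have heq := hclosed T _ _ h1 h2
  have hone : A.map (MulAut.conj (1 : G)).toMonoidHom = A := by
    rw [show (MulAut.conj (1 : G)).toMonoidHom = MonoidHom.id G by ext; simp, Subgroup.map_id]
  rw [hone] at heq
  have hn : ((c : G) * g⁻¹) ∈ Subgroup.normalizer (A : Set G) := by
    rw [Subgroup.mem_normalizer_iff]
    intro b
    refine ⟨fun hb => ?_, fun hb => ?_⟩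
    · exact heq.symm.le ⟨b, hb, rfl⟩
    · obtain ⟨b', hb', e⟩ := heq.le hb
      rwa [← (MulAut.conj ((c : G) * g⁻¹)).injective (show MulAut.conj ((c : G) * g⁻¹) b' =
        MulAut.conj ((c : G) * g⁻¹) b from e)]
  refine ⟨((c : G) * g⁻¹)⁻¹, inv_mem hn, ?_⟩
  have hca : (c : G)⁻¹ * a * c = a := by
    rw [mul_assoc, ← Subgroup.mem_centralizer_singleton_iff.1 c.2, inv_mul_cancel_left]
  calc ((c : G) * g⁻¹)⁻¹ * a * ((c : G) * g⁻¹)⁻¹⁻¹ = g * ((c : G)⁻¹ * a * c) * g⁻¹ := by
        simp [mul_assoc]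
    _ = _ := by rw [hca]

/-- an elementary abelian subgroup of largest order in a Sylow 2-subgroup is unique -/
theorem unique_big (D : Model (coreH z) (zH z)) (T : Sylow 2 G) {A B : Subgroup G}
    (hA : Cfsg.IsElementaryAbelian 2 A) (hB : Cfsg.IsElementaryAbelian 2 B) (hAT : A ≤ T) (hBT : B ≤ T)
    (hAc : 2 ^ 11 ≤ Nat.card A) (hBc : 2 ^ 11 ≤ Nat.card B) : A = B := by
  haveI : Fact (Nat.Prime 2) := ⟨Nat.prime_two⟩
  obtain ⟨S, hS⟩ := exists_sylow_stdG D
  obtain ⟨g, hg⟩ := MulAction.exists_smul_eq G S T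
  let c := MulAut.conj g
  have hT : (T : Subgroup G) = (stdG D).map c.toMonoidHom := by rw [← hg, ← hS]; rfl
  have key : ∀ V : Subgroup G, Cfsg.IsElementaryAbelian 2 V → V ≤ T → 2 ^ 11 ≤ Nat.card V →
      V = (bigG D).map c.toMonoidHom := by
    intro V hel hV hc
    have h := eq_bigG D (B := V.map c.symm.toMonoidHom) (elementary_map _ hel) (fun x hx => by
        obtain ⟨v, hv, rfl⟩ := hx
        obtain ⟨s, hs, e⟩ := (hT ▸ hV hv : v ∈ (stdG D).map c.toMonoidHom)
        rw [← e]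
        show c.symm (c s) ∈ stdG D
        rwa [MulEquiv.symm_apply_apply])
      (by rwa [Subgroup.card_map_of_injective c.symm.injective])
    rw [← h, Subgroup.map_map, show c.toMonoidHom.comp c.symm.toMonoidHom = MonoidHom.id _ from
      MonoidHom.ext fun y => c.apply_symm_apply y, Subgroup.map_id]
  rw [key A hA hAT hAc, key B hB hBT hBc]

/-- the centraliser of the distinguished subgroup in the whole group -/
theorem cent_bigG (D : Model (coreH z) (zH z)) :
    Subgroup.centralizer (bigG D : Set G) = bigG D := by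
  refine le_antisymm (fun c hc => ?_) fun a ha => Subgroup.mem_centralizer_iff.2 fun b hb =>
    congrArg Subtype.val ((elementary_bigG D).1.is_comm.comm (⟨b, hb⟩ : bigG D) ⟨a, ha⟩)
  have hz' : zH z ∈ D.bigA := by
    have : zH z ∈ D.bigA ⊓ coreH z := by
      rw [D.bigA_inf]
      exact ⟨D.xc.mem, by rw [(D.vec_eq_zero _).2 (Or.inr rfl), vc_zero']; exact fixL_facts.1⟩
    exact this.1
  have hcH : c ∈ Subgroup.centralizer ({z} : Set G) :=
    Subgroup.mem_centralizer_singleton_iff.2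
      (Subgroup.mem_centralizer_iff.1 hc z ⟨zH z, hz', rfl⟩).symm
  refine ⟨⟨c, hcH⟩, ?_, rfl⟩
  show (⟨c, hcH⟩ : Subgroup.centralizer ({z} : Set G)) ∈ D.bigA
  rw [← D.cent_bigA]
  exact Subgroup.mem_centralizer_iff.2 fun b hb =>
    Subtype.ext (Subgroup.mem_centralizer_iff.1 hc _ ⟨b, hb, rfl⟩)

/-- the normaliser of the distinguished subgroup controls its fusion -/
theorem fusion_bigG (D : Model (coreH z) (zH z)) {a : G} (ha : a ∈ bigG D) {g : G}
    (hga : g * a * g⁻¹ ∈ bigG D) :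
    ∃ m ∈ Subgroup.normalizer (bigG D : Set G), m * a * m⁻¹ = g * a * g⁻¹ := by
  haveI : Fact (Nat.Prime 2) := ⟨Nat.prime_two⟩
  have hel := elementary_bigG D
  refine fusion_of_closed (IsPGroup.of_card (card_bigG D))
    (fun u hu v hv => congrArg Subtype.val (hel.1.is_comm.comm (⟨u, hu⟩ : bigG D) ⟨v, hv⟩))
    (fun S u w hu hw => ?_) ha hga
  have hb : ∀ u : G, 2 ^ 11 ≤ Nat.card ((bigG D).map (MulAut.conj u).toMonoidHom) := fun u => by
    rw [Subgroup.card_map_of_injective (MulAut.conj u).injective, card_bigG D]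
  exact unique_big D S (elementary_map _ hel) (elementary_map _ hel) hu hw (hb u) (hb w)

end CfsgLib.Spor.LargeFi.J4
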