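import Mathlib

/-!
Counting Sylow subgroups of an irreducible prime order in a group of automorphisms of an elementary
abelian group, and the arithmetic excluding two orbit lengths.
-/

set_option autoImplicit false
set_option maxRecDepth 100000
set_option maxHeartbeats 1000000

namespace CfsgLib.Spor.LargeFi.J4

/-- An element of irreducible prime order in a group of automorphisms: the order of its centraliser, the
index of the centraliser in the normaliser, and the number of Sylow subgroups. -/
theorem sylow_count {X W : Type*} [Group X] [Finite X] [Group W] [Finite W] (φ : X →* MulAut W)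
    (hφ : Function.Injective φ) {r f : ℕ} [hr : Fact r.Prime] (hW : Nat.card W = 2 ^ f) (hr2 : r ≠ 2)
    (hirr : ∀ k < f, 0 < k → ¬ r ∣ 2 ^ k - 1) (hrX : r ∣ Nat.card X) (hr2X : ¬ r ^ 2 ∣ Nat.card X) :
    ∃ c e n : ℕ, c ∣ 2 ^ f - 1 ∧ r ∣ c ∧ e ∣ r - 1 ∧ n * (c * e) = Nat.card X ∧ n % r = 1 := by
  classical
  obtain ⟨y, hy⟩ := exists_prime_orderOf_dvd_card' (G := X) r hrX
  let P : Subgroup X := Subgroup.zpowers y
  have hPc : Nat.card P = r := by rw [Nat.card_zpowers, hy]
  have hPp : IsPGroup r P := IsPGroup.of_card (n := 1) (by rw [hPc, pow_one])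
  have hfac : (Nat.card X).factorization r = 1 := by
    have h1 : 1 ≤ (Nat.card X).factorization r :=
      (hr.out.pow_dvd_iff_le_factorization Nat.card_pos.ne').1 (by rwa [pow_one])
    by_contra h
    exact hr2X ((hr.out.pow_dvd_iff_le_factorization Nat.card_pos.ne').2 (by omega))
  let S : Sylow r X := Sylow.ofCard P (by rw [hfac, hPc, pow_one])
  -- an invariant subgroup is trivial or the whole group
  have hinv : ∀ F : Subgroup W, (∀ w ∈ F, φ y w ∈ F) → (∀ w ∈ F, φ y w = w → w = 1) →
      F = ⊥ ∨ F = ⊤ := by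
    intro F hF hfix
    have hFk : ∀ p ∈ P, ∀ w ∈ F, φ p w ∈ F := by
      intro p hp w hw
      obtain ⟨j, rfl⟩ : ∃ j : ℕ, y ^ j = p := Submonoid.mem_powers_iff _ _ |>.1 (mem_powers_iff_mem_zpowers.2 hp)
      induction j generalizing w with
      | zero => simpa using hw
      | succ j ih =>
        rw [pow_succ, map_mul]
        exact ih _ (hF w hw) (pow_mem (Subgroup.mem_zpowers y) j)
    letI : MulAction P F :=
      { smul := fun p w => ⟨φ p w, hFk p p.2 w w.2⟩
        one_smul := fun w => Subtype.ext (by show φ (1 : X) (w : W) = w; simp)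
        mul_smul := fun p q w => Subtype.ext (by
          show φ ((p : X) * q) (w : W) = φ (p : X) (φ (q : X) (w : W))
          simp) }
    have hmod := hPp.card_modEq_card_fixedPoints F
    have hone : Nat.card (MulAction.fixedPoints P F) = 1 := by
      rw [Nat.card_eq_one_iff_unique]
      refine ⟨⟨fun a b => ?_⟩, ⟨⟨1, fun p => Subtype.ext (map_one (φ (p : X)))⟩⟩⟩
      have h : ∀ a : MulAction.fixedPoints P F, (a : F) = 1 := fun a =>
        Subtype.ext (hfix _ (a : F).2 (congrArg Subtype.val (a.2 ⟨y, Subgroup.mem_zpowers y⟩)))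
      exact Subtype.ext ((h a).trans (h b).symm)
    rw [hone] at hmod
    obtain ⟨k, hk, ek⟩ := (Nat.dvd_prime_pow Nat.prime_two).1 (hW ▸ Subgroup.card_subgroup_dvd_card F)
    rw [ek] at hmod
    have hd : r ∣ 2 ^ k - 1 := (Nat.modEq_iff_dvd' Nat.one_le_two_pow).1 hmod.symm
    rcases Nat.eq_zero_or_pos k with rfl | hk0
    · exact Or.inl (Subgroup.card_eq_one.1 (by rw [ek, pow_zero]))
    · refine Or.inr (Subgroup.eq_top_of_card_eq F ?_)
      rcases Nat.lt_or_ge k f with hlt | hge
      · exact absurd hd (hirr k hlt hk0)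
      · rw [ek, hW, Nat.le_antisymm hk hge]
  -- the element fixes only the identity
  have hy1 : ∀ w, φ y w = w → w = 1 := by
    intro w hw
    let F : Subgroup W :=
      { carrier := {u | φ y u = u}
        one_mem' := map_one _
        mul_mem' := fun {a b} (ha : φ y a = a) (hb : φ y b = b) => by
          show φ y (a * b) = a * b
          rw [map_mul, ha, hb]
        inv_mem' := fun {a} (ha : φ y a = a) => by
          show φ y a⁻¹ = a⁻¹
          rw [map_inv, ha] }
    letI : MulAction P W :=
      { smul := fun p u => φ p u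
        one_smul := fun u => by show φ (1 : X) u = u; simp
        mul_smul := fun p q u => by
          show φ ((p : X) * q) u = φ (p : X) (φ (q : X) u)
          simp }
    have hmod := hPp.card_modEq_card_fixedPoints W
    have hfixF : Nat.card (MulAction.fixedPoints P W) = Nat.card F := by
      refine Nat.card_congr (Equiv.subtypeEquivRight fun u => ⟨fun h => h ⟨y, Subgroup.mem_zpowers y⟩,
        fun h p => ?_⟩)
      obtain ⟨j, hj⟩ := mem_powers_iff_mem_zpowers.2 p.2
      show φ (p : X) u = u
      rw [← hj]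
      clear hj
      induction j with
      | zero => simp
      | succ j ih =>
        show φ (y ^ (j + 1)) u = u
        rw [pow_succ, map_mul]
        show φ (y ^ j) (φ y u) = u
        rw [show φ y u = u from h]
        exact ih
    obtain ⟨k, hk, ek⟩ := (Nat.dvd_prime_pow Nat.prime_two).1 (hW ▸ Subgroup.card_subgroup_dvd_card F)
    rw [hfixF, ek, hW] at hmod
    have hd : r ∣ 2 ^ f - 2 ^ k := (Nat.modEq_iff_dvd' (Nat.pow_le_pow_right (by norm_num) hk)).1 hmod.symm
    rw [show 2 ^ f - 2 ^ k = 2 ^ k * (2 ^ (f - k) - 1) by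
      rw [Nat.mul_sub, ← pow_add, Nat.add_sub_cancel' hk, mul_one]] at hd
    rcases hr.out.dvd_mul.1 hd with h | h
    · exact absurd ((Nat.prime_dvd_prime_iff_eq hr.out Nat.prime_two).1 (hr.out.dvd_of_dvd_pow h)) hr2
    · rcases Nat.eq_zero_or_pos k with rfl | hk0
      · have hbot : F = ⊥ := Subgroup.card_eq_one.1 (by rw [ek, pow_zero])
        have hwF : w ∈ F := hw
        rwa [hbot, Subgroup.mem_bot] at hwF
      · exfalso
        rcases Nat.eq_zero_or_pos (f - k) with h0 | h0
        · have htop : F = ⊤ := Subgroup.eq_top_of_card_eq F (by rw [ek, hW, show k = f by omega])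
          have : φ y = 1 := MulEquiv.ext fun u => (htop.ge (Subgroup.mem_top u) :)
          have h1 : y = 1 := hφ (this.trans (map_one φ).symm)
          rw [h1, orderOf_one] at hy
          exact hr.out.ne_one hy.symm
        · exact hirr _ (by omega) h0 h
  -- the centraliser is semiregular
  let C : Subgroup X := Subgroup.centralizer (P : Set X)
  have hfree : ∀ c ∈ C, ∀ u : W, u ≠ 1 → φ c u = u → c = 1 := by
    intro c hc u hu hcu
    let F : Subgroup W :=
      { carrier := {w | φ c w = w}
        one_mem' := map_one _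
        mul_mem' := fun {a b} (ha : φ c a = a) (hb : φ c b = b) => by
          show φ c (a * b) = a * b
          rw [map_mul, ha, hb]
        inv_mem' := fun {a} (ha : φ c a = a) => by
          show φ c a⁻¹ = a⁻¹
          rw [map_inv, ha] }
    have hcy : y * c = c * y := Subgroup.mem_centralizer_iff.1 hc y (Subgroup.mem_zpowers y)
    rcases hinv F (fun w (hw : φ c w = w) => by
      show φ c (φ y w) = φ y w
      have h := congrArg (fun t => φ t w) hcy
      simp only [map_mul, MulAut.mul_apply] at h
      rw [← h, hw]) (fun w _ h => hy1 w h) with h | h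
    · exact absurd (h.le hcu : u ∈ (⊥ : Subgroup W)) (by simpa using hu)
    · exact hφ ((MulEquiv.ext fun w => (h.ge (Subgroup.mem_top w) :) : φ c = 1).trans (map_one φ).symm)
  have hCdvd : Nat.card C ∣ 2 ^ f - 1 := by
    letI : MulAction C {w : W // w ≠ 1} :=
      { smul := fun c w => ⟨φ c w, fun h => w.2 ((φ (c : X)).map_eq_one_iff.1 h)⟩
        one_smul := fun w => Subtype.ext (by show φ (1 : X) (w : W) = w; simp)
        mul_smul := fun c d w => Subtype.ext (by
          show φ ((c : X) * d) (w : W) = φ (c : X) (φ (d : X) (w : W))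
          simp) }
    have h := Nat.card_congr (MulAction.selfEquivOrbitsQuotientProd (G := C) (X := {w : W // w ≠ 1})
      fun w => (Subgroup.eq_bot_iff_forall _).2 fun c hc =>
        Subtype.ext (hfree c c.2 _ w.2 (congrArg Subtype.val hc)))
    rw [Nat.card_prod] at h
    have hS : Nat.card {w : W // w ≠ 1} = 2 ^ f - 1 := by
      haveI : Fintype W := Fintype.ofFinite W
      rw [Nat.card_eq_fintype_card, Fintype.card_subtype_compl, Fintype.card_subtype_eq,
        ← Nat.card_eq_fintype_card, hW]
    exact ⟨_, by rw [← hS, h, mul_comm]⟩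
  have hPC : P ≤ C := by
    rw [Subgroup.le_centralizer_iff]
    intro a ha
    refine Subgroup.mem_centralizer_iff.2 fun b hb => ?_
    obtain ⟨i, rfl⟩ := Subgroup.mem_zpowers_iff.1 ha
    obtain ⟨j, rfl⟩ := Subgroup.mem_zpowers_iff.1 hb
    exact ((Commute.refl y).zpow_zpow j i).eq
  have hrC : r ∣ Nat.card C := hPc ▸ Subgroup.card_dvd_of_le hPC
  let N : Subgroup X := Subgroup.normalizer (P : Set X)
  have hCN : C ≤ N := Subgroup.centralizer_le_normalizer _
  have hsplit : Nat.card C * Nat.card P.normalizerMonoidHom.range = Nat.card N := by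
    rw [← Subgroup.card_mul_index P.normalizerMonoidHom.ker, Subgroup.index_ker,
      P.normalizerMonoidHom_ker, Nat.card_congr (Subgroup.subgroupOfEquivOfLe hCN).toEquiv]
  have he : Nat.card P.normalizerMonoidHom.range ∣ r - 1 := by
    haveI : IsCyclic P := by infer_instance
    have h := Subgroup.card_subgroup_dvd_card P.normalizerMonoidHom.range
    rwa [IsCyclic.card_mulAut, hPc, Nat.totient_prime hr.out] at h
  refine ⟨_, _, Nat.card (Sylow r X), hCdvd, hrC, he, ?_, ?_⟩
  · rw [hsplit, Sylow.card_eq_index_normalizer S, mul_comm]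
    exact Subgroup.card_mul_index _
  · have h := card_sylow_modEq_one r X
    rwa [Nat.ModEq, Nat.mod_eq_of_lt hr.out.one_lt] at h

/-- the multiples of 45 dividing 10395 -/
def oddParts : List ℕ := [45, 135, 315, 495, 945, 1485, 3465, 10395]

theorem oddParts_cover {d : ℕ} (hd : d ∣ 10395) (h45 : 45 ∣ d) : d ∈ oddParts := by
  have h : ((Nat.divisors 10395).filter fun d => 45 ∣ d) = oddParts.toFinset := by decide +kernel
  rw [← List.mem_toFinset, ← h, Finset.mem_filter, Nat.mem_divisors]
  exact ⟨⟨hd, by norm_num⟩, h45⟩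

theorem arith_127 : (oddParts.all fun d => [1, 2, 3, 6, 7, 9, 14, 18, 21, 42, 63, 126].all fun e =>
    !(Nat.beq ((1024 * d) % e) 0) || !Nat.beq ((1024 * d / e) % 127) 1) = true := by decide +kernel

theorem arith_89 : (oddParts.all fun d => [1, 2, 4, 8, 11, 22, 44, 88].all fun e => [1, 23].all fun c =>
    !(Nat.beq ((c * 1024 * d) % e) 0) || !Nat.beq ((c * 1024 * d / e) % 89) 1) = true := by decide +kernel

theorem not_127 {d c e n : ℕ} (hd : d ∈ oddParts) (hc : c ∣ 2 ^ 7 - 1) (hrc : 127 ∣ c)
    (he : e ∣ 127 - 1) (hn : n * (c * e) = 127 * (1024 * d)) (hn1 : n % 127 = 1) : False := by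
  obtain rfl : c = 127 := Nat.dvd_antisymm (by simpa using hc) hrc
  have hmem : e ∈ [1, 2, 3, 6, 7, 9, 14, 18, 21, 42, 63, 126] := by
    have h : ∀ e ∈ Nat.divisors 126, e ∈ [1, 2, 3, 6, 7, 9, 14, 18, 21, 42, 63, 126] := by decide +kernel
    exact h e (Nat.mem_divisors.2 ⟨he, by norm_num⟩)
  have h := List.all_eq_true.1 (List.all_eq_true.1 arith_127 d hd) e hmem
  have he0 : 0 < e := Nat.pos_of_ne_zero fun h0 => by rw [h0] at hmem; simp at hmem
  have heq : n * e = 1024 * d := Nat.eq_of_mul_eq_mul_left (by norm_num : 0 < 127)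
    (by rw [← hn]; ring)
  rw [← heq, Nat.mul_mod_left, Nat.mul_div_cancel _ he0, hn1] at h
  simp at h

theorem not_2047 {d c e n : ℕ} (hd : d ∈ oddParts) (hc : c ∣ 2 ^ 11 - 1) (hrc : 89 ∣ c)
    (he : e ∣ 89 - 1) (hn : n * (c * e) = 2047 * (1024 * d)) (hn1 : n % 89 = 1) : False := by
  have hcc : c = 89 ∨ c = 2047 := by
    have h : ∀ c ∈ Nat.divisors 2047, 89 ∣ c → c = 89 ∨ c = 2047 := by decide +kernel
    exact h c (Nat.mem_divisors.2 ⟨by simpa using hc, by norm_num⟩) hrc
  have hmem : e ∈ [1, 2, 4, 8, 11, 22, 44, 88] := by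
    have h : ∀ e ∈ Nat.divisors 88, e ∈ [1, 2, 4, 8, 11, 22, 44, 88] := by decide +kernel
    exact h e (Nat.mem_divisors.2 ⟨he, by norm_num⟩)
  have h := List.all_eq_true.1 (List.all_eq_true.1 arith_89 d hd) e hmem
  have he0 : 0 < e := Nat.pos_of_ne_zero fun h0 => by rw [h0] at hmem; simp at hmem
  simp only [List.all_cons, List.all_nil, Bool.and_true, Bool.and_eq_true] at h
  rcases hcc with rfl | rfl
  · have heq : n * e = 23 * 1024 * d := Nat.eq_of_mul_eq_mul_left (by norm_num : 0 < 89)
      (by linarith)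
    rw [← heq, Nat.mul_mod_left, Nat.mul_div_cancel _ he0, hn1] at h
    simp at h
  · have heq : n * e = 1 * 1024 * d := Nat.eq_of_mul_eq_mul_left (by norm_num : 0 < 2047)
      (by linarith)
    rw [← heq, Nat.mul_mod_left, Nat.mul_div_cancel _ he0, hn1] at h
    simp at h

end CfsgLib.Spor.LargeFi.J4
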