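import Cfsg.Agent.Lib.Spor.LargeJ4.Elem

/-!
Conjugacy in the centraliser of the singular elements of the extraspecial subgroup.
-/

set_option autoImplicit false
set_option maxRecDepth 100000
set_option maxHeartbeats 1000000

namespace CfsgLib.Spor.LargeFi.J4

open CfsgLib.Spor.U62 CfsgLib.ThreeTransp
open Matrix

namespace Model

variable {H : Type*} [Group H] [Finite H] {Q : Subgroup H} [Q.Normal] {z : H} (D : Model Q z)

omit [Finite H] in
theorem moves {a : Q} (h0 : D.vec a ≠ 0) : ∃ p ∈ Q, p * (a : H) * p⁻¹ = z * a := by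
  by_contra hno
  push Not at hno
  refine h0 ((D.vec_eq_zero a).2 (D.xc.center a a.2 fun p hp => ?_))
  exact mul_inv_eq_iff_eq_mul.1 ((D.xc.commEl p hp a a.2).resolve_right (hno p hp))

omit [Finite H] in
/-- Elements with the same non-zero vector are conjugate. -/
theorem conj_of_vec {a b : Q} (h : D.vec a = D.vec b) (h0 : D.vec a ≠ 0) :
    ∃ p ∈ Q, p * (a : H) * p⁻¹ = b := by
  rcases D.vec_eq h with e | e
  · exact ⟨1, one_mem _, by rw [e, one_mul, inv_one, mul_one]⟩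
  · obtain ⟨p, hp, e'⟩ := D.moves h0
    exact ⟨p, hp, e'.trans e.symm⟩

omit [Finite H] in
theorem conj_of_act {h : H} {a b : Q} (e : D.act h (D.vec a) = D.vec b) (h0 : D.vec b ≠ 0) :
    ∃ k : H, k * (a : H) * k⁻¹ = b := by
  have hm : h * (a : H) * h⁻¹ ∈ Q := (inferInstance : Q.Normal).conj_mem _ a.2 h
  have hv : D.vec ⟨_, hm⟩ = D.vec b := (D.vec_conj' h a hm).trans e
  obtain ⟨p, hp, e'⟩ := D.conj_of_vec hv (hv ▸ h0)
  refine ⟨p * h, ?_⟩
  rw [← e', _root_.mul_inv_rev]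
  simp [mul_assoc]

omit [Finite H] in
theorem conj_of_root {v0 : V6} {a b : Q} (hb0 : D.vec b ≠ 0)
    (ha : ∃ l ∈ L0, mat l *ᵥ v0 = D.vec a) (hb : ∃ l ∈ L0, mat l *ᵥ v0 = D.vec b) :
    ∃ k : H, k * (a : H) * k⁻¹ = b := by
  obtain ⟨la, hla, ea⟩ := ha
  obtain ⟨lb, hlb, eb⟩ := hb
  obtain ⟨ga, -, hga⟩ := D.L0_lift la hla
  obtain ⟨gb, -, hgb⟩ := D.L0_lift lb hlb
  refine D.conj_of_act (h := gb * ga⁻¹) ?_ hb0
  rw [D.act_mul_apply, ← ea, ← hga, D.act_inv_apply, hgb, eb]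

omit [Finite H] in
theorem conj_of_small {a b : Q} (ha : Small (D.vec a)) (hb : Small (D.vec b)) :
    ∃ k : H, k * (a : H) * k⁻¹ = b :=
  D.conj_of_root (small_isotropic hb).2.1 (small_orbit ha) (small_orbit hb)

omit [Finite H] in
theorem conj_of_big {a b : Q} (ha : Big (D.vec a)) (hb : Big (D.vec b)) :
    ∃ k : H, k * (a : H) * k⁻¹ = b :=
  D.conj_of_root (big_isotropic hb).2 (big_orbit ha) (big_orbit hb)

omit [Finite H] in
theorem invol_vec {a : Q} (h1 : (a : H) * a = 1) (hne1 : (a : H) ≠ 1) (hnez : (a : H) ≠ z) :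
    Small (D.vec a) ∨ Big (D.vec a) := by
  refine isotropic_cases ((D.vec_sq a).1 h1) fun e => ?_
  rcases (D.vec_eq_zero a).1 e with e' | e'
  exacts [hne1 e', hnez e']

end Model

end CfsgLib.Spor.LargeFi.J4
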