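import Cfsg.Agent.Lib.Spor.LargeJ4.AActs
import Cfsg.Agent.Lib.Spor.JankoFourCentral.Setting

/-!
The distinguished elementary subgroup of a group of fourth Janko type, with a complement in its
normaliser, in the interface with coordinates in the even cocode.
-/

set_option autoImplicit false
set_option maxRecDepth 100000

namespace CfsgLib.Spor.LargeFi.J4

open Cfsg CfsgLib.Spor CfsgLib.ThreeTransp

universe u

variable {G : Type u} [Group G] [Finite G] {z : G}

/-- A complement of the distinguished subgroup in its normaliser gives the interface. -/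
theorem exists_eleven_of_complement {D : Model (coreH z) (zH z)} (hE : Model.ABase.Fused z)
    (B : D.ABase) (hN : B.Normed) {K : Subgroup G} (hinf : K ⊓ bigG D = ⊥)
    (hsup : K ⊔ bigG D = Subgroup.normalizer (bigG D : Set G)) :
    ∃ (A : Type u) (_ : AddCommGroup A) (E : JankoFourCentral.Eleven z A),
      E.V = bigG D ∧ E.K = K := by
  classical
  obtain ⟨C, hC⟩ := B.exists_coord hE hN
  have hKle : K ≤ Subgroup.normalizer (bigG D : Set G) := le_sup_left.trans hsup.le
  let act : K → Additive ↥B.A0 → Additive ↥B.A0 := fun k v =>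
    Additive.ofMul ⟨(k : G) * ((Additive.toMul v : ↥B.A0) : G) * (k : G)⁻¹,
      (Subgroup.mem_normalizer_iff.1 (hKle k.2) _).1 (Additive.toMul v).2⟩
  have hext : ∀ {u v : Additive ↥B.A0},
      ((Additive.toMul u : ↥B.A0) : G) = ((Additive.toMul v : ↥B.A0) : G) → u = v :=
    fun h => Additive.toMul.injective (Subtype.ext h)
  have hmul : ∀ (g k : K) v, act (g * k) v = act g (act k v) := fun g k v => hext (by
    show (g : G) * k * _ * ((g : G) * k)⁻¹ = _
    simp [act, mul_assoc])
  have hone : ∀ v, act 1 v = v := fun v => hext (by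
    show (1 : G) * _ * (1 : G)⁻¹ = _
    simp)
  have hzero : ∀ k : K, act k 0 = 0 := fun k => hext (by
    show (k : G) * 1 * (k : G)⁻¹ = 1
    rw [mul_one, mul_inv_cancel])
  have hActs : DuadM24.Acts C act := by
    refine ⟨fun k u v => hext ?_, hmul, hone, fun k h => ?_, fun k v hv => ?_, ?_⟩
    · show (k : G) * (((Additive.toMul u : ↥B.A0) : G) * ((Additive.toMul v : ↥B.A0) : G)) *
        (k : G)⁻¹ = _
      simp [act, mul_assoc]
    · have hc : (k : G) ∈ K ⊓ bigG D := by
        refine ⟨k.2, ?_⟩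
        rw [← cent_bigG D]
        refine Subgroup.mem_centralizer_iff.2 fun a ha => ?_
        have := congrArg (fun v => ((Additive.toMul v : ↥B.A0) : G)) (h (Additive.ofMul ⟨a, ha⟩))
        exact (mul_inv_eq_iff_eq_mul.1 this).symm
      rw [hinf, Subgroup.mem_bot] at hc
      exact Subtype.ext hc
    · rw [hC] at hv ⊢
      refine ⟨fun e => hv.1 ?_, fun h => hv.2 ?_⟩
      · have := congrArg (act k⁻¹) e
        rwa [← hmul, inv_mul_cancel, hone, hzero] at this
      · exact h.trans (isConj_iff.2 ⟨(k : G), rfl⟩).symm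
    · have h2 := B.card_M0_ge hE
      have h3 : Nat.card B.M0 ≤ Nat.card K * 2 ^ 11 := by
        rw [← card_bigG D, ← Nat.card_prod]
        refine Nat.card_le_card_of_surjective (fun p : K × bigG D =>
          (⟨(p.1 : G) * p.2, B.M0.mul_mem (hKle p.1.2) (B.A0_le_M0 p.2.2)⟩ : B.M0)) fun m => ?_
        have hm : (m : G) ∈ ((K ⊔ bigG D : Subgroup G) : Set G) := by rw [hsup]; exact m.2
        rw [Subgroup.coe_mul_of_left_le_normalizer_right K (bigG D) hKle] at hm
        obtain ⟨a, ha, b, hb, e⟩ := Set.mem_mul.1 hm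
        exact ⟨(⟨a, ha⟩, ⟨b, hb⟩), Subtype.ext e⟩
      have h4 := Nat.le_of_mul_le_mul_right (h2.trans h3) (by norm_num)
      omega
  obtain ⟨iso⟩ := hActs.iso
  refine ⟨Additive ↥B.A0, inferInstance, {
    V := bigG D
    K := K
    ι := fun v => ((Additive.toMul v : ↥B.A0) : G)
    ι_add := fun _ _ => rfl
    ι_inj := fun _ _ h => hext h
    mem_V := fun g => ⟨fun h => ⟨Additive.ofMul ⟨g, h⟩, rfl⟩, fun ⟨a, e⟩ => e ▸ (Additive.toMul a).2⟩
    elem := elementary_bigG D
    card := card_bigG D
    unique := fun T B' C' hB hC' hBe hBc hCe hCc => unique_big D T hBe hCe hB hC' hBc.ge hCc.ge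
    selfCent := (cent_bigG D).le
    inf := hinf
    sup := hsup
    cardK := Nat.card_congr iso.toEquiv
    C := C
    duad := fun a ha => ⟨fun h => ((hC a).1 h).2, fun h => (hC a).2 ⟨ha, h⟩⟩ }, rfl, rfl⟩

end CfsgLib.Spor.LargeFi.J4
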