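import Cfsg.Agent.Lib.Spor.LargeFi.RealCheck

/-!
A coded matrix is determined by the images of a cyclic vector under a matrix commuting with it, and
coded unitary conjugations.
-/

set_option autoImplicit false
set_option maxRecDepth 100000
set_option maxHeartbeats 400000

namespace CfsgLib.Spor.LargeFi.J4

open CfsgLib.Spor.U62
open Matrix

/-- the code of the matrix with given columns -/
def colsC (f : ℕ → ℕ) : ℕ := build fun i j => entV (f j) i

theorem ofCode_colsC (f : ℕ → ℕ) (i j : Fin 6) : ofCode (colsC f) i j = vOf (f j) i := by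
  show kOf (ent (colsC f) i j) = _
  rw [colsC, ent_build (fun _ _ => entV_lt _ _) i.2 j.2]
  rfl

theorem code_of_cols {M : Matrix (Fin 6) (Fin 6) K4} {f f' : ℕ → ℕ} {ki : ℕ}
    (hi : Nat.beq (mulC (colsC f) ki) oneC = true)
    (hf : ∀ j : Fin 6, M *ᵥ vOf (f j) = vOf (f' j)) : codeM M = mulC (colsC f') ki := by
  have e : M * ofCode (colsC f) = ofCode (colsC f') := by
    refine Matrix.ext fun i j => ?_
    rw [ofCode_colsC, ← hf j, Matrix.mul_apply]
    show _ = ∑ k, M i k * vOf (f j) k
    refine Finset.sum_congr rfl fun k _ => ?_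
    rw [ofCode_colsC]
  calc codeM M = codeM (M * (ofCode (colsC f) * ofCode ki)) := by
        rw [← ofCode_mulC, Nat.eq_of_beq_eq_true hi, ofCode_oneC', mul_one]
    _ = codeM (ofCode (mulC (colsC f') ki)) := by rw [← mul_assoc, e, ← ofCode_mulC]
    _ = _ := codeM_ofCode_mulC _ _

/-- iterated images of a vector -/
def iterV (m u : ℕ) : ℕ → ℕ
  | 0 => u
  | n + 1 => mvC m (iterV m u n)

theorem vOf_iterV (m u : ℕ) : ∀ n, vOf (iterV m u n) = (ofCode m) ^ n *ᵥ vOf u
  | 0 => by rw [pow_zero, Matrix.one_mulVec]; rfl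
  | n + 1 => by rw [iterV, vOf_mvC, vOf_iterV m u n, pow_succ', Matrix.mulVec_mulVec]

theorem ofCode_powC (c n : ℕ) : ofCode (powC c n) = ofCode c ^ n := by
  induction n with
  | zero => simpa only [pow_zero, powC] using ofCode_oneC'
  | succ n ih => simp only [powC, ofCode_mulC, ih, pow_succ]

theorem code_of_krylov {M : Matrix (Fin 6) (Fin 6) K4} {a b v ki : ℕ}
    (hc : M * ofCode a = ofCode b * M) (hi : Nat.beq (mulC (colsC (iterV a v)) ki) oneC = true) :
    codeM M = mulC (colsC (iterV b (vc (M *ᵥ vOf v)))) ki := by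
  refine code_of_cols hi fun j => ?_
  have hp := SemiconjBy.pow_right (show SemiconjBy M (ofCode a) (ofCode b) from hc) (j : ℕ)
  rw [vOf_iterV, vOf_iterV, vOf_vc, Matrix.mulVec_mulVec, Matrix.mulVec_mulVec, hp.eq]

/-- the hermitian form on codes -/
def hC (u w : ℕ) : ℕ := dot6 (fun k => entV u k) fun k => sqN (entV w k)

theorem kOf_hC (u w : ℕ) : kOf (hC u w) = Cfsg.hermForm 6 K4 2 (vOf u) (vOf w) := by
  have hs : ∀ x < 4, kOf (sqN x) = kOf x ^ 2 := by decide +kernel
  rw [hC, kOf_dot6 (fun k => entV_lt _ _) fun k => sqN_lt _, Cfsg.hermForm]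
  refine Finset.sum_congr rfl fun i _ => ?_
  rw [hs _ (entV_lt _ _)]
  rfl

/-- unitarity -/
def Uni (M : Matrix (Fin 6) (Fin 6) K4) : Prop :=
  ∀ u v, Cfsg.hermForm 6 K4 2 (M *ᵥ u) (M *ᵥ v) = Cfsg.hermForm 6 K4 2 u v

theorem Uni.mul {A B : Matrix (Fin 6) (Fin 6) K4} (ha : Uni A) (hb : Uni B) : Uni (A * B) := by
  intro u v
  rw [← Matrix.mulVec_mulVec, ← Matrix.mulVec_mulVec, ha, hb]

theorem uni_mat (g : U6) : Uni (mat g) := g.2

theorem uni_of_unit {c : ℕ} (h : unitB c = true) : Uni (ofCode c) := fun u v => by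
  rw [hermForm_mulVec, unitB_spec h, Matrix.one_mulVec]
  exact Finset.sum_congr rfl fun i _ => by rw [pow_two]

theorem Uni.unitB_code {M : Matrix (Fin 6) (Fin 6) K4} (h : Uni M) : unitB (codeM M) = true := by
  have hq : ∀ i j : Fin 6, dot6 (fun k => ent (codeM M) k i) (fun k => sqN (ent (codeM M) k j)) =
      if i = j then 1 else 0 := by
    intro i j
    have hs : ∀ x < 4, kOf (sqN x) = kOf x * kOf x := by decide +kernel
    refine kOf_inj _ (dot6_lt _ _) _ (by split <;> norm_num) ?_
    rw [kOf_dot6 (fun k => ent_lt _ _ _) fun k => sqN_lt _]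
    have e := h (Pi.single i 1) (Pi.single j 1)
    rw [show kOf (if i = j then 1 else 0) = if i = j then (1 : K4) else 0 by
      split <;> decide +kernel]
    have e1 : Cfsg.hermForm 6 K4 2 (Pi.single i 1) (Pi.single j 1) = if i = j then (1 : K4) else 0 := by
      rw [Cfsg.hermForm, Finset.sum_eq_single i (fun b _ hb => by simp [hb]) (by simp)]
      rcases eq_or_ne i j with rfl | hne
      · simp
      · simp [hne]
    rw [← e1, ← e]
    refine Finset.sum_congr rfl fun k _ => ?_
    rw [hs _ (ent_lt _ _ _), Matrix.mulVec_single_one, Matrix.mulVec_single_one,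
      show kOf (ent (codeM M) k i) = M k i from congrFun (congrFun (ofCode_codeM M) k) i,
      show kOf (ent (codeM M) k j) = M k j from congrFun (congrFun (ofCode_codeM M) k) j, pow_two]
    rfl
  simp only [unitB, allB, List.all_eq_true, List.mem_range, Nat.beq_eq]
  intro i hi j hj
  have := hq ⟨i, hi⟩ ⟨j, hj⟩
  simp only [Fin.mk.injEq] at this
  simpa [Nat.beq_eq] using this

/-- the inverse code of a unitary code -/
def invC (c : ℕ) : ℕ := build fun i j => sqN (ent c j i)

/-- a unitary code with unitary inverse code -/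
def invB (c : ℕ) : Bool :=
  unitB c && unitB (invC c) && Nat.beq (mulC c (invC c)) oneC && Nat.beq (mulC (invC c) c) oneC

theorem invB_spec {c : ℕ} (h : invB c = true) :
    Uni (ofCode c) ∧ Uni (ofCode (invC c)) ∧ ofCode c * ofCode (invC c) = 1 ∧
      ofCode (invC c) * ofCode c = 1 := by
  simp only [invB, Bool.and_eq_true, Nat.beq_eq] at h
  exact ⟨uni_of_unit h.1.1.1, uni_of_unit h.1.1.2,
    by rw [← ofCode_mulC, h.1.2, ofCode_oneC'], by rw [← ofCode_mulC, h.2, ofCode_oneC']⟩

end CfsgLib.Spor.LargeFi.J4
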