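import Cfsg.Agent.Lib.Spor.LargeFi.QuadQuot
import Cfsg.Agent.Lib.Spor.LargeJ4.M22Facts
import Cfsg.Agent.Lib.Spor.LargeJ4.Norm

/-!
The centraliser of fourth Janko type: coordinates in which the image of the subgroup of index two
is the standard triple cover of `M22` and some outer element is the standard semilinear one.
-/

set_option autoImplicit false
set_option maxRecDepth 100000
set_option maxHeartbeats 1000000

namespace CfsgLib.Spor.LargeFi.J4

open CfsgLib.Spor.U62 CfsgLib.ThreeTransp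
open Matrix
open scoped Pointwise

variable {H : Type*} [Group H] [Finite H]

/-- coordinates for a centraliser of fourth Janko type -/
structure Model (Q : Subgroup H) [Q.Normal] (z : H) where
  /-- the projection to the space -/
  vec : Q → V6
  /-- the action -/
  act : H →* AddMonoid.End V6
  /-- the subgroup of index two -/
  M : Subgroup H
  xc : XCent Q z
  zc : ∀ h : H, h * z = z * h
  vec_mul : ∀ a b : Q, vec (a * b) = vec a + vec b
  vec_surj : Function.Surjective vec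
  vec_eq_zero : ∀ a : Q, vec a = 0 ↔ (a : H) = 1 ∨ (a : H) = z
  vec_sq : ∀ a : Q, (a : H) * a = 1 ↔ nf (vec a) = 0
  vec_comm : ∀ a b : Q, (a : H) * b = b * a ↔ (Cfsg.hermForm 6 K4 2 (vec a) (vec b)).im = 0
  vec_conj : ∀ (h : H) (a : Q), vec (MulAut.conjNormal h a) = act h (vec a)
  ker_act : ∀ h, act h = 1 ↔ h ∈ Q
  act_nf : ∀ h v, nf (act h v) = nf v
  Q_le : Q ≤ M
  M_index : M.index = 2
  M_lin : ∀ h ∈ M, ∃ g ∈ L0, ∀ v, act h v = mat g *ᵥ v
  L0_lift : ∀ g ∈ L0, ∃ h ∈ M, ∀ v, act h v = mat g *ᵥ v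
  outer : ∃ h, h ∉ M ∧ ∀ v, act h v = sAct tauP v
  card_Q : Nat.card Q = 2 ^ 13
  card_H : Nat.card H = 2 ^ 21 * 10395

theorem nf_gal (v : V6) : nf (gal v) = nf v := by
  have key : ∀ x y : ZMod 2, (⟨x, y⟩ : K4) ^ 2 * ((⟨x, y⟩ : K4) ^ 2) ^ 2 =
      (⟨x, y⟩ : K4) * (⟨x, y⟩ : K4) ^ 2 := by decide +kernel
  unfold nf Cfsg.hermForm gal
  exact Finset.sum_congr rfl fun i _ => key (v i).re (v i).im

theorem nf_tau (v : V6) : nf (sAct tauP v) = nf v := by
  have h := tau_gens
  simp only [Bool.and_eq_true] at h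
  rw [sAct_tau, nf_of_unit h.1.1.2, nf_gal]

theorem gal_smul (c : K4) (v : V6) : gal (c • v) = (c ^ 2) • gal v :=
  funext fun _ => mul_pow _ _ _

theorem gal_add (u v : V6) : gal (u + v) = gal u + gal v :=
  funext fun i => CharTwo.add_sq (u i) (v i)

theorem om_cube : om ^ 3 = (1 : K4) := by decide +kernel

theorem omC_mat : ofCode omC = om • (1 : Matrix (Fin 6) (Fin 6) K4) := by decide +kernel

theorem sAct_tau_smul (v : V6) : sAct tauP (om • v) = (om ^ 2) • sAct tauP v := by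
  rw [sAct_tau, sAct_tau, gal_smul, Matrix.mulVec_smul]

theorem sAct_tau_add (u v : V6) : sAct tauP (u + v) = sAct tauP u + sAct tauP v := by
  rw [sAct_tau, sAct_tau, sAct_tau, gal_add, Matrix.mulVec_add]

theorem mem_SU_of_GU {n : ℕ} {F : Type*} [Field F] {q : ℕ} (A : Cfsg.GU n F q)
    (h : Matrix.det (A.1 : Matrix (Fin n) (Fin n) F) = 1) :
    (⟨(A.1 : Matrix (Fin n) (Fin n) F), h⟩ : Matrix.SpecialLinearGroup (Fin n) F) ∈ Cfsg.SU n F q :=
  fun u v => A.2 u v

/-- a unitary matrix of determinant one -/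
def upGU (A : Cfsg.GU 6 K4 2) (h : Matrix.det (A.1 : Matrix (Fin 6) (Fin 6) K4) = 1) : U6 :=
  ⟨⟨(A.1 : Matrix (Fin 6) (Fin 6) K4), h⟩, mem_SU_of_GU A h⟩

theorem GU_ext {k : ℕ} {a b : Cfsg.GU k K4 2}
    (h : ∀ v, (a.1 : Matrix (Fin k) (Fin k) K4) *ᵥ v = (b.1 : Matrix (Fin k) (Fin k) K4) *ᵥ v) :
    a = b :=
  Subtype.ext (Units.ext (Matrix.ext_of_mulVec_single fun i => h _))

theorem card_aut_M22 : Nat.card (MulAut Cfsg.Spor.M22) = 887040 := by
  rw [← (Cfsg.Inn Cfsg.Spor.M22).card_mul_index, card_inn, index_inn]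

set_option maxHeartbeats 2000000 in
theorem exists_model {Q : Subgroup H} [Q.Normal] {z : H} (hX : XCent Q z)
    (hcent : ∀ h : H, h * z = z * h) (hQ : Nat.card Q = 2 ^ 13)
    (N : Subgroup H) [N.Normal] (hQN : Q ≤ N) (hN : Nat.card N = 3 * Nat.card Q)
    (eN : H ⧸ N ≃* MulAut Cfsg.Spor.M22)
    (x : H) (hxN : x ∈ N) (hx3 : x ^ 3 = 1) (hx1 : x ≠ 1)
    (hfix : ∀ q ∈ Q, q * x = x * q → q = 1 ∨ q = z)
    (hinv : ∃ h : H, h * x * h⁻¹ = x * x) : Nonempty (Model Q z) := by
  classical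
  obtain ⟨V, _, _, ⟨D⟩⟩ := exists_quadQuot hX hcent
  have hxQ : x ∉ Q := by
    intro h
    have h1 : orderOf (⟨x, h⟩ : Q) = 3 := by
      haveI : Fact (Nat.Prime 3) := ⟨by norm_num⟩
      rw [Subgroup.orderOf_mk]
      exact orderOf_eq_prime hx3 hx1
    have h2 : orderOf (⟨x, h⟩ : Q) ∣ Nat.card Q := orderOf_dvd_natCard _
    rw [h1, hQ] at h2
    norm_num at h2
  have hxo : orderOf x = 3 := by
    haveI : Fact (Nat.Prime 3) := ⟨by norm_num⟩
    exact orderOf_eq_prime hx3 hx1
  have hNeq : Q ⊔ Subgroup.zpowers x = N := by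
    refine Subgroup.eq_of_le_of_card_ge (sup_le hQN (Subgroup.zpowers_le.2 hxN)) ?_
    have h1 := Subgroup.card_dvd_of_le (le_sup_left : Q ≤ Q ⊔ Subgroup.zpowers x)
    have h2 := Subgroup.card_dvd_of_le (le_sup_right : Subgroup.zpowers x ≤ Q ⊔ Subgroup.zpowers x)
    rw [Nat.card_zpowers, hxo] at h2
    rw [hQ] at h1
    rw [hN, hQ]
    exact Nat.le_of_dvd Nat.card_pos
      ((Nat.Coprime.mul_dvd_of_dvd_of_dvd (by norm_num) h2 h1))
  let w : V →+ V := D.act x
  have hw3 : ∀ v, w (w (w v)) = v := by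
    intro v
    show (D.act x * D.act x * D.act x) v = v
    rw [← map_mul, ← map_mul, ← pow_two, ← pow_succ, hx3, map_one]; rfl
  have hwfix : ∀ v, w v = v → v = 0 := by
    intro v hv
    obtain ⟨a, rfl⟩ := D.proj_surj v
    have h1 : D.proj (MulAut.conjNormal x a) = D.proj a := (D.proj_conj x a).trans hv
    have h2 : D.proj (MulAut.conjNormal x a * a⁻¹) = 0 := by
      have h0 : D.proj 1 = 0 := (D.proj_eq_zero 1).2 (Or.inl rfl)
      have h3 : D.proj a⁻¹ = D.proj a := by
        have := D.proj_mul a⁻¹ a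
        rw [inv_mul_cancel, h0] at this
        rw [← add_zero (D.proj a⁻¹), ← D.two (D.proj a), ← add_assoc, ← this, zero_add]
      rw [D.proj_mul, h1, h3, D.two]
    have hcz : (x * (a : H) * x⁻¹) * (a : H)⁻¹ = 1 ∨ (x * (a : H) * x⁻¹) * (a : H)⁻¹ = z :=
      (D.proj_eq_zero _).1 h2
    rw [D.proj_eq_zero]
    refine hfix _ a.2 ?_
    rcases hcz with h | h
    · rw [mul_inv_eq_one, mul_inv_eq_iff_eq_mul] at h
      exact h.symm
    · exfalso
      have hc : x * (a : H) * x⁻¹ = z * a := by rw [← h, inv_mul_cancel_right]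
      have hz2 : z * z = 1 := hX.inv
      have hzx : x * z * x⁻¹ = z := by rw [hcent, mul_inv_cancel_right]
      have e2 : x * x * (a : H) * (x * x)⁻¹ = a := by
        calc x * x * (a : H) * (x * x)⁻¹ = x * (x * a * x⁻¹) * x⁻¹ := by group
          _ = x * (z * a) * x⁻¹ := by rw [hc]
          _ = (x * z * x⁻¹) * (x * a * x⁻¹) := by group
          _ = a := by rw [hzx, hc, ← mul_assoc, hz2, one_mul]
      have e3 : x ^ 3 * (a : H) * (x ^ 3)⁻¹ = z * a := by
        calc x ^ 3 * (a : H) * (x ^ 3)⁻¹ = x * (x * x * a * (x * x)⁻¹) * x⁻¹ := by rw [pow_succ, pow_two]; group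
          _ = z * a := by rw [e2, hc]
      rw [hx3, one_mul, inv_one, mul_one] at e3
      exact hX.ne_one (mul_eq_right.1 e3.symm)
  have hw : ∀ v, w (w v) + w v + v = 0 := by
    intro v
    refine hwfix _ ?_
    rw [map_add, map_add, hw3]; abel
  have hwq : ∀ v, D.q (w v) = D.q v := fun v => D.act_q _ v
  obtain ⟨k, e, hew, heq⟩ := exists_frame D.two D.q D.B D.polar D.bil D.nondeg w hw hwq
  have hcardV : Nat.card V = 4 ^ 6 := by
    have := D.card_V
    rw [hQ] at this
    omega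
  have hk : k = 6 := by
    have h : Nat.card V = 4 ^ k := by
      rw [Nat.card_congr e.toEquiv, Nat.card_fun, card_K4, Nat.card_fin]
    rw [hcardV] at h
    exact (Nat.pow_right_injective (le_refl 2 |>.trans (by norm_num)) h).symm
  subst hk
  have hNcases : ∀ n ∈ N, D.act n = 1 ∨ D.act n = D.act x ∨ D.act n = D.act x * D.act x := by
    intro n hn
    rw [← hNeq, ← SetLike.mem_coe, Subgroup.normal_mul, Set.mem_mul] at hn
    obtain ⟨a, ha, b, hb, rfl⟩ := hn
    obtain ⟨j, rfl⟩ := Subgroup.mem_zpowers_iff.1 hb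
    rw [map_mul, (D.ker_act a).2 ha, one_mul]
    rw [zpow_eq_zpow_emod' j hx3]
    have h0 : 0 ≤ j % ((3 : ℕ) : ℤ) := Int.emod_nonneg _ (by norm_num)
    have h1 : j % ((3 : ℕ) : ℤ) < 3 := Int.emod_lt_of_pos _ (by norm_num)
    interval_cases (j % ((3 : ℕ) : ℤ))
    · exact Or.inl (by rw [zpow_zero, map_one])
    · exact Or.inr (Or.inl (by rw [zpow_one]))
    · exact Or.inr (Or.inr (by rw [← map_mul, show (2 : ℤ) = ((2 : ℕ) : ℤ) from rfl, zpow_natCast, pow_two]))
  have happly : ∀ (a b : H) v, D.act (a * b) v = D.act a (D.act b v) := fun a b v => by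
    rw [map_mul]; rfl
  have hone : ∀ v, D.act 1 v = v := fun v => by rw [map_one]; rfl
  have hact_inv : ∀ (h : H) v, D.act h (D.act h⁻¹ v) = v := fun h v => by
    rw [← happly, mul_inv_cancel, hone]
  have hsemiV : ∀ h : H, (∀ v, D.act h (w v) = w (D.act h v)) ∨
      (∀ v, D.act h (w v) = w (w (D.act h v))) := by
    intro h
    have hn : h * x * h⁻¹ ∈ N := (inferInstance : N.Normal).conj_mem _ hxN h
    have e' : ∀ v, D.act h (w v) = D.act (h * x * h⁻¹) (D.act h v) := by
      intro v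
      rw [← happly, inv_mul_cancel_right, happly]; rfl
    rcases hNcases _ hn with h1 | h1 | h1
    · exfalso
      apply hxQ
      have := (D.ker_act _).1 h1
      have h' := (inferInstance : Q.Normal).conj_mem _ this h⁻¹
      simpa [mul_assoc] using h'
    · left; intro v; rw [e', h1]; rfl
    · right; intro v; rw [e', h1]; rfl
  let S : Subgroup H :=
    { carrier := {m | ∀ v, D.act m (w v) = w (D.act m v)}
      one_mem' := fun v => by rw [hone, hone]
      mul_mem' := fun {a b} ha hb v => by rw [happly, happly, hb v, ha (D.act b v)]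
      inv_mem' := fun {a} ha v => by
        have e1 := ha (D.act a⁻¹ v)
        rw [hact_inv] at e1
        rw [← e1, ← happly, inv_mul_cancel, hone] }
  have hidx : ∀ a b : H, a ∉ S → b ∉ S → a * b ∈ S := by
    intro a b ha hb v
    have ha' := (hsemiV a).resolve_left ha
    have hb' := (hsemiV b).resolve_left hb
    rw [happly, happly, hb', ha', ha', hw3]
  obtain ⟨h0, hh0⟩ := hinv
  have h0S : h0 ∉ S := by
    intro hS
    have e1 : D.act (x * x) = D.act x := by
      refine AddMonoidHom.ext fun v => ?_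
      have h1 := hS (D.act h0⁻¹ v)
      rw [hact_inv] at h1
      rw [← hh0]
      exact (happly _ _ _).trans ((happly _ _ _).trans h1)
    refine hxQ ((D.ker_act x).1 (AddMonoidHom.ext fun v => ?_))
    have h2 := DFunLike.congr_fun e1 (D.act (x * x) v)
    rw [← happly, ← happly] at h2
    have e3 : x * (x * x) = 1 := by rw [← hx3, pow_succ, pow_two, mul_assoc]
    rw [show x * x * (x * x) = x by rw [mul_assoc, e3, mul_one], e3] at h2
    exact h2.trans (hone v)
  have hSidx : S.index = 2 := by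
    rw [Subgroup.index_eq_two_iff]
    refine ⟨h0, fun b => ?_⟩
    by_cases hb : b ∈ S
    · exact Or.inr ⟨hb, fun h' => h0S ((Subgroup.mul_mem_cancel_left S hb).1 h')⟩
    · exact Or.inl ⟨hidx _ _ hb h0S, hb⟩
  haveI hSn : S.Normal := Subgroup.normal_of_index_eq_two hSidx
  have hNS : N ≤ S := by
    intro m hm v
    rcases hNcases m hm with h1 | h1 | h1 <;> rw [h1] <;> rfl
  -- the quotient map to the simple group
  let π : H →* MulAut Cfsg.Spor.M22 := eN.toMonoidHom.comp (QuotientGroup.mk' N)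
  have hπs : Function.Surjective π := eN.surjective.comp (QuotientGroup.mk'_surjective N)
  have hπk : ∀ m, π m = 1 ↔ m ∈ N := by
    intro m
    show eN (m : H ⧸ N) = 1 ↔ _
    rw [MulEquiv.map_eq_one_iff, QuotientGroup.eq_one_iff]
  have hSmap : S.map π = Cfsg.Inn Cfsg.Spor.M22 := by
    refine inn_le_of_index_two ?_
    rw [Subgroup.index_map_eq S hπs ?_, hSidx]
    intro m hm
    exact hNS ((hπk m).1 hm)
  let eI := MonoidHom.ofInjective conj_injective
  let πS : S →* ↥(Cfsg.Inn Cfsg.Spor.M22) := (π.comp S.subtype).codRestrict _ fun m => by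
    rw [← hSmap]; exact Subgroup.mem_map_of_mem _ m.2
  let qM : S →* Cfsg.Spor.M22 := eI.symm.toMonoidHom.comp πS
  have hqk : ∀ m : S, qM m = 1 ↔ (m : H) ∈ N := by
    intro m
    show eI.symm (πS m) = 1 ↔ _
    rw [MulEquiv.map_eq_one_iff, ← hπk]
    exact Subtype.ext_iff
  have hqs : Function.Surjective qM := by
    intro g
    have hg : MulAut.conj g ∈ S.map π := by rw [hSmap]; exact ⟨g, rfl⟩
    obtain ⟨m, hm, hmg⟩ := hg
    refine ⟨⟨m, hm⟩, eI.injective ?_⟩
    show eI (eI.symm (πS ⟨m, hm⟩)) = eI g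
    rw [MulEquiv.apply_symm_apply]
    exact Subtype.ext hmg
  -- the linear action
  have hg : ∀ m : S, ∃ A : Cfsg.GU 6 K4 2, ∀ v : V, (A.1 : Matrix (Fin 6) (Fin 6) K4) *ᵥ e v =
      e (D.act (m : H) v) := by
    intro m
    let g : V6 →+ V6 := AddMonoidHom.mk' (fun y => e (D.act (m : H) (e.symm y))) fun a b => by
      rw [map_add, map_add, map_add]
    have hω : ∀ y, g (om • y) = om • g y := by
      intro y
      show e _ = om • e _
      rw [← hew, ← m.2]
      have : e.symm (om • y) = w (e.symm y) := e.injective (by rw [hew]; simp)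
      rw [this]
    have hq : ∀ y, nf (g y) = nf y := by
      intro y
      show nf (e _) = nf y
      rw [← heq, D.act_q, heq, AddEquiv.apply_symm_apply]
    obtain ⟨A, hA⟩ := exists_GU g hω hq
    refine ⟨A, fun v => (hA _).trans ?_⟩
    show e (D.act (m : H) (e.symm (e v))) = _
    rw [AddEquiv.symm_apply_apply]
  choose A hA using hg
  let ψ : S →* Cfsg.GU 6 K4 2 :=
    { toFun := A
      map_one' := GU_ext fun y => by
        obtain ⟨v, rfl⟩ := e.surjective y
        rw [hA]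
        show e (D.act (1 : H) v) = (1 : Matrix (Fin 6) (Fin 6) K4) *ᵥ e v
        rw [Matrix.one_mulVec, hone]
      map_mul' := fun a b => GU_ext fun y => by
        obtain ⟨v, rfl⟩ := e.surjective y
        rw [hA]
        show _ = ((A a).1.1 * (A b).1.1) *ᵥ e v
        rw [← Matrix.mulVec_mulVec, hA, hA, ← happly]; rfl }
  have hψ : ∀ (m : S) v, (ψ m).1.1 *ᵥ e v = e (D.act (m : H) v) := hA
  have hscal : ∀ m : S, (m : H) ∈ N → ∃ c : K4, c ^ 6 = 1 ∧ (c = 1 ∨ c = om ∨ c = om * om) ∧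
      (ψ m).1.1 = c • (1 : Matrix (Fin 6) (Fin 6) K4) := by
    intro m hm
    rcases hNcases (m : H) hm with h1 | h1 | h1
    · refine ⟨1, one_pow 6, Or.inl rfl, Matrix.ext_of_mulVec_single fun i => ?_⟩
      obtain ⟨v, hv⟩ := e.surjective (Pi.single i 1)
      rw [← hv, hψ, h1, one_smul, Matrix.one_mulVec]; rfl
    · refine ⟨om, by decide +kernel, Or.inr (Or.inl rfl), Matrix.ext_of_mulVec_single fun i => ?_⟩
      obtain ⟨v, hv⟩ := e.surjective (Pi.single i 1)
      rw [← hv, hψ, h1, Matrix.smul_mulVec, Matrix.one_mulVec]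
      exact hew v
    · refine ⟨om * om, by decide +kernel, Or.inr (Or.inr rfl),
        Matrix.ext_of_mulVec_single fun i => ?_⟩
      obtain ⟨v, hv⟩ := e.surjective (Pi.single i 1)
      rw [← hv, hψ, h1, Matrix.smul_mulVec, Matrix.one_mulVec, mul_smul, ← hew, ← hew]; rfl
  have hdet : ∀ m, Matrix.det ((ψ m).1 : Matrix (Fin 6) (Fin 6) K4) = 1 := by
    let δ : S →* K4ˣ := (CfsgLib.Classical.guDet 6 K4 2).comp ψ
    have hδ : ∀ m, δ m = 1 := by
      have hle : qM.ker ≤ δ.ker := by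
        intro m hm
        obtain ⟨c, hc, -, hmat⟩ := hscal m ((hqk m).1 hm)
        refine Units.ext ?_
        show ((ψ m).1.1).det = 1
        rw [hmat, Matrix.det_smul, Matrix.det_one, mul_one, Fintype.card_fin, hc]
      have hcm : ∀ a b : Cfsg.Spor.M22, qM.liftOfSurjective hqs ⟨δ, hle⟩ (a * b) =
          qM.liftOfSurjective hqs ⟨δ, hle⟩ (b * a) := fun a b => by
        rw [map_mul, map_mul, mul_comm]
      set δ' := qM.liftOfSurjective hqs ⟨δ, hle⟩ with hδ'
      haveI := isSimpleGroup_M22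
      rcases δ'.normal_ker.eq_bot_or_eq_top with h | h
      · exact absurd (fun a b => (MonoidHom.ker_eq_bot_iff δ').1 h (hcm a b)) not_comm_M22
      · intro m
        have h1 : δ' (qM m) = δ m := MonoidHom.liftOfRightInverse_comp_apply _ _ _ _ m
        rw [← h1]
        exact MonoidHom.mem_ker.1 (h ▸ Subgroup.mem_top _)
    intro m
    have h := hδ m
    rw [MonoidHom.comp_apply, CfsgLib.Classical.guDet, MonoidHom.comp_apply, Units.ext_iff,
      Matrix.GeneralLinearGroup.val_det_apply] at h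
    exact h
  let ψ' : S →* U6 :=
    { toFun := fun m => upGU (ψ m) (hdet m)
      map_one' := mat_injective (by rw [map_one mat]; show (ψ 1).1.1 = 1; rw [map_one]; rfl)
      map_mul' := fun a b => mat_injective (by
        rw [map_mul mat]; show (ψ (a * b)).1.1 = (ψ a).1.1 * (ψ b).1.1; rw [map_mul]; rfl) }
  have hψ' : ∀ (m : S) v, mat (ψ' m) *ᵥ e v = e (D.act (m : H) v) := hψ
  have hsc' : ∀ m : S, (m : H) ∈ N → ψ' m ^ 3 = 1 ∧ IsSc (ψ' m) := by
    intro m hm
    obtain ⟨c, -, hc3, hmat⟩ := hscal m hm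
    have e1 : mat (ψ' m) = c • (1 : Matrix (Fin 6) (Fin 6) K4) := hmat
    refine ⟨mat_injective ?_, c, e1⟩
    have hc : c ^ 3 = 1 := by rcases hc3 with rfl | rfl | rfl <;> decide +kernel
    rw [map_pow, e1, smul_pow, one_pow, hc, one_smul, map_one]
  -- scalar of order three
  let xS : S := ⟨x, hNS hxN⟩
  have hxc : cd (ψ' xS) = omC := by
    have e1 : mat (ψ' xS) = ofCode omC := by
      rw [omC_mat]
      refine Matrix.ext_of_mulVec_single fun i => ?_
      obtain ⟨v, hv⟩ := e.surjective (Pi.single i 1)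
      rw [← hv, hψ', Matrix.smul_mulVec, Matrix.one_mulVec]
      exact hew v
    obtain ⟨g, -, hg'⟩ := om_mem_L0
    have : ψ' xS = g := mat_injective (by rw [e1, mat_eq g, hg'])
    rw [this, hg']
  -- lifts of the generators
  obtain ⟨a, b, c, ha, hb, hba, hcb, hr1, hr2, htop⟩ := exists_gens
  obtain ⟨x0, hx0⟩ := hqs a
  obtain ⟨y0, hy0⟩ := hqs b
  obtain ⟨f0, hf0⟩ := hqs c
  have ha11 : a ^ 11 = 1 := ha ▸ pow_orderOf_eq_one a
  have hb5 : b ^ 5 = 1 := hb ▸ pow_orderOf_eq_one b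
  let xl : S := x0 ^ 12
  let yl : S := y0 ^ 6
  have hxl : qM xl = a := by rw [map_pow, hx0, pow_succ, ha11, one_mul]
  have hyl : qM yl = b := by rw [map_pow, hy0, pow_succ, hb5, one_mul]
  have hcube : ∀ m : S, qM m = 1 → ψ' m ^ 3 = 1 ∧ IsSc (ψ' m) := fun m hm => hsc' m ((hqk m).1 hm)
  set x1 := ψ' xl with hx1d
  set y1 := ψ' yl with hy1d
  set f1 := ψ' f0 with hf1d
  have hx11 : x1 ^ 11 = 1 := by
    have h := (hcube (x0 ^ 11) (by rw [map_pow, hx0, ha11])).1
    rw [hx1d, show ψ' xl = ψ' x0 ^ 12 from map_pow ψ' x0 12, ← pow_mul,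
      show 12 * 11 = (11 * 3) * 4 by norm_num, pow_mul, pow_mul, ← map_pow, h, one_pow]
  have hy5 : y1 ^ 5 = 1 := by
    have h := (hcube (y0 ^ 5) (by rw [map_pow, hy0, hb5])).1
    rw [hy1d, show ψ' yl = ψ' y0 ^ 6 from map_pow ψ' y0 6, ← pow_mul,
      show 6 * 5 = (5 * 3) * 2 by norm_num, pow_mul, pow_mul, ← map_pow, h, one_pow]
  have hx1ne : x1 ≠ 1 := by
    intro h
    have hQm : (xl : H) ∈ Q := by
      refine (D.ker_act _).1 (AddMonoidHom.ext fun v => e.injective ?_)
      have h' := hψ' xl v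
      rw [← hx1d, h, map_one, Matrix.one_mulVec] at h'
      exact h'.symm
    have h1 := (hqk xl).2 (hQN hQm)
    rw [hxl] at h1
    rw [h1, orderOf_one] at ha
    norm_num at ha
  have hrel : ∀ (u v : S) (k n : ℕ), (ψ' u) ^ n = 1 → ¬ 3 ∣ n → qM (v * u) = qM (u ^ k * v) →
      ψ' v * ψ' u = ψ' u ^ k * ψ' v := by
    intro u v k n hu hn he
    obtain ⟨hs3, hsS⟩ := hcube ((u ^ k)⁻¹ * (v * u * v⁻¹)) (by
      rw [map_mul, map_mul, he, map_mul, map_inv, map_inv, mul_inv_cancel_right, inv_mul_cancel])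
    set σ := ψ' ((u ^ k)⁻¹ * (v * u * v⁻¹)) with hσd
    have e1 : ψ' v * ψ' u * (ψ' v)⁻¹ = ψ' u ^ k * σ := by
      rw [hσd, map_mul, map_inv, map_mul, map_mul, map_inv, map_pow, mul_inv_cancel_left]
    have hcomm : Commute (ψ' u ^ k) σ := mat_injective (by
      rw [map_mul mat, map_mul mat]; exact (hsS.central _))
    have e2 : (ψ' v * ψ' u * (ψ' v)⁻¹) ^ n = 1 := by rw [conj_pow, hu, mul_one, mul_inv_cancel]
    rw [e1, hcomm.mul_pow, ← pow_mul, mul_comm k n, pow_mul, hu, one_pow, one_mul] at e2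
    have e3 : σ = 1 := by
      rw [← orderOf_eq_one_iff]
      have d1 := orderOf_dvd_of_pow_eq_one hs3
      have d2 := orderOf_dvd_of_pow_eq_one e2
      rcases (Nat.dvd_prime (by norm_num : Nat.Prime 3)).1 d1 with h | h
      · exact h
      · exact absurd (h ▸ d2) hn
    rw [e3, mul_one, mul_inv_eq_iff_eq_mul] at e1
    exact e1
  have hyx : y1 * x1 = x1 ^ 3 * y1 :=
    hrel xl yl 3 11 hx11 (by norm_num) (by rw [map_mul, map_mul, hyl, hxl, map_pow, hxl, hba])
  have hfy : f1 * y1 = y1 ^ 2 * f1 :=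
    hrel yl f0 2 5 hy5 (by norm_num) (by rw [map_mul, map_mul, hf0, hyl, map_pow, hyl, hcb])
  have hs1 : IsSc ((x1 * f1 * f1 * y1) ^ 3) := by
    have h := (hcube ((xl * f0 * f0 * yl) ^ 3) (by
      rw [map_pow, map_mul, map_mul, map_mul, hxl, hf0, hyl, hr1])).2
    rwa [map_pow, map_mul, map_mul, map_mul] at h
  have hs2 : IsSc ((x1 * f1) ^ 7) := by
    have h := (hcube ((xl * f0) ^ 7) (by rw [map_pow, map_mul, hxl, hf0, hr2])).2
    rwa [map_pow, map_mul] at h
  obtain ⟨C, Ci, hC1, hC2, hCu, hinR, hRin⟩ := pin hx11 hx1ne hy5 hyx hfy hs1 hs2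
  -- the image is carried onto the standard cover
  have hRl : ∀ l ∈ L0, ∃ m : S, C * mat (ψ' m) * Ci = mat l := by
    intro l hl
    obtain ⟨r, ⟨m, rfl⟩, hr⟩ := hinR ψ'.range ⟨_, rfl⟩ ⟨_, rfl⟩ ⟨_, rfl⟩ ⟨_, ⟨xS, rfl⟩, hxc⟩ l hl
    exact ⟨m, hr⟩
  have hlR : ∀ m : S, ∃ l ∈ L0, C * mat (ψ' m) * Ci = mat l := by
    intro m
    refine hRin _ ?_
    let K := Subgroup.closure (({x1, y1, f1} : Set U6) ∪ {s | cd s = omC})
    have hK1 : ∀ n : S, (n : H) ∈ N → ψ' n ∈ K := by
      intro n hn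
      obtain ⟨c', -, hc3, hmat⟩ := hscal n hn
      have hxm : ψ' xS ∈ K := Subgroup.subset_closure (Or.inr hxc)
      have hxe : mat (ψ' xS) = om • (1 : Matrix (Fin 6) (Fin 6) K4) := by
        rw [mat_eq, hxc, omC_mat]
      rcases hc3 with rfl | rfl | rfl
      · rw [show ψ' n = 1 from mat_injective (hmat.trans (by rw [one_smul, map_one]))]
        exact K.one_mem
      · rw [show ψ' n = ψ' xS from mat_injective (hmat.trans hxe.symm)]
        exact hxm
      · rw [show ψ' n = ψ' xS * ψ' xS from mat_injective (hmat.trans (by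
          rw [map_mul, hxe, smul_mul_smul_comm, one_mul]))]
        exact K.mul_mem hxm hxm
    have hK2 : ∀ g : Cfsg.Spor.M22, ∃ n : S, qM n = g ∧ ψ' n ∈ K := by
      intro g
      have hgm : g ∈ Subgroup.closure ({a, b, c} : Set Cfsg.Spor.M22) := htop ▸ Subgroup.mem_top g
      induction hgm using Subgroup.closure_induction with
      | mem g hg =>
        rcases hg with rfl | rfl | rfl
        · exact ⟨xl, hxl, Subgroup.subset_closure (by simp [hx1d])⟩
        · exact ⟨yl, hyl, Subgroup.subset_closure (by simp [hy1d])⟩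
        · exact ⟨f0, hf0, Subgroup.subset_closure (by simp [hf1d])⟩
      | one => exact ⟨1, map_one _, by rw [map_one]; exact K.one_mem⟩
      | mul p q _ _ hp hq =>
        obtain ⟨n1, e1, k1⟩ := hp
        obtain ⟨n2, e2, k2⟩ := hq
        exact ⟨n1 * n2, by rw [map_mul, e1, e2], by rw [map_mul]; exact K.mul_mem k1 k2⟩
      | inv p _ hp =>
        obtain ⟨n1, e1, k1⟩ := hp
        exact ⟨n1⁻¹, by rw [map_inv, e1], by rw [map_inv]; exact K.inv_mem k1⟩
    obtain ⟨n, hn1, hn2⟩ := hK2 (qM m)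
    have h3 : ψ' (n⁻¹ * m) ∈ K :=
      hK1 _ ((hqk _).1 (by rw [map_mul, map_inv, hn1, inv_mul_cancel]))
    have := K.mul_mem hn2 h3
    rwa [← map_mul, mul_inv_cancel_left] at this
  -- coordinates
  let T : V → V6 := fun v => C *ᵥ e v
  let U : V6 → V := fun y => e.symm (Ci *ᵥ y)
  have hTU : ∀ y, T (U y) = y := fun y => by
    show C *ᵥ e (e.symm (Ci *ᵥ y)) = y
    rw [AddEquiv.apply_symm_apply, Matrix.mulVec_mulVec, hC1, Matrix.one_mulVec]
  have hUT : ∀ v, U (T v) = v := fun v => by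
    show e.symm (Ci *ᵥ (C *ᵥ e v)) = v
    rw [Matrix.mulVec_mulVec, hC2, Matrix.one_mulVec, AddEquiv.symm_apply_apply]
  have hTadd : ∀ u v, T (u + v) = T u + T v := fun u v => by
    show C *ᵥ e (u + v) = _
    rw [map_add, Matrix.mulVec_add]
  have hT0 : T 0 = 0 := by
    show C *ᵥ e 0 = 0
    rw [map_zero, Matrix.mulVec_zero]
  have hTw : ∀ v, T (w v) = om • T v := fun v => by
    show C *ᵥ e (w v) = _
    rw [hew, Matrix.mulVec_smul]
  have hTq : ∀ v, nf (T v) = toK (D.q v) := fun v => by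
    rw [heq]; exact hCu _ _
  have hUadd : ∀ u v, U (u + v) = U u + U v := fun u v => by
    show e.symm _ = e.symm _ + e.symm _
    rw [Matrix.mulVec_add, map_add]
  let TS : AddMonoid.End V → AddMonoid.End V6 := fun f =>
    AddMonoidHom.mk' (fun y => T (f (U y))) fun a b => by rw [hUadd, map_add, hTadd]
  let act : H →* AddMonoid.End V6 :=
    { toFun := fun h => TS (D.act h)
      map_one' := AddMonoidHom.ext fun y => by
        show T (D.act 1 (U y)) = y
        rw [hone]; exact hTU y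
      map_mul' := fun a b => AddMonoidHom.ext fun y => by
        show T (D.act (a * b) (U y)) = T (D.act a (U (T (D.act b (U y)))))
        rw [hUT, happly] }
  have hactm : ∀ (p q : H) y, act (p * q) y = act p (act q y) := fun p q y => by
    rw [map_mul]; rfl
  have hact1 : ∀ y, act (1 : H) y = y := fun y => by rw [map_one]; rfl
  have hlin : ∀ (m : S) y, act (m : H) y = (C * mat (ψ' m) * Ci) *ᵥ y := by
    intro m y
    show C *ᵥ e (D.act (m : H) (U y)) = _
    rw [← hψ', ← Matrix.mulVec_mulVec, ← Matrix.mulVec_mulVec,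
      show e (U y) = Ci *ᵥ y from e.apply_symm_apply _]
  have hMlin : ∀ h ∈ S, ∃ g ∈ L0, ∀ v, act h v = mat g *ᵥ v := by
    intro h hh
    obtain ⟨l, hl, el⟩ := hlR ⟨h, hh⟩
    exact ⟨l, hl, fun v => by rw [← el]; exact hlin ⟨h, hh⟩ v⟩
  have hlift : ∀ g ∈ L0, ∃ h ∈ S, ∀ v, act h v = mat g *ᵥ v := by
    intro l hl
    obtain ⟨m, hm⟩ := hRl l hl
    exact ⟨m, m.2, fun v => by rw [← hm]; exact hlin m v⟩
  have hactq : ∀ h y, nf (act h y) = nf y := fun h y => by
    show nf (T (D.act h (U y))) = nf y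
    conv_rhs => rw [← hTU y]
    rw [hTq, hTq, D.act_q]
  have hUw : ∀ y, U (om • y) = w (U y) := fun y => by
    rw [← hUT (w (U y)), hTw, hTU]
  have h0anti : ∀ y, act h0 (om • y) = (om ^ 2) • act h0 y := by
    intro y
    show T (D.act h0 (U (om • y))) = om ^ 2 • T (D.act h0 (U y))
    rw [hUw, (hsemiV h0).resolve_left h0S, hTw, hTw, smul_smul, pow_two]
  -- the outer element
  let g0 : V6 →+ V6 := AddMonoidHom.mk' (fun y => act h0 (sAct tauP y)) fun u v => by
    rw [sAct_tau_add, map_add]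
  have hg0ω : ∀ y, g0 (om • y) = om • g0 y := by
    intro y
    show act h0 (sAct tauP (om • y)) = om • act h0 (sAct tauP y)
    rw [sAct_tau_smul, pow_two, mul_smul, h0anti, h0anti, smul_smul, ← pow_add,
      show 2 + 2 = 3 + 1 from rfl, pow_succ, om_cube, one_mul]
  obtain ⟨A0, hA0⟩ := exists_GU g0 hg0ω fun y => by
    show nf (act h0 (sAct tauP y)) = nf y
    rw [hactq, nf_tau]
  have hA0' : ∀ v, (A0.1.1 : Matrix (Fin 6) (Fin 6) K4) *ᵥ v = act h0 (sAct tauP v) :=
    fun v => (hA0 v).trans (congrFun (AddMonoidHom.mk'_apply _ _) v)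
  have hnorm : ∀ l ∈ L0, ∃ l' ∈ L0, (A0.1.1 : Matrix (Fin 6) (Fin 6) K4) * mat l = mat l' * A0.1.1 := by
    intro l hl
    obtain ⟨l', hl', el'⟩ := tau_conj hl
    obtain ⟨m, hm, em⟩ := hlift l' hl'
    obtain ⟨l'', hl'', el''⟩ := hMlin _ (hSn.conj_mem m hm h0)
    refine ⟨l'', hl'', Matrix.ext_of_mulVec_single fun i => ?_⟩
    rw [← Matrix.mulVec_mulVec, ← Matrix.mulVec_mulVec, hA0', hA0']
    have e1 : sAct tauP (mat l *ᵥ Pi.single i 1) = mat l' *ᵥ sAct tauP (Pi.single i 1) := by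
      rw [← el', tau_sq]
    rw [e1, ← em, ← el'', ← hactm, ← hactm, inv_mul_cancel_right]
  obtain ⟨l, hl, el⟩ := normalizer_L0 (M := A0.1.1) A0.2 hnorm
  obtain ⟨m, hm, em⟩ := hlift l hl
  have hout : ∀ v, act (m⁻¹ * h0) v = sAct tauP v := by
    intro v
    have e1 : act h0 v = mat l *ᵥ sAct tauP v := by
      rw [← el, hA0', tau_sq]
    rw [hactm, e1, ← em, ← hactm, inv_mul_cancel, hact1]
  have hcardH : Nat.card H = 2 ^ 21 * 10395 := by
    rw [Subgroup.card_eq_card_quotient_mul_card_subgroup N, Nat.card_congr eN.toEquiv, card_aut_M22,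
      hN, hQ]
    norm_num
  refine ⟨{
    vec := fun a => T (D.proj a), act := act, M := S, xc := hX,
    zc := hcent, card_Q := hQ, card_H := hcardH, Q_le := hQN.trans hNS, M_index := hSidx,
    M_lin := hMlin, L0_lift := hlift, act_nf := hactq,
    outer := ⟨m⁻¹ * h0, fun h => h0S ((Subgroup.mul_mem_cancel_left S (S.inv_mem hm)).1 h), hout⟩,
    vec_mul := fun a b => by rw [D.proj_mul, hTadd],
    vec_surj := fun y => by
      obtain ⟨a, ha⟩ := D.proj_surj (U y)
      exact ⟨a, by show T (D.proj a) = y; rw [ha, hTU]⟩,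
    vec_eq_zero := fun a => by
      rw [← D.proj_eq_zero]
      exact ⟨fun h => by rw [← hUT (D.proj a), h, ← hT0, hUT], fun h => by rw [h, hT0]⟩,
    vec_sq := fun a => by
      rw [D.proj_sq, hTq]
      exact ⟨fun h => by rw [h]; rfl, fun h => congrArg QuadraticAlgebra.re h⟩,
    vec_comm := fun a b => by
      rw [← D.proj_B]
      have e := hermForm_polar (T (D.proj a)) (T (D.proj b))
      rw [← hTadd, hTq, hTq, hTq, D.polar, ← toK_add, ← toK_add] at e
      have e' := congrArg QuadraticAlgebra.re e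
      have hh : ∀ p q r : ZMod 2, p + q + r + p + q = r := by decide
      rw [show D.B (D.proj a) (D.proj b) = _ from (hh _ _ _).symm.trans e']
      rfl,
    vec_conj := fun h a => by
      show T (D.proj (MulAut.conjNormal h a)) = T (D.act h (U (T (D.proj a))))
      rw [D.proj_conj, hUT],
    ker_act := fun h => by
      rw [← D.ker_act]
      refine ⟨fun e1 => AddMonoidHom.ext fun v => ?_, fun e1 => AddMonoidHom.ext fun y => ?_⟩
      · have e2 : T (D.act h (U (T v))) = T v := DFunLike.congr_fun e1 (T v)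
        rw [hUT] at e2
        show D.act h v = v
        rw [← hUT (D.act h v), e2, hUT]
      · show T (D.act h (U y)) = y
        rw [e1]; exact hTU y }⟩

end CfsgLib.Spor.LargeFi.J4
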