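import Cfsg.Agent.Lib.Spor.LargeJ4.SylElem
import Cfsg.Agent.Lib.Spor.LargeJ4.RealCheck
import Cfsg.Agent.Lib.Spor.LargeJ4.NotClosedData

/-!
Checks for the involutions of the Sylow subgroup of the semilinear cover of `M22`: fixed spaces, squares,
and the elementary subgroups of order 32.
-/

set_option autoImplicit false
set_option maxRecDepth 100000
set_option maxHeartbeats 1000000
set_option Elab.async false

namespace CfsgLib.Spor.LargeFi.J4

open CfsgLib.Spor.U62

/-- a doubling of a list -/
def dbl (d : ℕ) (L : List ℕ) : List ℕ := L ++ L.map (Nat.xor d)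

/-- the displacements of the first `2 ^ k` vectors -/
def imgs (p : ℕ) : ℕ → List ℕ
  | 0 => [0]
  | k + 1 => dbl (Nat.xor (sActC p (2 ^ k)) (2 ^ k)) (imgs p k)

/-- the number of fixed vectors -/
def fixCount (p : ℕ) : ℕ := ((imgs p 12).filter fun d => Nat.beq d 0).length

theorem fixCount_ok : (invL.all fun p =>
    Nat.beq (fixCount p) (if flag p then 64 else 256)) = true := by decide +kernel

theorem sqL_ok : ((List.range 256).all fun i =>
    Nat.beq (sMul (sylL.getD i 0) (sylL.getD i 0)) (sqL.getD i 0)) = true := by decide +kernel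

theorem sqL_length : Nat.beq sqL.length 256 = true := by decide +kernel

theorem sq_fibre : (sylL.all fun c =>
    Nat.blt (sqL.filter fun q => Nat.beq q (2 * oneC) || Nat.beq q c).length 128) = true := by
  decide +kernel

/-- the test at a node of the census of elementary subgroups -/
def okB (C : List ℕ) : Bool :=
  Nat.blt (C.length + 1) 32 || (Nat.beq C.length 31 && C.all fun i => memV bigI i)

/-- the census of elementary subgroups -/
def chkE : ℕ → List ℕ → ℕ → Bool
  | 0, _, _ => false
  | n + 1, C, lo => okB C && (List.range 71).all fun s =>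
      Nat.blt s lo || memV C s ||
      C.any (fun c => Nat.beq (pT c s) 99 ||
        (Nat.blt (pT c s - 1) s && !Nat.beq (pT c s) 0 && !memV C (pT c s - 1))) ||
      chkE n (C ++ s :: C.map fun c => pT c s - 1).dedup (s + 1)

theorem chkE_ok : chkE 7 [] 0 = true := by decide +kernel

theorem bigI_facts : (Nat.beq bigI.length 31 && bigI.all fun i => Nat.blt i 71) = true := by
  decide +kernel

theorem bigI_nodup : bigI.Nodup := by decide +kernel

/-- the codes of the elementary subgroup of order 32 -/
def bigC : List ℕ := 2 * oneC :: bigI.map invP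

theorem bigC_nodup : bigC.Nodup := by decide +kernel

/-- a check of five displacements -/
def witB (a : ℕ) (l : List (ℕ × ℕ)) : Bool :=
  (l.all fun kv => memV bigC kv.1 && Nat.blt kv.2 4096 && Nat.beq (sActC a kv.2) kv.2) &&
    Nat.beq ((l.map fun kv => Nat.xor (sActC kv.1 kv.2) kv.2).dedup).length 5

theorem bigW_ok : (bigC.all fun a => !flag a || bigW.any fun e => Nat.beq e.1 a && witB a e.2) = true := by
  decide +kernel

end CfsgLib.Spor.LargeFi.J4
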