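import Cfsg.Agent.Lib.Spor.LargeJ4.Real
import Cfsg.Agent.Lib.Spor.LargeJ4.NotClosedChk

/-!
The involutions of the centraliser outside the extraspecial subgroup: sizes of their fixed spaces, and
the census of elementary subgroups of order 32.
-/

set_option autoImplicit false
set_option maxRecDepth 100000
set_option maxHeartbeats 1000000

namespace CfsgLib.Spor.LargeFi.J4

open CfsgLib.Spor.U62 CfsgLib.ThreeTransp
open Matrix

/-- the field as a finite type -/
local instance : Fintype K4 := Fintype.ofEquiv _ (QuadraticAlgebra.equivProd (1 : ZMod 2) 1).symm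

theorem sqL_eq : sylL.map (fun p => sMul p p) = sqL := by
  have hl : sqL.length = 256 := Nat.eq_of_beq_eq_true sqL_length
  refine List.ext_getElem (by rw [List.length_map, sylL_length, hl]) fun i h1 h2 => ?_
  have hi : i < 256 := hl ▸ h2
  have h := Nat.eq_of_beq_eq_true (List.all_eq_true.1 sqL_ok i (List.mem_range.2 hi))
  have hi' : i < sylL.length := by rw [sylL_length]; exact hi
  rw [List.getD_eq_getElem _ _ hi', List.getD_eq_getElem _ _ h2] at h
  rw [List.getElem_map]
  exact h

/-- few members have a given square besides the identity -/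
theorem square_fibre {c : ℕ} (hc : c ∈ sylL) (S : Finset ℕ) (hsub : ∀ p ∈ S, p ∈ sylL)
    (hsq : ∀ p ∈ S, sMul p p = 2 * oneC ∨ sMul p p = c) : S.card < 128 := by
  classical
  have h := List.all_eq_true.1 sq_fibre c hc
  rw [Nat.blt_eq, ← sqL_eq, List.filter_map, List.length_map] at h
  refine lt_of_le_of_lt (le_trans (Finset.card_le_card fun p hp => ?_) (List.toFinset_card_le _)) h
  rw [List.mem_toFinset, List.mem_filter]
  refine ⟨hsub p hp, ?_⟩
  simp only [Function.comp_apply, Bool.or_eq_true, Nat.beq_eq]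
  exact hsq p hp

/-- an elementary subgroup with at least 32 members is the distinguished one -/
theorem census_big (S : Finset ℕ) (hsub : ∀ p ∈ S, p ∈ sylL) (hone : 2 * oneC ∈ S)
    (hmul : ∀ p ∈ S, ∀ q ∈ S, sMul p q ∈ S) (hcomm : ∀ p ∈ S, ∀ q ∈ S, sMul p q = sMul q p)
    (hsq : ∀ p ∈ S, sMul p p = 2 * oneC) (hc : 32 ≤ S.card) :
    S.card = 32 ∧ ∀ p ∈ bigC, p ∈ S := by
  classical
  set T : Finset ℕ := (Finset.range 71).filter fun i => invP i ∈ S with hT
  obtain ⟨hnd, hlen, hone'⟩ := invL_nodup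
  have hget : ∀ (i : ℕ) (hi : i < 71), invP i = invL[i]'(by omega) := fun i hi =>
    List.getD_eq_getElem _ _ _
  have hinj : ∀ i, i < 71 → ∀ j, j < 71 → invP i = invP j → i = j := fun i hi j hj h =>
    hnd.getElem_inj_iff.1 ((hget i hi).symm.trans (h.trans (hget j hj)))
  have hne : ∀ i, i < 71 → invP i ≠ 2 * oneC := fun i hi e =>
    hone' (e ▸ (hget i hi).symm ▸ List.getElem_mem _)
  have hST : S = insert (2 * oneC) (T.image invP) := by
    ext p
    rw [Finset.mem_insert, Finset.mem_image]
    constructor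
    · intro hp
      have h := List.all_eq_true.1 invL_check p (hsub p hp)
      simp only [Bool.or_eq_true, Nat.beq_eq, Bool.not_eq_true', memV_iff] at h
      rcases h with (h | h) | h
      · exact Or.inl h
      · rw [← Bool.not_eq_true, Nat.beq_eq] at h; exact absurd (hsq p hp) h
      · obtain ⟨i, hi, rfl⟩ := List.getElem_of_mem h
        exact Or.inr ⟨i, Finset.mem_filter.2 ⟨Finset.mem_range.2 (hlen ▸ hi),
          by rwa [hget i (hlen ▸ hi)]⟩, hget i (hlen ▸ hi)⟩
    · rintro (rfl | ⟨i, hi, rfl⟩)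
      exacts [hone, (Finset.mem_filter.1 hi).2]
  have hTlt : ∀ i ∈ T, i < 71 := fun i hi => Finset.mem_range.1 (Finset.mem_filter.1 hi).1
  have hScard : S.card = T.card + 1 := by
    rw [hST, Finset.card_insert_of_notMem, Finset.card_image_of_injOn]
    · exact fun i hi j hj h => hinj i (hTlt i hi) j (hTlt j hj) h
    · rw [Finset.mem_image]; rintro ⟨i, hi, e⟩; exact hne i (hTlt i hi) e
  have hprod : ∀ c ∈ T, ∀ s ∈ T, c ≠ s → pT c s ≠ 99 ∧ pT c s ≠ 0 ∧ pT c s - 1 ∈ T := by
    intro c hc' s hs hne'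
    have h := List.all_eq_true.1 (List.all_eq_true.1 prod_check c (List.mem_range.2 (hTlt c hc'))) s
      (List.mem_range.2 (hTlt s hs))
    have hcS := (Finset.mem_filter.1 hc').2
    have hsS := (Finset.mem_filter.1 hs).2
    split_ifs at h with h99 h0
    · simp only [Bool.not_eq_true'] at h
      rw [← Bool.not_eq_true, Nat.beq_eq] at h
      exact absurd (hcomm _ hcS _ hsS) h
    · exact absurd (Nat.eq_of_beq_eq_true h) hne'
    · simp only [Nat.beq_eq] at h99 h0
      simp only [Bool.and_eq_true, Nat.beq_eq, Nat.blt_eq] at h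
      exact ⟨h99, h0, Finset.mem_filter.2 ⟨Finset.mem_range.2 h.2, h.1 ▸ hmul _ hcS _ hsS⟩⟩
  have hmain : ∀ n C lo, chkE n C lo = true → C.Nodup → (∀ i ∈ C, i ∈ T) →
      (∀ i ∈ T, i < lo → i ∈ C) →
      ∃ C' : List ℕ, C'.Nodup ∧ C'.toFinset = T ∧ okB C' = true := by
    intro n
    induction n with
    | zero => intro C lo h; simp [chkE] at h
    | succ n ih =>
      intro C lo h hCn hCT hlo
      rw [chkE, Bool.and_eq_true] at h
      by_cases hall : ∀ i ∈ T, i ∈ C
      · exact ⟨C, hCn, Finset.ext fun i => ⟨fun hi => hCT i (List.mem_toFinset.1 hi),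
          fun hi => List.mem_toFinset.2 (hall i hi)⟩, h.1⟩
      have hne' : (T.filter fun i => i ∉ C).Nonempty := by
        push Not at hall
        obtain ⟨i, hi, hi'⟩ := hall
        exact ⟨i, Finset.mem_filter.2 ⟨hi, hi'⟩⟩
      set s := (T.filter fun i => i ∉ C).min' hne' with hs
      obtain ⟨hsT, hsC⟩ := Finset.mem_filter.1 (Finset.min'_mem _ hne')
      have hmin : ∀ i ∈ T, i < s → i ∈ C := fun i hi his => by
        by_contra hiC
        exact absurd (Finset.min'_le _ i (Finset.mem_filter.2 ⟨hi, hiC⟩)) (not_le.2 his)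
      have h2 := List.all_eq_true.1 h.2 s (List.mem_range.2 (hTlt s hsT))
      simp only [Bool.or_eq_true, Nat.blt_eq, memV_iff, List.any_eq_true, Bool.and_eq_true,
        Bool.not_eq_true', Nat.beq_eq] at h2
      rcases h2 with ((h2 | h2) | ⟨c, hcC, h2⟩) | h2
      · exact absurd (hlo s hsT h2) hsC
      · exact absurd h2 hsC
      · obtain ⟨p1, p2, p3⟩ := hprod c (hCT c hcC) s hsT fun e => absurd (e ▸ hcC : s ∈ C) hsC
        rcases h2 with h2 | ⟨⟨h3, -⟩, h4⟩
        · exact absurd h2 p1
        · rw [← Bool.not_eq_true, memV_iff] at h4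
          exact absurd (hmin _ p3 h3) h4
      · refine ih _ _ h2 (List.nodup_dedup _) (fun i hi => ?_) fun i hi his => ?_
        · rw [List.mem_dedup, List.mem_append, List.mem_cons, List.mem_map] at hi
          rcases hi with hi | rfl | ⟨c, hc', rfl⟩
          exacts [hCT i hi, hsT, (hprod c (hCT c hc') s hsT fun e => absurd (e ▸ hc' : s ∈ C) hsC).2.2]
        · rw [List.mem_dedup, List.mem_append, List.mem_cons]
          rcases Nat.lt_succ_iff_lt_or_eq.1 his with hlt | rfl
          · exact Or.inl (hmin i hi hlt)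
          · exact Or.inr (Or.inl rfl)
  obtain ⟨C, hCn, hCT, hok⟩ := hmain 7 [] 0 chkE_ok List.nodup_nil (by simp) (by simp)
  have hl : C.length + 1 = S.card := by rw [hScard, ← hCT, List.toFinset_card_of_nodup hCn]
  simp only [okB, Bool.or_eq_true, Bool.and_eq_true, Nat.blt_eq, Nat.beq_eq, List.all_eq_true,
    memV_iff] at hok
  rcases hok with hok | ⟨h31, hbig⟩
  · omega
  refine ⟨by omega, ?_⟩
  have hfa := bigI_facts
  simp only [Bool.and_eq_true, Nat.beq_eq, List.all_eq_true] at hfa
  have hTe : C.toFinset = bigI.toFinset :=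
    Finset.eq_of_subset_of_card_le
      (fun i hi => List.mem_toFinset.2 (hbig i (List.mem_toFinset.1 hi)))
      (by rw [List.toFinset_card_of_nodup bigI_nodup, List.toFinset_card_of_nodup hCn, hfa.1, h31])
  intro p hp
  rcases List.mem_cons.1 hp with rfl | hp
  · exact hone
  · obtain ⟨i, hi, rfl⟩ := List.mem_map.1 hp
    exact (Finset.mem_filter.1 (hCT ▸ hTe ▸ List.mem_toFinset.2 hi : i ∈ T)).2

/-- the semilinear members have five displacements -/
theorem five_witness {a : ℕ} (ha : a ∈ bigC) (hf : flag a = true) :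
    ∃ l : List (ℕ × ℕ), (∀ e ∈ l, e.1 ∈ bigC ∧ e.2 < 4096 ∧ sActC a e.2 = e.2) ∧
      (l.map fun e => Nat.xor (sActC e.1 e.2) e.2).dedup.length = 5 := by
  have h := List.all_eq_true.1 bigW_ok a ha
  simp only [hf, Bool.not_true, Bool.false_or, List.any_eq_true, Bool.and_eq_true, witB,
    List.all_eq_true, memV_iff, Nat.blt_eq, Nat.beq_eq] at h
  obtain ⟨e, -, -, h1, h2⟩ := h
  exact ⟨e.2, fun k hk => ⟨(h1 k hk).1.1, (h1 k hk).1.2, (h1 k hk).2⟩, h2⟩

theorem sActC_xor (p : ℕ) {a b : ℕ} (ha : a < 4096) (hb : b < 4096) :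
    sActC p (Nat.xor a b) = Nat.xor (sActC p a) (sActC p b) := by
  have hadd : ∀ u v : V6, sAct p (u + v) = sAct p u + sAct p v := fun u v => by
    simp only [sAct]
    split_ifs <;> simp [gal_add, Matrix.mulVec_add]
  conv_lhs => rw [← vc_vOf ha, ← vc_vOf hb, ← vc_add, ← vc_sAct, hadd, vc_add, vc_sAct, vc_sAct,
    vc_vOf ha, vc_vOf hb]

theorem imgs_eq (p : ℕ) : ∀ k ≤ 12,
    imgs p k = (List.range (2 ^ k)).map fun u => Nat.xor (sActC p u) u := by
  intro k
  induction k with
  | zero =>
    intro _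
    have h0 : sActC p 0 = 0 := by
      have h := sActC_xor p (a := 0) (b := 0) (by norm_num) (by norm_num)
      rwa [show Nat.xor 0 0 = 0 from rfl,
        show Nat.xor (sActC p 0) (sActC p 0) = 0 from Nat.xor_self _] at h
    rw [pow_zero]
    show [0] = [Nat.xor (sActC p 0) 0]
    rw [h0]; rfl
  | succ k ih =>
    intro hk
    rw [imgs, dbl, ih (by omega), show 2 ^ (k + 1) = 2 ^ k + 2 ^ k by ring, List.range_add,
      List.map_append, List.map_map, List.map_map]
    congr 1
    refine List.map_congr_left fun u hu => ?_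
    rw [List.mem_range] at hu
    have h12 : 2 ^ k < 4096 := lt_of_lt_of_le (Nat.pow_lt_pow_right (by norm_num) (by omega : k < 12))
      (le_of_eq (by norm_num))
    have hx : Nat.xor (2 ^ k) u = 2 ^ k + u := by
      have h1 := Nat.two_pow_add_eq_or_of_lt hu 1
      rw [mul_one] at h1
      rw [h1]
      refine Nat.eq_of_testBit_eq fun j => ?_
      show (2 ^ k ^^^ u).testBit j = (2 ^ k ||| u).testBit j
      rw [Nat.testBit_xor, Nat.testBit_lor]
      rcases eq_or_ne k j with rfl | hne
      · rw [Nat.testBit_two_pow_self, Nat.testBit_lt_two_pow hu]; rfl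
      · simp [Nat.testBit_two_pow_of_ne hne]
    simp only [Function.comp_apply]
    rw [← hx, sActC_xor p h12 (hu.trans h12)]
    show sActC p (2 ^ k) ^^^ 2 ^ k ^^^ (sActC p u ^^^ u) = sActC p (2 ^ k) ^^^ sActC p u ^^^ (2 ^ k ^^^ u)
    ac_rfl

theorem fixed_card (p : ℕ) : (Finset.univ.filter fun v : V6 => sAct p v = v).card = fixCount p := by
  classical
  rw [fixCount, imgs_eq p 12 le_rfl, List.filter_map, List.length_map,
    ← List.toFinset_card_of_nodup (List.nodup_range.filter _),
    ← Finset.card_image_of_injective _ vc_injective]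
  congr 1
  ext u
  simp only [Finset.mem_image, Finset.mem_filter, Finset.mem_univ, true_and, List.mem_toFinset,
    List.mem_filter, List.mem_range, Function.comp_apply, Nat.beq_eq, show (2 : ℕ) ^ 12 = 4096 from rfl]
  constructor
  · rintro ⟨v, hv, rfl⟩
    refine ⟨vc_lt v, ?_⟩
    rw [← vc_sAct, hv]
    exact Nat.xor_self _
  · rintro ⟨hu, h⟩
    have h' : sActC p u = u := Nat.xor_eq_zero_iff.1 h
    exact ⟨vOf u, vc_injective (by rw [vc_sAct, vc_vOf hu, h']), vc_vOf hu⟩

theorem sum_sgn_eq_zero_of {F : Finset V6} (hadd : ∀ u ∈ F, ∀ v ∈ F, u + v ∈ F) {v u0 : V6}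
    (hu0 : u0 ∈ F) (h : polB u0 v ≠ 0) : ∑ u ∈ F, sgnK (polB u v) = 0 := by
  have hinv : ∀ u : V6, u + u0 + u0 = u := fun u => by rw [add_assoc, v6_two, add_zero]
  have h1 := (polB_prime u0 v).resolve_left h
  have hb : ∑ u ∈ F, sgnK (polB u v) = ∑ u ∈ F, sgnK (polB (u + u0) v) :=
    Finset.sum_nbij' (fun u => u + u0) (fun u => u + u0) (fun u hu => hadd u hu u0 hu0)
      (fun u hu => hadd u hu u0 hu0) (fun u _ => hinv u) (fun u _ => hinv u)
      (fun u _ => by rw [hinv])
  have h2 : ∀ u, sgnK (polB (u + u0) v) = - sgnK (polB u v) := fun u => by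
    have hc : ∀ x y : V6, polB x y = polB y x := fun x y => by
      simp only [polB, add_comm x y, add_assoc, add_comm (nf x) (nf y)]
    rw [polB_add_left, hc u v, hc u0 v, sgnK_add, hc v u0, h1]
    simp [sgnK]
  rw [Finset.sum_congr rfl fun u _ => h2 u, Finset.sum_neg_distrib] at hb
  omega

/-- a subgroup and its orthogonal have product of orders 4096 -/
theorem card_perp {F : Finset V6} (hne : F.Nonempty) (hadd : ∀ u ∈ F, ∀ v ∈ F, u + v ∈ F) :
    F.card * (Finset.univ.filter fun v : V6 => ∀ u ∈ F, polB u v = 0).card = 4096 := by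
  classical
  have key : ∑ v : V6, (∑ u ∈ F, sgnK (polB u v)) ^ 2 = F.card * 4096 := by
    have e : ∀ v : V6, (∑ u ∈ F, sgnK (polB u v)) ^ 2 =
        ∑ u ∈ F, ∑ u' ∈ F, sgnK (polB (u + u') v) := fun v => by
      rw [sq, Finset.sum_mul_sum]
      refine Finset.sum_congr rfl fun u _ => Finset.sum_congr rfl fun u' _ => ?_
      rw [polB_add_left]
      have hc : ∀ x y : V6, polB x y = polB y x := fun x y => by
        simp only [polB, add_comm x y, add_assoc, add_comm (nf x) (nf y)]
      rw [hc u v, hc u' v, sgnK_add]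
    rw [Finset.sum_congr rfl fun v _ => e v, Finset.sum_comm,
      Finset.sum_congr rfl fun u _ => Finset.sum_comm]
    have e2 : ∀ u ∈ F, ∀ u' ∈ F, ∑ v : V6, sgnK (polB (u + u') v) = if u' = u then 4096 else 0 := by
      intro u _ u' _
      split_ifs with h
      · have hz : ∀ v, polB (0 : V6) v = 0 := fun v => by
          rw [polB, zero_add]; simp [nf, Cfsg.hermForm, k_two]
        have hcard : Fintype.card V6 = 4096 := by
          rw [Fintype.card_fun, ← Nat.card_eq_fintype_card, card_K4, Fintype.card_fin]; norm_num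
        simp [h, v6_two, hz, sgnK, hcard]
      · refine sum_sgn fun e => h ?_
        calc u' = (u + u') + u := by rw [add_comm u u', add_assoc, v6_two, add_zero]
          _ = u := by rw [e, zero_add]
    rw [Finset.sum_congr rfl fun u hu => Finset.sum_congr rfl (e2 u hu)]
    simp
  have h2 : ∀ v : V6, (∑ u ∈ F, sgnK (polB u v)) ^ 2 =
      if ∀ u ∈ F, polB u v = 0 then (F.card : ℤ) ^ 2 else 0 := by
    intro v
    split_ifs with h
    · rw [Finset.sum_congr rfl fun u hu => by rw [h u hu], Finset.sum_const]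
      simp [sgnK]
    · push Not at h
      obtain ⟨u0, hu0, hne0⟩ := h
      rw [sum_sgn_eq_zero_of hadd hu0 hne0]; norm_num
  rw [Finset.sum_congr rfl fun v _ => h2 v, Finset.sum_ite, Finset.sum_const_zero, add_zero,
    Finset.sum_const, nsmul_eq_mul] at key
  have hpos : (F.card : ℤ) ≠ 0 := by exact_mod_cast hne.card_ne_zero
  have : (F.card : ℤ) * (Finset.univ.filter fun v : V6 => ∀ u ∈ F, polB u v = 0).card = 4096 :=
    mul_left_cancel₀ hpos (by rw [← key]; ring)
  exact_mod_cast this

namespace Model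

variable {H : Type*} [Group H] [Finite H] {Q : Subgroup H} [Q.Normal] {z : H} (D : Model Q z)

omit [Finite H] in
theorem commute_iff_polB (a b : Q) : (a : H) * b = b * a ↔ polB (D.vec a) (D.vec b) = 0 := by
  rw [D.vec_comm, polB, hermForm_polar]
  exact ⟨fun h => by rw [h]; rfl, fun h => congrArg QuadraticAlgebra.re h⟩

omit [Finite H] in
theorem vec_zero_iff (a : Q) : D.vec a = 0 ↔ (a : H) = 1 ∨ (a : H) = z := D.vec_eq_zero a

/-- the reading of `Q` as a homomorphism -/
def vecM : Q →* Multiplicative V6 :=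
  MonoidHom.mk' (fun a => Multiplicative.ofAdd (D.vec a)) fun a b => by rw [D.vec_mul]; rfl

/-- the members of `Q` fixed by an element modulo the centre -/
def fixP (h : H) : Subgroup Q where
  carrier := {a | D.act h (D.vec a) = D.vec a}
  one_mem' := by
    show D.act h (D.vec 1) = D.vec 1
    rw [(D.vec_zero_iff 1).2 (Or.inl rfl), map_zero]
  mul_mem' := fun {a b} ha hb => by
    show D.act h (D.vec (a * b)) = D.vec (a * b)
    rw [D.vec_mul, map_add]
    exact congrArg₂ (· + ·) ha hb
  inv_mem' := fun {a} ha => by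
    have e : D.vec a⁻¹ = D.vec a := by
      have h' := D.vec_mul a a⁻¹
      rw [mul_inv_cancel, (D.vec_zero_iff 1).2 (Or.inl rfl)] at h'
      exact add_left_cancel (h'.symm.trans (v6_two (D.vec a)).symm)
    show D.act h (D.vec a⁻¹) = D.vec a⁻¹
    rw [e]; exact ha

/-- the fixed vectors of an element -/
noncomputable def fixV (h : H) : Finset V6 := Finset.univ.filter fun v => D.act h v = v

omit [Finite H] in
theorem mem_fixV {h : H} {v : V6} : v ∈ D.fixV h ↔ D.act h v = v := by simp [fixV]

omit [Finite H] in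
theorem card_fixP (h : H) : Nat.card (D.fixP h) = 2 * (D.fixV h).card := by
  classical
  let f : D.fixP h →* Multiplicative V6 := D.vecM.comp (D.fixP h).subtype
  have hr : Nat.card f.range = (D.fixV h).card := by
    rw [← Nat.card_eq_finsetCard]
    refine Nat.card_congr (Equiv.subtypeEquiv Multiplicative.toAdd fun v => ?_)
    rw [D.mem_fixV]
    constructor
    · rintro ⟨a, rfl⟩
      exact a.2
    · intro hv
      obtain ⟨a, ha⟩ := D.vec_surj (Multiplicative.toAdd v)
      exact ⟨⟨a, show D.act h (D.vec a) = D.vec a by rw [ha]; exact hv⟩, congrArg Multiplicative.ofAdd ha⟩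
  have hk : Nat.card f.ker = 2 := by
    have hzm : (⟨z, D.xc.mem⟩ : Q) ∈ D.fixP h := by
      show D.act h (D.vec _) = D.vec _
      rw [(D.vec_zero_iff ⟨z, D.xc.mem⟩).2 (Or.inr rfl), map_zero]
    have hzk : (⟨⟨z, D.xc.mem⟩, hzm⟩ : D.fixP h) ∈ f.ker :=
      congrArg Multiplicative.ofAdd ((D.vec_zero_iff ⟨z, D.xc.mem⟩).2 (Or.inr rfl))
    refine Nat.card_eq_two_iff.2 ⟨1, ⟨_, hzk⟩, ?_, ?_⟩
    · intro e
      exact D.xc.ne_one (congrArg (fun x : f.ker => ((x.1.1 : Q) : H)) e).symm
    · refine Set.eq_univ_of_forall fun x => ?_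
      rcases (D.vec_zero_iff x.1.1).1 (congrArg Multiplicative.toAdd x.2) with e | e
      · exact Or.inl (Subtype.ext (Subtype.ext (Subtype.ext e)))
      · exact Or.inr (Subtype.ext (Subtype.ext (Subtype.ext e)))
  rw [← Subgroup.card_mul_index f.ker, Subgroup.index_ker, hr, hk]

omit [Finite H] in
theorem fixV_conj (k h : H) : (D.fixV (k * h * k⁻¹)).card = (D.fixV h).card := by
  refine (Finset.card_nbij' (fun v => D.act k v) (fun v => D.act k⁻¹ v) ?_ ?_ ?_ ?_).symm
  · intro v hv
    rw [Finset.mem_coe, D.mem_fixV] at hv ⊢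
    rw [D.act_mul_apply, D.act_mul_apply, D.act_inv_apply, hv]
  · intro v hv
    rw [Finset.mem_coe, D.mem_fixV] at hv ⊢
    rw [D.act_mul_apply, D.act_mul_apply] at hv
    show D.act h (D.act k⁻¹ v) = D.act k⁻¹ v
    conv_rhs => rw [← hv]
    rw [D.act_inv_apply]
  · intro v _; exact D.act_inv_apply k v
  · intro v _; exact D.act_apply_inv k v

theorem exists_conj_le_std (A : Subgroup H) (hA : IsPGroup 2 A) :
    ∃ k : H, ∀ a ∈ A, k * a * k⁻¹ ∈ D.std := by
  haveI : Fact (Nat.Prime 2) := ⟨Nat.prime_two⟩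
  have hfac : (Nat.card H).factorization 2 = 21 := by
    rw [D.card_H, Nat.factorization_mul (by norm_num) (by norm_num), Finsupp.add_apply,
      Nat.factorization_eq_zero_of_not_dvd (by norm_num : ¬ (2 : ℕ) ∣ 10395), add_zero]
    rw [Nat.prime_two.factorization_pow, Finsupp.single_eq_same]
  let S : Sylow 2 H := Sylow.ofCard D.std (by rw [hfac, D.card_std])
  obtain ⟨P, hP⟩ := hA.exists_le_sylow
  obtain ⟨k, hk⟩ := MulAction.exists_smul_eq H P S
  refine ⟨k, fun a ha => ?_⟩
  show k * a * k⁻¹ ∈ (S : Subgroup H)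
  rw [← hk]
  exact ⟨a, hP ha, rfl⟩

omit [Finite H] in
theorem flag_iff {h : H} {p : ℕ} (hp : p ∈ sylL) (e : ∀ v, D.act h v = sAct p v) :
    flag p = false ↔ h ∈ D.M := by
  constructor
  · intro hf
    obtain ⟨h', hh', e'⟩ := D.lift_linear hp hf
    have h1 := D.mem_of_act_eq (a := h') (b := h) fun v => by rw [e', e]
    simpa using D.M.mul_mem hh' (D.Q_le h1)
  · intro hh
    obtain ⟨g, -, eg⟩ := D.M_lin h hh
    by_contra hf
    rw [Bool.not_eq_false] at hf
    have hg : ∀ v, mat g *ᵥ v = sAct p v := fun v => (eg v).symm.trans (e v)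
    let v0 : V6 := fun i => if i = 0 then 1 else 0
    have h1 : mat g *ᵥ (om • v0) = om • (mat g *ᵥ v0) := Matrix.mulVec_smul _ _ _
    rw [hg, hg] at h1
    have h2 : sAct p (om • v0) = (om ^ 2) • sAct p v0 := by
      simp only [sAct, hf, if_true, gal_smul, Matrix.mulVec_smul]
    rw [h2] at h1
    have hne : (om ^ 2 - om : K4) ≠ 0 := by decide +kernel
    have h3 : sAct p v0 = 0 := by
      have : (om ^ 2 - om) • sAct p v0 = 0 := by rw [sub_smul, h1, sub_self]
      exact (smul_eq_zero.1 this).resolve_left hne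
    rw [← e] at h3
    have h4 : v0 = 0 :=
      Function.LeftInverse.injective (D.act_inv_apply h) (h3.trans (map_zero _).symm)
    have := congrFun h4 0
    simp [v0] at this

/-- the fixed space of an involution outside `Q` -/
theorem fixV_involution {s : H} (hs : s * s = 1) (hsQ : s ∉ Q) :
    (s ∈ D.M → (D.fixV s).card = 256) ∧ (s ∉ D.M → (D.fixV s).card = 64) := by
  classical
  have hA : IsPGroup 2 (Subgroup.zpowers s) := by
    refine IsPGroup.of_card (n := 1) ?_
    rw [Nat.card_zpowers, pow_one]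
    exact orderOf_eq_prime (by rw [pow_two, hs]) fun e => hsQ (e ▸ one_mem _)
  obtain ⟨k, hk⟩ := D.exists_conj_le_std _ hA
  obtain ⟨p, hp, ep⟩ := hk s (Subgroup.mem_zpowers s)
  have hnn : k * s * k⁻¹ ∉ Q := fun h => hsQ (by
    have := (inferInstance : Q.Normal).conj_mem _ h k⁻¹
    simpa [mul_assoc] using this)
  have hne : p ≠ 2 * oneC := by
    rintro rfl
    refine hnn ((D.ker_act _).1 (AddMonoidHom.ext fun v => ?_))
    show D.act (k * s * k⁻¹) v = v
    rw [ep, sAct_one]
  have hsq : sMul p p = 2 * oneC := by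
    refine (sylL_act_inj one_mem_sylL (canB_sMul p p) fun v => ?_).symm
    rw [sAct_one, sAct_sMul, ← ep, ← ep, ← D.act_mul_apply,
      show k * s * k⁻¹ * (k * s * k⁻¹) = 1 by simp [mul_assoc]; rw [← mul_assoc s, hs, one_mul, mul_inv_cancel], map_one]
    rfl
  have hinv : p ∈ invL := by
    have h := List.all_eq_true.1 invL_check p hp
    simp only [Bool.or_eq_true, Nat.beq_eq, Bool.not_eq_true', memV_iff] at h
    rcases h with (h | h) | h
    · exact absurd h hne
    · rw [← Bool.not_eq_true, Nat.beq_eq] at h; exact absurd hsq h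
    · exact h
  have hfc := Nat.eq_of_beq_eq_true (List.all_eq_true.1 fixCount_ok p hinv)
  have hcard : (D.fixV s).card = fixCount p := by
    rw [← D.fixV_conj k s, ← fixed_card p]
    congr 1
    ext v
    rw [Finset.mem_filter, D.mem_fixV, ep]
    simp
  have hM : s ∈ D.M ↔ k * s * k⁻¹ ∈ D.M := by
    have hn : D.M.Normal := Subgroup.normal_of_index_eq_two D.M_index
    exact ⟨fun h => hn.conj_mem _ h k, fun h => by simpa [mul_assoc] using hn.conj_mem _ h k⁻¹⟩
  rw [hcard, hfc, hM, ← D.flag_iff hp ep]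
  constructor
  · intro h; rw [h]; rfl
  · intro h; rw [Bool.not_eq_false] at h; rw [h]; rfl

omit [Finite H] in
/-- a displacement is orthogonal to the fixed vectors -/
theorem displacement_perp (h : H) (u : V6) {v : V6} (hv : D.act h v = v) :
    polB v (D.act h u + u) = 0 := by
  have e : polB v (D.act h u) = polB v u := by
    simp only [polB]
    rw [show v + D.act h u = D.act h (v + u) by rw [map_add, hv], D.act_nf, D.act_nf]
  rw [polB_add_right, e, k_two]

omit [Finite H] in
/-- the vectors orthogonal to the fixed ones are the displacements -/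
theorem mem_range_of_perp (h : H) {w : V6} (hw : ∀ v, D.act h v = v → polB v w = 0) :
    ∃ u, D.act h u + u = w := by
  classical
  let δ : V6 →+ V6 := AddMonoidHom.mk' (fun u => D.act h u + u) fun a b => by
    rw [map_add]; abel
  let R : Finset V6 := Finset.univ.image δ
  have hadd : ∀ a ∈ D.fixV h, ∀ b ∈ D.fixV h, a + b ∈ D.fixV h := fun a ha b hb => by
    rw [D.mem_fixV] at *; rw [map_add, ha, hb]
  have hne : (D.fixV h).Nonempty := ⟨0, D.mem_fixV.2 (map_zero _)⟩
  have hperp := card_perp hne hadd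
  have hR : (D.fixV h).card * R.card = 4096 := by
    have hk : Nat.card δ.ker = (D.fixV h).card := by
      rw [← Nat.card_eq_finsetCard]
      refine Nat.card_congr (Equiv.subtypeEquiv (Equiv.refl _) fun v => ?_)
      rw [AddMonoidHom.mem_ker, Equiv.refl_apply, D.mem_fixV]
      show D.act h v + v = 0 ↔ _
      exact ⟨fun e => add_right_cancel (e.trans (v6_two v).symm), fun e => by rw [e, v6_two]⟩
    have hr : Nat.card δ.range = R.card := by
      rw [← Nat.card_eq_finsetCard]
      exact Nat.card_congr (Equiv.subtypeEquiv (Equiv.refl _) fun v => by simp [R, AddMonoidHom.mem_range])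
    have h' := AddSubgroup.card_mul_index δ.ker
    rw [AddSubgroup.index_ker, hk, hr, Nat.card_fun, card_K4, Nat.card_eq_fintype_card,
      Fintype.card_fin] at h'
    exact h'.trans (by norm_num)
  have hsub : R ⊆ Finset.univ.filter fun v : V6 => ∀ u ∈ D.fixV h, polB u v = 0 := by
    intro v hv
    obtain ⟨u, -, rfl⟩ := Finset.mem_image.1 hv
    exact Finset.mem_filter.2 ⟨Finset.mem_univ _, fun a ha => D.displacement_perp h u (D.mem_fixV.1 ha)⟩
  have heq := Finset.eq_of_subset_of_card_le hsub
    (le_of_eq (Nat.eq_of_mul_eq_mul_left (Finset.card_pos.2 hne) (hperp.trans hR.symm)))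
  have : w ∈ R := by
    rw [heq]
    exact Finset.mem_filter.2 ⟨Finset.mem_univ _, fun u hu => hw u (D.mem_fixV.1 hu)⟩
  obtain ⟨u, -, hu⟩ := Finset.mem_image.1 this
  exact ⟨u, hu⟩

omit [Finite H] in
/-- with 64 fixed vectors an involution fixes only displacements -/
theorem displacement_of_fixed {h : H} (hh : h * h = 1) (h64 : (D.fixV h).card = 64) {w : V6}
    (hw : D.act h w = w) : ∃ u, D.act h u + u = w := by
  classical
  let δ : V6 →+ V6 := AddMonoidHom.mk' (fun u => D.act h u + u) fun a b => by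
    rw [map_add]; abel
  let R : Finset V6 := Finset.univ.image δ
  have hsub : R ⊆ D.fixV h := by
    intro v hv
    obtain ⟨u, -, rfl⟩ := Finset.mem_image.1 hv
    rw [D.mem_fixV]
    show D.act h (D.act h u + u) = D.act h u + u
    rw [map_add, ← D.act_mul_apply, hh, map_one]
    exact add_comm u _
  have hk : Nat.card δ.ker = 64 := by
    rw [← h64, ← Nat.card_eq_finsetCard]
    refine Nat.card_congr (Equiv.subtypeEquiv (Equiv.refl _) fun v => ?_)
    rw [AddMonoidHom.mem_ker, Equiv.refl_apply, D.mem_fixV]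
    show D.act h v + v = 0 ↔ _
    exact ⟨fun e => add_right_cancel (e.trans (v6_two v).symm), fun e => by rw [e, v6_two]⟩
  have hr : Nat.card δ.range = R.card := by
    rw [← Nat.card_eq_finsetCard]
    exact Nat.card_congr (Equiv.subtypeEquiv (Equiv.refl _) fun v => by simp [R, AddMonoidHom.mem_range])
  have h' := AddSubgroup.card_mul_index δ.ker
  rw [AddSubgroup.index_ker, hk, hr, Nat.card_fun, card_K4, Nat.card_eq_fintype_card,
    Fintype.card_fin] at h'
  have heq := Finset.eq_of_subset_of_card_le hsub (by rw [h64]; omega)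
  have : w ∈ R := by rw [heq]; exact D.mem_fixV.2 hw
  obtain ⟨u, -, hu⟩ := Finset.mem_image.1 this
  exact ⟨u, hu⟩

end Model

end CfsgLib.Spor.LargeFi.J4
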