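import Cfsg.Agent.Lib.Spor.LargeJ4.Kry
import Cfsg.Agent.Lib.Spor.LargeJ4.PinData

/-!
Kernel checks for the generators of the triple cover of `M22` inside `SU₆(2)`.
-/

set_option autoImplicit false
set_option maxRecDepth 100000
set_option Elab.async false

namespace CfsgLib.Spor.LargeFi.J4

open CfsgLib.Spor.U62

/-- the scalars -/
def scalL : List ℕ := [oneC, omC, mulC omC omC]

/-- the cube of the first generator -/
def XC3 : ℕ := powC XC 3

/-- the square of the second generator -/
def YC2 : ℕ := powC YC 2

/-- a candidate for the second generator -/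
def candY (u : ℕ) : ℕ := mulC (colsC (iterV XC3 u)) kXi

/-- the test on a candidate for the second generator -/
def okY (g : ℕ) : Bool :=
  !(unitB g && Nat.beq (powC g 5) oneC) || ctY.any fun e => Nat.beq e.1 g

/-- columns for the second generator -/
def colsYf (m u a b : ℕ) : ℕ → ℕ
  | 4 => a
  | 5 => b
  | n => iterV m u n

/-- a candidate for the third generator -/
def candF (u a b : ℕ) : ℕ := mulC (colsC (colsYf YC2 u a b)) kYi

/-- the two relators -/
def relB (e g : ℕ) : Bool :=
  memV scalL (powC (mulC (mulC (mulC (powC XC e) g) g) YC) 3) &&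
    memV scalL (powC (mulC (powC XC e) g) 7)

/-- the test on a candidate for the third generator -/
def okF (g : ℕ) : Bool :=
  !unitB g || !(relB 1 g || relB 10 g) || ctF.any fun e => Nat.beq e.1 g

theorem base_codes : ([XC, YC, FC, omC].all fun c =>
    Nat.beq (build fun i j => ent c i j) c && unitB c) = true := by decide +kernel

theorem det_XC : (ofCode XC).det = 1 := by decide +kernel
theorem det_YC : (ofCode YC).det = 1 := by decide +kernel
theorem det_FC : (ofCode FC).det = 1 := by decide +kernel
theorem det_omC : (ofCode omC).det = 1 := by decide +kernel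

theorem scal_om : ofCode omC = om • (1 : Matrix (Fin 6) (Fin 6) K4) := by decide +kernel

theorem XY_rel : (Nat.beq (mulC YC XC) (mulC XC3 YC) && Nat.beq (powC YC 5) oneC &&
    !Nat.beq YC oneC && Nat.beq (powC XC 11) oneC && !Nat.beq XC oneC && relB 1 FC &&
    Nat.beq (mulC FC YC) (mulC YC2 FC)) = true := by decide +kernel

theorem kX_inv : Nat.beq (mulC (colsC (iterV XC kX)) kXi) oneC = true := by decide +kernel

theorem kY_inv : (Nat.beq (mulC (colsC (colsYf YC kY kY1 kY2)) kYi) oneC &&
    Nat.beq (Nat.xor (mvC YC kYpre) kYpre) kY && Nat.beq (mvC YC kY1) kY1 &&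
    Nat.beq (mvC YC kY2) kY2) = true := by decide +kernel

theorem movL_cover : ((List.range 4096).all fun t => memV movL (Nat.xor (mvC YC2 t) t)) = true := by
  decide +kernel

theorem fixTwoL_cover : ((List.range 4096).all fun t => !Nat.beq (mvC YC2 t) t || memV fixTwoL t) =
    true := by decide +kernel

theorem ctY_ok : (ctY.all fun e => invB e.2 && Nat.beq (mulC e.2 XC) (mulC XC e.2) &&
    Nat.beq (mulC (mulC e.2 YC) (invC e.2)) e.1) = true := by decide +kernel

theorem ctF_ok : (ctF.all fun e => invB e.2.1 && Nat.beq (mulC e.2.1 XC) (mulC XC e.2.1) &&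
    Nat.beq (mulC e.2.1 YC) (mulC YC e.2.1) &&
    Nat.beq (mulC (mulC (invC e.2.1) e.1) e.2.1)
      (mulC (mulC FC (powC YC e.2.2.1)) (powC omC e.2.2.2))) = true := by decide +kernel

theorem candY_ok : ((List.range 4096).all fun u =>
    !Nat.beq (hC u (mvC XC3 u)) (hC kX (mvC XC kX)) || !Nat.beq (nfC u) (nfC kX) ||
      okY (candY u)) = true := by decide +kernel

theorem candF_ok : (movL.all fun u =>
    !Nat.beq (nfC u) (nfC kY) || !Nat.beq (hC u (mvC YC2 u)) (hC kY (mvC YC kY)) ||
      !Nat.beq (hC u (iterV YC2 u 2)) (hC kY (iterV YC kY 2)) ||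
      fixTwoL.all fun a => !Nat.beq (nfC a) (nfC kY1) ||
        fixTwoL.all fun b => !Nat.beq (nfC b) (nfC kY2) || !Nat.beq (hC a b) (hC kY1 kY2) ||
          okF (candF u a b)) = true := by decide +kernel

end CfsgLib.Spor.LargeFi.J4
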