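import Cfsg.Agent.Lib.Spor.LargeJ4.RealCheck
import Cfsg.Agent.Lib.Spor.LargeJ4.Model

/-!
The standard Sylow 2-subgroup of codes is realised in a model: with a standard outer element every
code is the action of an element, and the elements so acting form a subgroup.
-/

set_option autoImplicit false
set_option maxRecDepth 100000
set_option maxHeartbeats 1000000

namespace CfsgLib.Spor.LargeFi.J4

open CfsgLib.Spor.U62 CfsgLib.ThreeTransp
open Matrix

theorem sylL_nodup : sylL.Nodup := by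
  rw [List.nodup_iff_pairwise_ne]
  exact ((incrB_spec sylL_incr).pairwise).imp fun h => ne_of_lt h

theorem sylL_length : sylL.length = 256 := by
  have h := sylL_codes
  simp only [Bool.and_eq_true, Nat.beq_eq] at h
  exact h.1.1.1

theorem one_mem_sylL : 2 * oneC ∈ sylL := by
  have h := sylL_codes
  simp only [Bool.and_eq_true, memV_iff] at h
  exact h.1.1.2

theorem sylL_can {p : ℕ} (hp : p ∈ sylL) : canB p = true ∧ colB p = true := by
  have h := sylL_codes
  simp only [Bool.and_eq_true, List.all_eq_true] at h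
  exact h.2 p hp

theorem tau_mem_sylL : tauP ∈ sylL := by
  have h := sylL_codes
  simp only [Bool.and_eq_true, memV_iff] at h
  exact h.1.2

theorem sylL_act_inj {p q : ℕ} (hp : p ∈ sylL) (hq : canB q = true)
    (h : ∀ v, sAct p v = sAct q v) : p = q :=
  sAct_eq_code (sylL_can hp).1 hq (sylL_can hp).2 h

theorem mem_realT_in {c : ℕ} (hc : c ∈ realT) : In L0 c :=
  In.prog realProg_ok gens0_in c hc

theorem sylL_mul {p q : ℕ} (hp : p ∈ sylL) (hq : q ∈ sylL) :
    ∃ r ∈ sylL, ∀ v, sAct r v = sAct p (sAct q v) := by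
  have hcov : q ∈ 2 * oneC :: realTree.map Prod.fst := by
    have := realTree_cover
    simp only [List.all_eq_true, memV_iff] at this
    exact this q hq
  refine mem_of_treeR (P := fun q => ∀ p ∈ sylL, ∃ r ∈ sylL, ∀ v, sAct r v = sAct p (sAct q v))
    (fun p hp => ⟨p, hp, fun v => by rw [sAct_one]⟩) ?_ _ _ realTree_ok (by simp) q hcov p hp
  intro u a j hu ha p hp
  rw [Nat.beq_eq] at hu
  obtain ⟨r, hr, e⟩ := ha p hp
  subst hu
  by_cases hj : j < realG.length
  · rw [List.getD_eq_getElem _ _ hj]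
    have h := sylL_right
    simp only [List.all_eq_true, memV_iff] at h
    exact ⟨_, h _ (List.getElem_mem hj) r hr, fun v => by rw [sAct_sMul, e, sAct_sMul]⟩
  · rw [List.getD_eq_default _ _ (not_lt.1 hj)]
    exact ⟨r, hr, fun v => by rw [sAct_sMul, e, sAct_one]⟩

theorem sylL_linear {p : ℕ} (hp : p ∈ sylL) (hf : flag p = false) :
    ∃ g ∈ L0, ∀ v, sAct p v = mat g *ᵥ v := by
  have h := linTree_cover
  simp only [Bool.and_eq_true, List.all_eq_true, Bool.or_eq_true, Bool.not_eq_true', memV_iff] at h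
  refine mem_of_treeR (P := fun q => ∃ g ∈ L0, ∀ v, sAct q v = mat g *ᵥ v)
    ⟨1, one_mem _, fun v => by rw [sAct_one, map_one, Matrix.one_mulVec]⟩ ?_ _ _ linTree_ok
    (by simp) p ((h.2 p hp).resolve_left (by rw [hf]; exact Bool.false_ne_true))
  intro u a j hu ⟨g, hg, eg⟩
  simp only [Bool.and_eq_true, Nat.beq_eq] at hu
  obtain ⟨-, rfl⟩ := hu
  by_cases hj : j < linG.length
  · rw [List.getD_eq_getElem _ _ hj]
    obtain ⟨hfl, hm⟩ := h.1 _ (List.getElem_mem hj)
    obtain ⟨k, hk, ek⟩ := mem_realT_in hm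
    refine ⟨g * k, mul_mem hg hk, fun v => ?_⟩
    have e : sAct linG[j] v = mat k *ᵥ v := by
      rw [sAct, hfl, mat_eq, ek]
      simp only [Bool.false_eq_true, if_false]
    rw [sAct_sMul, eg, map_mul, ← Matrix.mulVec_mulVec, e]
  · rw [List.getD_eq_default _ _ (not_lt.1 hj)]
    exact ⟨g, hg, fun v => by rw [sAct_sMul, sAct_one, eg]⟩

namespace Model

variable {H : Type*} [Group H] [Finite H] {Q : Subgroup H} [Q.Normal] {z : H} (D : Model Q z)

omit [Finite H] in
theorem act_mul_apply (a b : H) (v : V6) : D.act (a * b) v = D.act a (D.act b v) := by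
  rw [map_mul]; rfl

omit [Finite H] in
theorem act_inv_apply (a : H) (v : V6) : D.act a⁻¹ (D.act a v) = v := by
  rw [← D.act_mul_apply, inv_mul_cancel, map_one]; rfl

omit [Finite H] in
theorem act_apply_inv (a : H) (v : V6) : D.act a (D.act a⁻¹ v) = v := by
  rw [← D.act_mul_apply, mul_inv_cancel, map_one]; rfl

/-- the elements acting as codes of the standard Sylow 2-subgroup -/
def std : Subgroup H where
  carrier := {h | ∃ p ∈ sylL, ∀ v, D.act h v = sAct p v}
  one_mem' := ⟨_, one_mem_sylL, fun v => by rw [map_one, sAct_one]; rfl⟩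
  mul_mem' := fun {a b} ⟨p, hp, ea⟩ ⟨q, hq, eb⟩ => by
    obtain ⟨r, hr, er⟩ := sylL_mul hp hq
    exact ⟨r, hr, fun v => by rw [er, D.act_mul_apply, eb, ea]⟩
  inv_mem' := fun {a} ha => by
    have key : ∀ n : ℕ, ∃ p ∈ sylL, ∀ v, D.act (a ^ n) v = sAct p v := by
      intro n
      induction n with
      | zero => exact ⟨_, one_mem_sylL, fun v => by rw [pow_zero, map_one, sAct_one]; rfl⟩
      | succ n ih =>
        obtain ⟨p, hp, ep⟩ := ih
        obtain ⟨q, hq, eq⟩ := ha
        obtain ⟨r, hr, er⟩ := sylL_mul hp hq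
        exact ⟨r, hr, fun v => by rw [pow_succ, er, D.act_mul_apply, eq, ep]⟩
    have e : a ^ (orderOf a - 1) = a⁻¹ :=
      eq_inv_of_mul_eq_one_left (by
        rw [← pow_succ, Nat.sub_add_cancel (orderOf_pos a), pow_orderOf_eq_one])
    show ∃ p ∈ sylL, ∀ v, D.act a⁻¹ v = sAct p v
    rw [← e]
    exact key _

omit [Finite H] in
theorem lift_linear {p : ℕ} (hp : p ∈ sylL) (hf : flag p = false) :
    ∃ h ∈ D.M, ∀ v, D.act h v = sAct p v := by
  obtain ⟨g, hg, e⟩ := sylL_linear hp hf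
  obtain ⟨h, hh, eh⟩ := D.L0_lift g hg
  exact ⟨h, hh, fun v => by rw [eh, e]⟩

omit [Finite H] in
theorem lift_code {p : ℕ} (hp : p ∈ sylL) :
    ∃ h, ∀ v, D.act h v = sAct p v := by
  cases hf : flag p
  · obtain ⟨h, -, e⟩ := D.lift_linear hp hf
    exact ⟨h, e⟩
  obtain ⟨h0, -, e0⟩ := D.outer
  obtain ⟨r, hr, er⟩ := sylL_mul tau_mem_sylL hp
  have e1 : r = sMul tauP p :=
    sylL_act_inj hr (canB_sMul _ _) fun v => by rw [er, sAct_sMul]
  have hrf : flag r = false := by
    have h := List.all_eq_true.1 tau_left p hp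
    simp only [hf, Bool.not_true, Bool.false_or, Bool.not_eq_true'] at h
    rw [e1, h]
  obtain ⟨a, -, ea⟩ := D.lift_linear hr hrf
  exact ⟨h0 * a, fun v => by rw [D.act_mul_apply, ea, e0, er, tau_sq]⟩

omit [Finite H] in
theorem mem_of_act_eq {a b : H} (h : ∀ v, D.act a v = D.act b v) : a⁻¹ * b ∈ Q := by
  refine (D.ker_act _).1 (AddMonoidHom.ext fun v => ?_)
  show D.act (a⁻¹ * b) v = v
  rw [D.act_mul_apply, ← h, D.act_inv_apply]

omit [Finite H] in
/-- The image of a subgroup of coded elements is counted by its codes. -/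
theorem card_image (A : Subgroup H) (S : Finset ℕ) (hS : ∀ p ∈ S, p ∈ sylL)
    (h1 : ∀ h ∈ A, ∃ p ∈ S, ∀ v, D.act h v = sAct p v)
    (h2 : ∀ p ∈ S, ∃ h ∈ A, ∀ v, D.act h v = sAct p v) :
    Nat.card ↥(A.map (QuotientGroup.mk' Q)) = S.card := by
  choose f hfA hf using fun p : S => h2 p.1 p.2
  rw [← Nat.card_eq_finsetCard]
  refine (Nat.card_congr (Equiv.ofBijective
    (fun p : S => (⟨(f p : H ⧸ Q), f p, hfA p, rfl⟩ : ↥(A.map (QuotientGroup.mk' Q)))) ⟨?_, ?_⟩)).symm
  · intro p q e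
    have e' : (f p)⁻¹ * f q ∈ Q := QuotientGroup.eq.1 (Subtype.ext_iff.1 e)
    refine Subtype.ext (sylL_act_inj (hS _ p.2) (sylL_can (hS _ q.2)).1 fun v => ?_)
    rw [← hf p, ← hf q]
    conv_rhs => rw [show f q = f p * ((f p)⁻¹ * f q) by rw [mul_inv_cancel_left]]
    rw [D.act_mul_apply, (D.ker_act _).2 e']; rfl
  · rintro ⟨_, h, hh, rfl⟩
    obtain ⟨p, hp, e⟩ := h1 h hh
    refine ⟨⟨p, hp⟩, Subtype.ext (QuotientGroup.eq.2 ?_)⟩
    exact D.mem_of_act_eq fun v => by rw [hf, e]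

theorem card_split (A : Subgroup H) :
    Nat.card A = Nat.card ↥(A ⊓ Q) * Nat.card ↥(A.map (QuotientGroup.mk' Q)) := by
  let φ := (QuotientGroup.mk' Q).comp A.subtype
  have hr : φ.range = A.map (QuotientGroup.mk' Q) := by
    rw [MonoidHom.range_comp, Subgroup.range_subtype]
  have hk : φ.ker = Q.subgroupOf A := by
    rw [← MonoidHom.comap_ker, QuotientGroup.ker_mk']; rfl
  have hq : Nat.card ↥(Q.subgroupOf A) = Nat.card ↥(A ⊓ Q) := by
    rw [inf_comm, ← Subgroup.inf_subgroupOf_right Q A]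
    exact Nat.card_congr (Subgroup.subgroupOfEquivOfLe inf_le_right).toEquiv
  rw [← Subgroup.card_mul_index φ.ker, Subgroup.index_ker, hr, hk, hq]

theorem card_std_image :
    Nat.card ↥(D.std.map (QuotientGroup.mk' Q)) = 256 := by
  rw [D.card_image D.std sylL.toFinset (fun p hp => List.mem_toFinset.1 hp)
    (fun h ⟨p, hp, e⟩ => ⟨p, List.mem_toFinset.2 hp, e⟩) ?_,
    List.toFinset_card_of_nodup sylL_nodup, sylL_length]
  intro p hp
  obtain ⟨h, e⟩ := D.lift_code (List.mem_toFinset.1 hp)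
  exact ⟨h, ⟨p, List.mem_toFinset.1 hp, e⟩, e⟩

theorem Q_le_std : Q ≤ D.std := fun q hq =>
  ⟨_, one_mem_sylL, fun v => by rw [(D.ker_act q).2 hq, sAct_one]; rfl⟩

theorem card_std : Nat.card D.std = 2 ^ 21 := by
  rw [card_split (Q := Q) D.std, D.card_std_image, inf_eq_right.2 D.Q_le_std, D.card_Q]
  norm_num

end Model

end CfsgLib.Spor.LargeFi.J4
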